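import Cfsg.Agent.Base
import Cfsg.Agent.Fischer.Hall
import Cfsg.Agent.Invol.Dihedral

/-!
# Normal sets of 3-transpositions: basic facts

`TT D` : `D` is a normal set of involutions any two of which commute or satisfy the braid relation.
`Fis D` : in addition `D` is a generating class on which the relations `τ` (same commutant) and
`θ` (same set `D_x`) are trivial and whose commuting graph is connected.
-/

set_option autoImplicit false

namespace CL.Fischer

open CL.Kei

variable {G : Type*} [Group G]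

theorem kA3 {a c b : G}
    (sa : a * a = 1) (sc : c * c = 1) (sb : b * b = 1)
    (h0 : cj a c = a)
    (h1 : cj a b = (cj b a))
    (h2 : cj c b = (cj b c))
    : cj (cj b a) (cj b c) = (cj b a) ∧
      cj (cj (cj b a) c) b = (cj (cj b a) c) := by
  have := check_sound_inv (a := a) (l := [c, b]) (ng := 3)
    (Df := (get 0x100030001000200000002000000000000000000000000 32))
    (F := (get 0x300040003000500020005000200050002000000050004000300050001000100050003000500000004000100040002000200040001000000030002000200030000000500010003000400020001000300020000000100000001000000010000000200010004000400010002000200000003000300000002000100010001000000000000 48))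
    (J := (get 0x8000900080006000500000000000000130004000b00110012000500060006000a0004000c0005000000000000001000030007000f0002000e0005000a0006000400020005000000000000000d000300050004000100090005000000000000000b0003000300020000000800050000000000000000000000000000000000020001000000000000000100010000000000000006000400000000000000000001000000000000000400030000000000000000000000000000000000020003000000000000000000000000000000000000000200000000000000000002 80))
    (M := 22)
    (hyps := [((.g 0), (.g 1), (.g 0)), ((.g 0), (.g 2), (.c (.g 2) (.g 0))), ((.g 1), (.g 2), (.c (.g 2) (.g 1)))])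
    (goals := [(((.c (.g 2) (.g 0)), (.c (.g 2) (.g 1)), (.c (.g 2) (.g 0))), 21), (((.c (.c (.g 2) (.g 0)) (.g 1)), (.g 2), (.c (.c (.g 2) (.g 0)) (.g 1))), 20)])
    ⟨sa, sc, sb, trivial⟩
    ⟨h0, h1, h2, trivial⟩ (by decide +kernel)
  exact ⟨this.1, this.2.1⟩

theorem kA3' {x y z : G}
    (sx : x * x = 1) (sy : y * y = 1) (sz : z * z = 1)
    (h0 : cj y z = y)
    (h1 : cj y x = (cj x y))
    (h2 : cj z x = (cj x z))
    : cj (cj (cj x y) z) x = (cj (cj x y) z) ∧
      cj y (cj (cj x y) z) = (cj z x) := by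
  have := check_sound_inv (a := x) (l := [y, z]) (ng := 3)
    (Df := (get 0x2000200030002000000010000000000000000000000000000 32))
    (F := (get 0x600050001000600040004000600060004000500000005000000050000000400050001000100050004000300050002000200050003000500010004000200040000000000030001000100030000000400060006000600000002000500020003000200000004000400000002000100000003000300000001000200010002000100020001000000020004000400020000000300010000000000000000 48))
    (J := (get 0x180014000a00000000000c00170009000000000000000c000300000000000000150004000e0012001300030006000000000000001300030004000a0002000d000500000000000000110003000500100001000f0005000a000400020001000500090008000000020005000000000000000d000300070006000000010005000000000008000b0007000000000000000000000000000000000000000000000000000000080003000000000000000200010000000000000006000300000000000000010001000000000000000400040000000000000000000100000000000000020003000000000000000000000000000000000000000000000000000000000002 80))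
    (M := 26)
    (hyps := [((.g 1), (.g 2), (.g 1)), ((.g 1), (.g 0), (.c (.g 0) (.g 1))), ((.g 2), (.g 0), (.c (.g 0) (.g 2)))])
    (goals := [(((.c (.c (.g 0) (.g 1)) (.g 2)), (.g 0), (.c (.c (.g 0) (.g 1)) (.g 2))), 22), (((.g 1), (.c (.c (.g 0) (.g 1)) (.g 2)), (.c (.g 2) (.g 0))), 25)])
    ⟨sx, sy, sz, trivial⟩
    ⟨h0, h1, h2, trivial⟩ (by decide +kernel)
  exact ⟨this.1, this.2.1⟩


theorem eq_of_commute_of_braid {a b : G} (ha : a * a = 1) (hb : b * b = 1) (h : Commute a b)
    (h' : cj a b = cj b a) : a = b := by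
  rw [(cj_eq_iff_commute hb).mpr h, (cj_eq_iff_commute ha).mpr h.symm] at h'
  exact h'

theorem commute_cj {u a b : G} (ha : Commute u a) (hb : Commute u b) : Commute u (cj a b) :=
  (hb.mul_right ha).mul_right hb

theorem commute_cj_iff {u a b : G} (hb : b * b = 1) (hu : Commute u b) :
    Commute u (cj a b) ↔ Commute u a :=
  ⟨fun h => by have := commute_cj h hu; rwa [cj_cj hb] at this, fun h => commute_cj h hu⟩

theorem conj_commute_iff (g : G) {a b : G} :
    Commute (g * a * g⁻¹) (g * b * g⁻¹) ↔ Commute a b := by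
  constructor
  · intro h
    have := h.map (MulAut.conj g⁻¹)
    simpa [mul_assoc] using this
  · intro h
    simpa using h.map (MulAut.conj g)

theorem conj_cj (g a b : G) : g * cj a b * g⁻¹ = cj (g * a * g⁻¹) (g * b * g⁻¹) := by
  simp only [cj]; group

theorem cj_commute_iff {a b c : G} (hc : c * c = 1) :
    Commute (cj a c) (cj b c) ↔ Commute a b := by
  rw [cj_eq_conj hc, cj_eq_conj hc, conj_commute_iff]

theorem cj_inj {a b c : G} (h : cj a c = cj b c) : a = b := by
  simpa [cj] using h

theorem commute_cj_swap {a b c : G} (hc : c * c = 1) :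
    Commute (cj a c) b ↔ Commute a (cj b c) := by
  rw [← cj_commute_iff (c := c) hc, cj_cj hc]

theorem cj_of_commute {a b : G} (hb : b * b = 1) (h : Commute a b) : cj a b = a :=
  (cj_eq_iff_commute hb).mpr h

/-- For braided involutions, `a * b` conjugates `a` to `b`. -/
theorem mul_conj_of_braid {a b : G} (ha : a * a = 1) (hb : b * b = 1) (h : cj a b = cj b a) :
    (a * b) * a * (a * b)⁻¹ = b := by
  rw [mul_inv_rev, inv_eq_of_mul_eq_one_right ha, inv_eq_of_mul_eq_one_right hb]
  calc a * b * a * (b * a) = cj (cj a b) a := by simp only [cj, mul_assoc]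
    _ = b := by rw [h, cj_cj ha]

theorem cj_cj_of_braid {a b : G} (ha : a * a = 1) (h : cj a b = cj b a) : cj (cj a b) a = b := by
  rw [h, cj_cj ha]

theorem cj_left_of_braid {a b : G} (ha : a * a = 1) (hb : b * b = 1) (h : cj a b = cj b a) :
    cj a (cj a b) = b := by
  have h1 := cj_dist (a := b) (b := a) (c := b) hb
  rw [cj_self hb, ← h, cj_cj hb] at h1
  have h2 : cj (cj b (cj a b)) (cj a b) = b := cj_cj (cj_sq ha hb)
  rw [← h1] at h2
  exact h2

/-- `cj (cj c a) b` is the conjugate of `c` by `b * a`. -/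
theorem cj_cj_eq_conj {a b : G} (c : G) (ha : a * a = 1) (hb : b * b = 1) :
    cj (cj c a) b = (b * a) * c * (b * a)⁻¹ := by
  rw [mul_inv_rev, inv_eq_of_mul_eq_one_right ha, inv_eq_of_mul_eq_one_right hb]
  simp only [cj, mul_assoc]

/-- A normal set of 3-transpositions. -/
structure TT (D : Set G) : Prop where
  sq : ∀ a ∈ D, a * a = 1
  dich : ∀ a ∈ D, ∀ b ∈ D, Commute a b ∨ cj a b = cj b a
  conj : ∀ g : G, ∀ a ∈ D, g * a * g⁻¹ ∈ D

/-- The members of `D` other than `a` commuting with `a`. -/
def Dx (D : Set G) (a : G) : Set G := {y : G | y ∈ D ∧ y ≠ a ∧ Commute a y}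

theorem mem_Dx {D : Set G} {a y : G} : y ∈ Dx D a ↔ y ∈ D ∧ y ≠ a ∧ Commute a y := Iff.rfl

theorem Dx_symm {D : Set G} {a y : G} (ha : a ∈ D) (h : y ∈ Dx D a) : a ∈ Dx D y :=
  ⟨ha, h.2.1.symm, h.2.2.symm⟩

namespace TT

variable {D : Set G} (hD : TT D)
include hD

theorem cj_mem {a b : G} (ha : a ∈ D) (hb : b ∈ D) : cj a b ∈ D := by
  rw [cj_eq_conj (hD.sq b hb)]; exact hD.conj b a ha

theorem inv_eq {a : G} (ha : a ∈ D) : a⁻¹ = a := inv_eq_of_mul_eq_one_right (hD.sq a ha)

theorem braid {a b : G} (ha : a ∈ D) (hb : b ∈ D) (h : ¬ Commute a b) : cj a b = cj b a :=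
  (hD.dich a ha b hb).resolve_left h

theorem braid_iff {a b : G} (ha : a ∈ D) (hb : b ∈ D) :
    cj a b = cj b a ↔ b ∉ Dx D a := by
  constructor
  · intro h hb'
    exact hb'.2.1 (eq_of_commute_of_braid (hD.sq a ha) (hD.sq b hb) hb'.2.2 h).symm
  · intro h
    by_cases hc : Commute a b
    · by_cases hab : b = a
      · rw [hab]
      · exact absurd ⟨hb, hab, hc⟩ h
    · exact hD.braid ha hb hc

theorem conj_mem_iff (g : G) {a : G} : g * a * g⁻¹ ∈ D ↔ a ∈ D :=
  ⟨fun h => by simpa [mul_assoc] using hD.conj g⁻¹ _ h, hD.conj g a⟩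

theorem conj_mem_Dx_iff (g : G) {a y : G} :
    g * y * g⁻¹ ∈ Dx D (g * a * g⁻¹) ↔ y ∈ Dx D a := by
  simp only [mem_Dx, hD.conj_mem_iff, conj_commute_iff, ne_eq, mul_left_inj, mul_right_inj]

theorem Dx_conj (g a : G) : Dx D (g * a * g⁻¹) = (fun y => g * y * g⁻¹) '' Dx D a := by
  ext y
  constructor
  · intro h
    refine ⟨g⁻¹ * y * g⁻¹⁻¹, ?_, by group⟩
    rw [← hD.conj_mem_Dx_iff g]
    convert h using 1; group
  · rintro ⟨z, hz, rfl⟩
    exact (hD.conj_mem_Dx_iff g).mpr hz

theorem Dx_conj_congr (g : G) {a b : G} (h : Dx D a = Dx D b) :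
    Dx D (g * a * g⁻¹) = Dx D (g * b * g⁻¹) := by
  rw [hD.Dx_conj, hD.Dx_conj, h]

/-- If `u` commutes with `a` and with the third point on the line through `a, b`, it commutes
with `b`. -/
theorem commute_of_cj {u a b : G} (ha : a ∈ D) (hb : b ∈ D) (hab : ¬ Commute a b)
    (h1 : Commute u a) (h2 : Commute u (cj a b)) : Commute u b := by
  rw [hD.braid ha hb hab] at h2
  exact (commute_cj_iff (hD.sq a ha) h1).mp h2

theorem not_commute_cj_left {a b : G} (ha : a ∈ D) (hb : b ∈ D) (hab : ¬ Commute a b) :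
    ¬ Commute a (cj a b) := fun h => hab (hD.commute_of_cj ha hb hab (Commute.refl a) h)

theorem not_commute_cj_right {a b : G} (hb : b ∈ D) (hab : ¬ Commute a b) :
    ¬ Commute b (cj a b) := fun h =>
  hab ((commute_cj_iff (hD.sq b hb) (Commute.refl b)).mp h).symm

theorem cj_ne {a b : G} (hb : b ∈ D) (hab : ¬ Commute a b) : cj a b ≠ a := fun h =>
  hab ((cj_eq_iff_commute (hD.sq b hb)).mp h)

theorem cj_cancel {e p q : G} (he : e ∈ D) (hp : p ∈ D) (hq : q ∈ D) (hep : ¬ Commute e p)
    (h : cj e p = cj e q) : p = q := by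
  have heq : ¬ Commute e q := fun h' => by
    rw [cj_of_commute (hD.sq q hq) h'] at h
    exact hD.cj_ne hp hep h
  rw [hD.braid he hp hep, hD.braid he hq heq] at h
  exact cj_inj h

theorem mul_conj {a b : G} (ha : a ∈ D) (hb : b ∈ D) (h : ¬ Commute a b) :
    (a * b) * a * (a * b)⁻¹ = b :=
  mul_conj_of_braid (hD.sq a ha) (hD.sq b hb) (hD.braid ha hb h)

/-- The two consequences of an `A₃` configuration `a - b - c`. -/
theorem a3 {a b c : G} (ha : a ∈ D) (hb : b ∈ D) (hc : c ∈ D) (hac : Commute a c)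
    (hab : ¬ Commute b a) (hbc : ¬ Commute b c) :
    Commute (cj b a) (cj b c) ∧ Commute (cj (cj b a) c) b := by
  have := kA3 (hD.sq a ha) (hD.sq c hc) (hD.sq b hb) (cj_of_commute (hD.sq c hc) hac)
    (hD.braid hb ha hab).symm (hD.braid hb hc hbc).symm
  by_cases h : a = c
  · subst h
    exact ⟨Commute.refl _, by rw [cj_cj (hD.sq a ha)]⟩
  exact ⟨(cj_eq_iff_commute (hD.sq _ (hD.cj_mem hb hc))).mp this.1,
    (cj_eq_iff_commute (hD.sq b hb)).mp this.2⟩

/-- If `a, b` commute and `c` commutes with both or with none, then `c ^ (a b)` commutes with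
`c`. -/
theorem commute_cj_cj {a b c : G} (ha : a ∈ D) (hb : b ∈ D) (hc : c ∈ D) (hab : Commute a b)
    (h : Commute c a ↔ Commute c b) : Commute (cj (cj c a) b) c := by
  by_cases h1 : Commute c a
  · rw [cj_of_commute (hD.sq a ha) h1, cj_of_commute (hD.sq b hb) (h.mp h1)]
  · exact (hD.a3 ha hc hb hab h1 (fun h' => h1 (h.mpr h'))).2

theorem pow_three {a b : G} (ha : a ∈ D) (hb : b ∈ D) (h : ¬ Commute a b) : (a * b) ^ 3 = 1 :=
  cube_of_braid (hD.sq a ha) (hD.sq b hb) (hD.braid ha hb h)

theorem mul_sq {a b : G} (ha : a ∈ D) (hb : b ∈ D) (h : Commute a b) : (a * b) * (a * b) = 1 := by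
  calc (a * b) * (a * b) = a * (b * a) * b := by group
    _ = (a * a) * (b * b) := by rw [← h.eq]; group
    _ = 1 := by rw [hD.sq a ha, hD.sq b hb, one_mul]

/-- The image of a normal set of 3-transpositions under a surjective homomorphism. -/
theorem image {H : Type*} [Group H] (f : G →* H) (hf : Function.Surjective f) : TT (f '' D) where
  sq := by
    rintro _ ⟨a, ha, rfl⟩
    rw [← map_mul, hD.sq a ha, map_one]
  dich := by
    rintro _ ⟨a, ha, rfl⟩ _ ⟨b, hb, rfl⟩
    rcases hD.dich a ha b hb with h | h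
    · exact Or.inl (h.map f)
    · right
      have := congrArg f h
      simpa [cj] using this
  conj := by
    rintro g _ ⟨a, ha, rfl⟩
    obtain ⟨g, rfl⟩ := hf g
    exact ⟨_, hD.conj g a ha, by simp⟩

end TT

theorem tt_of_class {D : Set G} (hD : Cfsg.IsThreeTranspositionClass D) : TT D where
  sq := fun a ha => CL.Invol.mul_self_of_orderOf_two (hD.1.1 a ha)
  dich := fun a ha b hb => by
    have sa := CL.Invol.mul_self_of_orderOf_two (hD.1.1 a ha)
    have sb := CL.Invol.mul_self_of_orderOf_two (hD.1.1 b hb)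
    rcases hD.1.2 a ha b hb with h | h
    · left
      have h1 : (a * b)⁻¹ = a * b := inv_eq_of_mul_eq_one_right (by rw [← pow_two, h])
      rw [mul_inv_rev, inv_eq_of_mul_eq_one_right sa, inv_eq_of_mul_eq_one_right sb] at h1
      exact h1.symm
    · right
      have h1 : (a * b * a) * (b * a * b) = 1 := by rw [← h, pow_succ, pow_two]; group
      have h2 : (b * a * b) * (b * a * b) = 1 := cj_sq sa sb
      exact (mul_right_cancel (h1.trans h2.symm)).symm
  conj := fun g a ha => by
    obtain ⟨d, -, rfl⟩ := hD.2.1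
    exact IsConj.trans ha (isConj_iff.mpr ⟨g, rfl⟩)

theorem trans_of_class {D : Set G} (hD : Cfsg.IsThreeTranspositionClass D) :
    ∀ a ∈ D, ∀ b ∈ D, ∃ g : G, g * a * g⁻¹ = b := by
  obtain ⟨d, -, rfl⟩ := hD.2.1
  intro a ha b hb
  exact isConj_iff.mp (IsConj.trans (IsConj.symm ha) hb)

/-- The commuting graph on `D`. -/
def CommRel (D : Set G) (u v : G) : Prop := u ∈ D ∧ v ∈ D ∧ Commute u v

/-- The standing hypotheses of Fischer's theory, in graph-theoretic form. -/
structure Fis (D : Set G) : Prop extends TT D where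
  gen : Subgroup.closure D = ⊤
  trans : ∀ a ∈ D, ∀ b ∈ D, ∃ g : G, g * a * g⁻¹ = b
  tau : ∀ a ∈ D, ∀ b ∈ D, (∀ c ∈ D, Commute a c ↔ Commute b c) → a = b
  theta : ∀ a ∈ D, ∀ b ∈ D, Dx D a = Dx D b → a = b
  conn : ∀ a ∈ D, ∀ b ∈ D, Relation.ReflTransGen (CommRel D) a b
  nontriv : ∃ a ∈ D, ∃ b ∈ D, a ≠ b

theorem conj_injective (g : G) : Function.Injective (fun y : G => g * y * g⁻¹) := fun a b h => by
  simpa using h

namespace Fis

variable {D : Set G} (hD : Fis D)
include hD

theorem ncard_Dx {a b : G} (ha : a ∈ D) (hb : b ∈ D) : (Dx D a).ncard = (Dx D b).ncard := by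
  obtain ⟨g, rfl⟩ := hD.trans a ha b hb
  rw [hD.toTT.Dx_conj, Set.ncard_image_of_injective _ (conj_injective g)]

theorem theta_le [Finite G] {a b : G} (ha : a ∈ D) (hb : b ∈ D) (h : Dx D a ⊆ Dx D b) : a = b :=
  hD.theta a ha b hb (Set.eq_of_subset_of_ncard_le h (hD.ncard_Dx hb ha).le)

theorem tau_le [Finite G] {a b : G} (ha : a ∈ D) (hb : b ∈ D)
    (h : ∀ c ∈ D, Commute a c → Commute b c) : a = b := by
  have e : ∀ u ∈ D, {c | c ∈ D ∧ Commute u c} = insert u (Dx D u) := fun u hu => by
    ext c
    simp only [Set.mem_ofPred_eq, Set.mem_insert_iff, mem_Dx]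
    constructor
    · intro hc
      by_cases hcu : c = u
      · exact Or.inl hcu
      · exact Or.inr ⟨hc.1, hcu, hc.2⟩
    · rintro (rfl | hc)
      · exact ⟨hu, Commute.refl _⟩
      · exact ⟨hc.1, hc.2.2⟩
  have h1 : {c | c ∈ D ∧ Commute a c} = {c | c ∈ D ∧ Commute b c} := by
    refine Set.eq_of_subset_of_ncard_le (fun c hc => ⟨hc.1, h c hc.1 hc.2⟩) ?_
    rw [e a ha, e b hb, Set.ncard_insert_of_notMem (fun h => h.2.1 rfl),
      Set.ncard_insert_of_notMem (fun h => h.2.1 rfl), hD.ncard_Dx ha hb]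
  refine hD.tau a ha b hb fun c hc => ⟨h c hc, fun h' => ?_⟩
  have : c ∈ {c | c ∈ D ∧ Commute a c} := by rw [h1]; exact ⟨hc, h'⟩
  exact this.2

theorem Dx_nonempty {a : G} (ha : a ∈ D) : (Dx D a).Nonempty := by
  by_contra h
  rw [Set.not_nonempty_iff_eq_empty] at h
  have h1 : ∀ b ∈ D, Dx D b = ∅ := fun b hb => by
    obtain ⟨g, rfl⟩ := hD.trans a ha b hb
    rw [hD.toTT.Dx_conj, h, Set.image_empty]
  obtain ⟨b, hb, c, hc, hbc⟩ := hD.nontriv
  exact hbc (hD.theta b hb c hc (by rw [h1 b hb, h1 c hc]))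

theorem exists_not_commute {a : G} (ha : a ∈ D) : ∃ b ∈ D, ¬ Commute a b := by
  by_contra h
  push Not at h
  have h1 : ∀ b ∈ D, ∀ c ∈ D, Commute b c := fun b hb c hc => by
    obtain ⟨g, rfl⟩ := hD.trans a ha b hb
    have := h _ (hD.conj g⁻¹ c hc)
    rw [← conj_commute_iff g] at this
    convert this using 1; group
  obtain ⟨b, hb, c, hc, hbc⟩ := hD.nontriv
  exact hbc (hD.tau b hb c hc fun d hd => iff_of_true (h1 b hb d hd) (h1 c hc d hd))

theorem ne_one {a : G} (ha : a ∈ D) : a ≠ 1 := by
  rintro rfl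
  obtain ⟨b, -, hb⟩ := hD.exists_not_commute ha
  exact hb (Commute.one_left b)

/-- A subset of `D` closed under conjugation by members of `D` is empty or all of `D`. -/
theorem eq_of_invariant {S : Set G} (hS : ∀ s ∈ S, ∀ d ∈ D, cj s d ∈ S) {a b : G} (ha : a ∈ D)
    (hb : b ∈ D) (h : a ∈ S) : b ∈ S := by
  obtain ⟨g, rfl⟩ := hD.trans a ha b hb
  have hg : g ∈ Subgroup.closure D := by rw [hD.gen]; trivial
  clear hb ha
  induction hg using Subgroup.closure_induction_left with
  | one => simpa using h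
  | mul_left d hd g _ ih =>
    have := hS _ ih d hd
    rw [cj_eq_conj (hD.sq d hd)] at this
    convert this using 1; group
  | inv_mul_cancel d hd g _ ih =>
    have := hS _ ih d hd
    rw [cj_eq_conj (hD.sq d hd)] at this
    rw [hD.toTT.inv_eq hd]
    convert this using 1; group

end Fis

end CL.Fischer
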