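import Cfsg.Agent.Base
import Cfsg.Agent.Fischer.Basic

/-!
# The set `D_x` is a single class of the group it generates
-/

set_option autoImplicit false

namespace CL.Fischer

open CL.Kei

variable {G : Type*} [Group G]

theorem tt_invol {K : Type*} [Group K] (h : ∀ g : K, g ^ 2 = 1 ∨ g ^ 3 = 1) :
    TT {k : K | k ≠ 1 ∧ k * k = 1} where
  sq := fun _ ha => ha.2
  dich := fun a ha b hb => by
    rcases h (a * b) with h | h
    · left
      have h1 : (a * b)⁻¹ = a * b := inv_eq_of_mul_eq_one_right (by rw [← pow_two, h])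
      rw [mul_inv_rev, inv_eq_of_mul_eq_one_right ha.2, inv_eq_of_mul_eq_one_right hb.2] at h1
      exact h1.symm
    · right
      have h1 : (a * b * a) * (b * a * b) = 1 := by rw [← h, pow_succ, pow_two]; group
      have h2 : (b * a * b) * (b * a * b) = 1 := cj_sq ha.2 hb.2
      exact (mul_right_cancel (h1.trans h2.symm)).symm
  conj := fun g a ha => ⟨fun h' => ha.1 (by simpa using h'), by
    calc g * a * g⁻¹ * (g * a * g⁻¹) = g * (a * a) * g⁻¹ := by group
      _ = 1 := by rw [ha.2]; group⟩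

theorem commute_of_mul_sq {a b : G} (ha : a * a = 1) (hb : b * b = 1)
    (h : (a * b) * (a * b) = 1) : Commute a b := by
  have h1 : (a * b)⁻¹ = a * b := inv_eq_of_mul_eq_one_right h
  rw [mul_inv_rev, inv_eq_of_mul_eq_one_right ha, inv_eq_of_mul_eq_one_right hb] at h1
  exact h1.symm

/-- A finite group all of whose elements have order at most three, and with an involution: there
is a non-trivial right translation preserving the involutions, or the involutions together with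
the identity. -/
theorem neumann {K : Type*} [Group K] [Finite K] (h : ∀ g : K, g ^ 2 = 1 ∨ g ^ 3 = 1) {u : K}
    (hu1 : u ≠ 1) (hu : u * u = 1) :
    ∃ g : K, g ≠ 1 ∧ ((∀ k : K, k * k = 1 → (k * g) * (k * g) = 1) ∨
      (∀ k : K, k ≠ 1 → k * k = 1 → k * g ≠ 1 ∧ (k * g) * (k * g) = 1)) := by
  have hI := tt_invol h
  set I : Set K := {k : K | k ≠ 1 ∧ k * k = 1} with hIdef
  by_cases hc : ∀ a ∈ I, ∀ b ∈ I, Commute a b
  · refine ⟨u, hu1, Or.inl fun k hk => ?_⟩
    by_cases hk1 : k = 1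
    · rw [hk1, one_mul, hu]
    · exact hI.mul_sq ⟨hk1, hk⟩ ⟨hu1, hu⟩ (hc k ⟨hk1, hk⟩ u ⟨hu1, hu⟩)
  push Not at hc
  have A0 : ∀ a ∈ I, ∀ b ∈ I, ¬ Commute a b → ∀ w ∈ I, Commute w a → ¬ Commute w b := by
    intro a ha b hb hab w hw h1 h2
    have h3 : Commute w (a * b) := h1.mul_right h2
    rcases h (w * (a * b)) with h4 | h4
    · rw [h3.mul_pow, pow_two, hw.2, one_mul, pow_two] at h4
      exact hab (commute_of_mul_sq ha.2 hb.2 h4)
    · rw [h3.mul_pow, hI.pow_three ha hb hab, mul_one, pow_succ, pow_two, hw.2, one_mul] at h4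
      exact hw.1 h4
  have A : ∀ a ∈ I, ∀ b ∈ I, ¬ Commute a b → ∀ w ∈ I, Commute w a → w = a := by
    intro a ha b hb hab w hw h1
    by_contra hwa
    have h2 := A0 a ha b hb hab w hw h1
    have hw' : a * w ∈ I := ⟨fun t => hwa (by rw [← ha.2] at t; exact mul_left_cancel t),
      hI.mul_sq ha hw h1.symm⟩
    have h3 := A0 a ha b hb hab _ hw' ((Commute.refl a).mul_left h1)
    have h4 := hI.pow_three hw' hb h3
    have h5 := (hI.a3 hw hb ha h1 (fun t => h2 t.symm) (fun t => hab t.symm)).2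
    have h6 : (a * w * b) ^ 2 = cj (cj b w) a * b := by
      calc (a * w * b) ^ 2 = a * w * b * (a * w) * b := by rw [pow_two]; group
        _ = a * w * b * (w * a) * b := by rw [h1.eq]
        _ = _ := by simp only [cj, mul_assoc]
    have h7 : (a * w * b) ^ 4 = 1 := by
      rw [show (4 : ℕ) = 2 * 2 from rfl, pow_mul, h6, pow_two]
      exact hI.mul_sq (hI.cj_mem (hI.cj_mem hb hw) ha) hb h5
    rw [pow_succ, h4, one_mul] at h7
    have h8 : b = a * w := by
      rw [← hw'.2] at h7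
      exact mul_left_cancel h7
    exact hab (h8 ▸ (Commute.refl a).mul_right h1.symm)
  obtain ⟨a, ha, b, hb, hab⟩ := hc
  have B : ∀ w ∈ I, ∀ w' ∈ I, cj w w' = cj w' w := by
    intro w hw w' hw'
    by_cases h1 : Commute w' w
    · by_cases hwa : w = a
      · subst hwa
        rw [A w hw b hb hab w' hw' h1]
      · rw [A w hw a ha (fun t => hwa (A a ha b hb hab w hw t)) w' hw' h1]
    · exact (hI.braid hw' hw h1).symm
  have h3 := hall hI.conj hI.sq B
  refine ⟨a * b, fun t => hab ?_, Or.inr fun k hk1 hk => ?_⟩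
  · rw [← ha.2] at t
    rw [mul_left_cancel t]
  have hkI : k ∈ I := ⟨hk1, hk⟩
  have key : (k * (a * b)) ^ 3 ≠ 1 := by
    intro t
    have e : k = ((a * b) * (k * a) * (b * k) * (a * b))⁻¹ := by
      rw [eq_inv_iff_mul_eq_one, ← t, pow_succ, pow_two]; group
    have m : ∀ p ∈ I, ∀ q ∈ I, p * q ∈ Subgroup.closure {x : K | ∃ a ∈ I, ∃ b ∈ I, x = a * b} :=
      fun p hp q hq => Subgroup.subset_closure ⟨p, hp, q, hq, rfl⟩
    have hk' : k ∈ Subgroup.closure {x : K | ∃ a ∈ I, ∃ b ∈ I, x = a * b} := by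
      rw [e]
      exact Subgroup.inv_mem _ (Subgroup.mul_mem _ (Subgroup.mul_mem _
        (Subgroup.mul_mem _ (m a ha b hb) (m k hkI a ha)) (m b hb k hkI)) (m a ha b hb))
    obtain ⟨n, hn⟩ := h3 ⟨k, hk'⟩
    have hn' : k ^ 3 ^ n = 1 := congrArg Subtype.val hn
    obtain ⟨m, hm⟩ : Odd (3 ^ n) := Odd.pow (by decide)
    rw [hm, pow_succ, pow_mul, pow_two, hk, one_pow, one_mul] at hn'
    exact hk1 hn'
  refine ⟨fun t => key (by rw [t, one_pow]), ?_⟩
  rw [← pow_two]
  exact (h _).resolve_right key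

/-- The non-commuting graph on `D_x`. -/
def NCRel (D : Set G) (x u v : G) : Prop := u ∈ Dx D x ∧ v ∈ Dx D x ∧ ¬ Commute u v

/-- The component of `a` in the non-commuting graph on `D_x`. -/
def ncComp (D : Set G) (x a : G) : Set G := {b | Relation.ReflTransGen (NCRel D x) a b}

theorem ncRel_symm {D : Set G} {x a b : G} (h : Relation.ReflTransGen (NCRel D x) a b) :
    Relation.ReflTransGen (NCRel D x) b a := by
  induction h with
  | refl => exact Relation.ReflTransGen.refl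
  | tail _ t ih => exact ih.head ⟨t.2.1, t.1, fun e => t.2.2 e.symm⟩

theorem ncComp_subset {D : Set G} {x a : G} (ha : a ∈ Dx D x) : ncComp D x a ⊆ Dx D x := by
  intro b hb
  induction hb with
  | refl => exact ha
  | tail _ t _ => exact t.2.1

theorem ncComp_eq {D : Set G} {x a b : G} (h : b ∈ ncComp D x a) : ncComp D x b = ncComp D x a :=
  Set.ext fun _ => ⟨fun t => Relation.ReflTransGen.trans h t,
    fun t => Relation.ReflTransGen.trans (ncRel_symm h) t⟩

theorem ncComp_mono {D : Set G} {x t a : G} (h : ncComp D x a ⊆ Dx D t) :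
    ncComp D x a ⊆ ncComp D t a := by
  intro b hb
  induction hb with
  | refl => exact Relation.ReflTransGen.refl
  | tail h1 h2 ih => exact Relation.ReflTransGen.tail ih ⟨h h1, h (h1.tail h2), h2.2.2⟩

theorem TT.ncRel_conj {D : Set G} (hD : TT D) (g : G) {x a b : G}
    (h : Relation.ReflTransGen (NCRel D x) a b) :
    Relation.ReflTransGen (NCRel D (g * x * g⁻¹)) (g * a * g⁻¹) (g * b * g⁻¹) := by
  induction h with
  | refl => exact Relation.ReflTransGen.refl
  | tail _ t ih =>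
    exact ih.tail ⟨(hD.conj_mem_Dx_iff g).mpr t.1, (hD.conj_mem_Dx_iff g).mpr t.2.1,
      fun e => t.2.2 ((conj_commute_iff g).mp e)⟩

theorem TT.conj_mem_ncComp_iff {D : Set G} (hD : TT D) (g : G) {x a b : G} :
    g * b * g⁻¹ ∈ ncComp D (g * x * g⁻¹) (g * a * g⁻¹) ↔ b ∈ ncComp D x a := by
  refine ⟨fun h => ?_, fun h => hD.ncRel_conj g h⟩
  have := hD.ncRel_conj g⁻¹ h
  show Relation.ReflTransGen (NCRel D x) a b
  simpa [mul_assoc] using this

/-- The core of the argument: a set `T` of transpositions acting on `Δ ^ y` like the core of a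
group. -/
theorem Fis.false_of_block [Finite G] {D : Set G} (hD : Fis D) {Δ T : Set G}
    (hT : ∀ t, t ∈ T ↔ t ∈ D ∧ Δ ⊆ Dx D t) {x c y : G} (hx : x ∈ T) (hc : c ∈ T)
    (hcx : c ∈ Dx D x) (hxT : ∀ e ∈ Dx D x, e ∈ Δ ∨ e ∈ T) (hy : y ∈ D)
    (hyT : ∀ t ∈ T, ¬ Commute y t) {b : G} (hb : b ∈ Δ) (hyb : ¬ Commute y b)
    (hN : ∀ t ∈ T, y * (t * x) * y ∈ Subgroup.normalizer Δ) : False := by
  have hT' := hD.toTT
  have hTD : ∀ t ∈ T, t ∈ D := fun t ht => ((hT t).mp ht).1
  have hTΔ : ∀ t ∈ T, ∀ e ∈ Δ, Commute t e := fun t ht e he => (((hT t).mp ht).2 he).2.2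
  have hbD : b ∈ D := (((hT x).mp hx).2 hb).1
  have sy := hT'.sq y hy
  have sx := hT'.sq x (hTD x hx)
  have hNT : ∀ g ∈ Subgroup.normalizer Δ, ∀ t ∈ T, g * t * g⁻¹ ∈ T := fun g hg t ht => by
    refine (hT _).mpr ⟨hT'.conj g t (hTD t ht), fun e he => ?_⟩
    have h1 : g⁻¹ * e * g⁻¹⁻¹ ∈ Δ :=
      ((Subgroup.mem_set_normalizer_iff.mp (Subgroup.inv_mem _ hg)) e).mp he
    have := (hT'.conj_mem_Dx_iff g).mpr (((hT t).mp ht).2 h1)
    convert this using 1; group
  have hC : ∀ s ∈ T, s ∈ Subgroup.centralizer Δ := fun s hs e he => (hTΔ s hs e he).symm.eq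
  have hCN : Subgroup.centralizer Δ ≤ Subgroup.normalizer Δ := Subgroup.centralizer_le_normalizer Δ
  have hcl : ∀ s ∈ T, ∀ t ∈ T, cj s t ∈ T := fun s hs t ht => by
    rw [cj_eq_conj (hT'.sq t (hTD t ht))]; exact hNT t (hCN (hC t ht)) s hs
  set f := QuotientGroup.mk' ((Subgroup.centralizer Δ).subgroupOf (Subgroup.normalizer Δ)) with hf
  have hf1 : ∀ g, f g = 1 ↔ (g : G) ∈ Subgroup.centralizer Δ := fun g => by
    rw [← MonoidHom.mem_ker, hf, QuotientGroup.ker_mk', Subgroup.mem_subgroupOf]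
  let q : T → _ := fun t => f ⟨y * (t * x) * y, hN t t.2⟩
  have hq : ∀ t s : T, ∃ h, q t * (q s)⁻¹ = f ⟨y * (t * s) * y, h⟩ := fun t s => by
    have e : y * (t * s) * y = (y * (t * x) * y) * (y * (s * x) * y)⁻¹ := by
      have ss := hT'.sq s (hTD s s.2)
      rw [mul_inv_rev, mul_inv_rev, mul_inv_rev, hT'.inv_eq hy, hT'.inv_eq (hTD x hx),
        hT'.inv_eq (hTD s s.2)]
      calc y * (t * s) * y = y * t * (x * (y * y) * x) * s * y := by rw [sy, mul_one, sx]; group
        _ = _ := by group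
    refine ⟨e ▸ Subgroup.mul_mem _ (hN t t.2) (Subgroup.inv_mem _ (hN s s.2)), ?_⟩
    rw [← map_inv, ← map_mul]
    exact congrArg f (Subtype.ext e.symm)
  have hpow : ∀ (t s : T) (n : ℕ), ((t : G) * s) ^ n = 1 → (q t * (q s)⁻¹) ^ n = 1 := by
    intro t s n hn
    obtain ⟨h, e⟩ := hq t s
    rw [e, ← map_pow]
    refine (congrArg f (Subtype.ext ?_)).trans (map_one f)
    show (y * (t * s) * y) ^ n = 1
    nth_rw 2 [← hT'.inv_eq hy]
    rw [conj_pow, hn]; group
  have hinj : ∀ t s : T, q t * (q s)⁻¹ = 1 → t = s := by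
    intro t s h1
    obtain ⟨h, e⟩ := hq t s
    rw [e, hf1] at h1
    have h2 : Commute (cj ((t : G) * s) y) b := (h1 b hb).symm
    rw [commute_cj_swap sy, ← hT'.braid hy hbD hyb,
      commute_cj_iff (hT'.sq b hbD) ((hTΔ t t.2 b hb).mul_left (hTΔ s s.2 b hb))] at h2
    refine Subtype.ext (hT'.cj_cancel hy (hTD t t.2) (hTD s s.2) (hyT t t.2) ?_)
    have st := hT'.sq t (hTD t t.2)
    have ss := hT'.sq s (hTD s s.2)
    calc cj y t = t * (y * (t * s)) * s := by
          rw [cj, mul_assoc, mul_assoc, mul_assoc, mul_assoc, ss, mul_one]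
      _ = cj y s := by rw [← h2.eq, ← mul_assoc, ← mul_assoc, st, one_mul, cj]
  have hsq : ∀ t s : T, (q t * (q s)⁻¹) * (q t * (q s)⁻¹) = 1 ↔ Commute (t : G) s := by
    intro t s
    constructor
    · intro h1
      by_contra h2
      have h3 := hpow t s 3 (hT'.pow_three (hTD t t.2) (hTD s s.2) h2)
      rw [pow_succ, pow_two, h1, one_mul] at h3
      rw [hinj t s h3] at h2
      exact h2 (Commute.refl _)
    · intro h1
      rw [← pow_two]
      exact hpow t s 2 (by rw [pow_two]; exact hT'.mul_sq (hTD t t.2) (hTD s s.2) h1)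
  have hqx : q ⟨x, hx⟩ = 1 := by
    refine (congrArg f (Subtype.ext ?_)).trans (map_one f)
    show y * (x * x) * y = 1
    rw [sx, mul_one, sy]
  let K : Subgroup (Subgroup.normalizer Δ ⧸
      (Subgroup.centralizer Δ).subgroupOf (Subgroup.normalizer Δ)) :=
    { carrier := Set.range q
      one_mem' := ⟨_, hqx⟩
      inv_mem' := by
        rintro _ ⟨t, rfl⟩
        refine ⟨⟨cj (t : G) x, hcl t t.2 x hx⟩, ?_⟩
        rw [← map_inv]
        refine congrArg f (Subtype.ext ?_)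
        show y * (cj (t : G) x * x) * y = (y * (t * x) * y)⁻¹
        rw [mul_inv_rev, mul_inv_rev, mul_inv_rev, hT'.inv_eq hy, hT'.inv_eq (hTD x hx),
          hT'.inv_eq (hTD t t.2), cj, mul_assoc _ x x, sx]
        group
      mul_mem' := by
        rintro _ _ ⟨t, rfl⟩ ⟨s, rfl⟩
        refine ⟨⟨_, hNT _ (hN s s.2) t t.2⟩, ?_⟩
        have hsx : (s : G) * x ∈ Subgroup.centralizer Δ := Subgroup.mul_mem _ (hC s s.2) (hC x hx)
        have h1 : f ⟨_, hCN hsx⟩ = 1 := (hf1 _).mpr hsx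
        have h2 : q t * q s = f ⟨_, hCN hsx⟩ * (q t * q s) * (f ⟨_, hCN hsx⟩)⁻¹ := by
          rw [h1]; group
        rw [h2, ← map_mul, ← map_mul, ← map_inv, ← map_mul]
        refine congrArg f (Subtype.ext ?_)
        show y * ((y * (s * x) * y) * t * (y * (s * x) * y)⁻¹ * x) * y =
          (s * x) * ((y * (t * x) * y) * (y * (s * x) * y)) * (s * x)⁻¹
        have b1 : y * x * y = x * y * x := (hT'.braid hy (hTD x hx) (hyT x hx)).symm
        have b2 : (x * s * x) * y * (x * s * x) = y * (x * s * x) * y :=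
          hT'.braid hy (hTD _ (hcl s s.2 x hx)) (hyT _ (hcl s s.2 x hx))
        have ss := hT'.sq s (hTD s s.2)
        simp only [mul_inv_rev, hT'.inv_eq hy, hT'.inv_eq (hTD x hx), hT'.inv_eq (hTD s s.2)]
        calc y * (y * (s * x) * y * t * (y * (x * s * y)) * x) * y
            = (y * y) * s * x * y * t * y * (x * s * (y * x * y) * (s * (x * x) * s)) := by
              rw [sx, mul_one, ss]; group
          _ = s * x * y * t * y * ((x * s * x) * y * (x * s * x)) * x * s := by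
              rw [sy, b1]; group
          _ = s * x * y * t * (y * y) * x * s * x * y * x * s := by rw [b2]; group
          _ = s * x * y * t * x * (y * y) * s * x * y * x * s := by rw [sy]; group
          _ = _ := by group }
  have hK : ∀ g : K, g ^ 2 = 1 ∨ g ^ 3 = 1 := by
    rintro ⟨_, t, rfl⟩
    have e : q t = q t * (q ⟨x, hx⟩)⁻¹ := by rw [hqx]; group
    by_cases h : Commute (t : G) x
    · left
      refine Subtype.ext ?_
      show q t ^ 2 = 1
      rw [e, pow_two]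
      exact (hsq t ⟨x, hx⟩).mpr h
    · right
      refine Subtype.ext ?_
      show q t ^ 3 = 1
      rw [e]
      exact hpow t ⟨x, hx⟩ 3 (hT'.pow_three (hTD t t.2) (hTD x hx) h)
  have hne : ∀ t : T, (t : G) ≠ x → (⟨q t, t, rfl⟩ : K) ≠ 1 := fun t ht h => by
    have h1 : q t = 1 := congrArg Subtype.val h
    exact ht (congrArg Subtype.val (hinj t ⟨x, hx⟩ (by rw [hqx, h1]; group)))
  have hsq' : ∀ t : T, Commute x t → (⟨q t, t, rfl⟩ : K) * ⟨q t, t, rfl⟩ = 1 := fun t ht => by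
    refine Subtype.ext ?_
    have := (hsq t ⟨x, hx⟩).mpr ht.symm
    rwa [hqx, inv_one, mul_one] at this
  obtain ⟨g, hg1, hg⟩ := neumann hK (hne ⟨c, hc⟩ hcx.2.1) (hsq' ⟨c, hc⟩ hcx.2.2)
  obtain ⟨x', hx'⟩ := (g⁻¹).2
  have hg' : (g : _ ⧸ _) = (q x')⁻¹ := by rw [hx']; simp
  have hxx : x ≠ x' := fun h => hg1 (Subtype.ext (by
    have : x' = ⟨x, hx⟩ := Subtype.ext h.symm
    rw [hg', this, hqx]; simp))
  apply hxx
  rcases hg with hg | hg
  · refine hD.tau_le (hTD x hx) (hTD x' x'.2) fun e he hxe => ?_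
    have heT : e ∈ Δ ∨ e ∈ T := by
      by_cases h : e = x
      · exact Or.inr (h ▸ hx)
      · exact hxT e ⟨he, h, hxe⟩
    rcases heT with h | h
    · exact hTΔ x' x'.2 e h
    · have := congrArg Subtype.val (hg _ (hsq' ⟨e, h⟩ hxe))
      simp only [Subgroup.coe_mul, hg', Subgroup.coe_one] at this
      exact ((hsq ⟨e, h⟩ x').mp this).symm
  · refine hD.theta_le (hTD x hx) (hTD x' x'.2) fun e he => ?_
    rcases hxT e he with h | h
    · exact ((hT _).mp x'.2).2 h
    · obtain ⟨h1, h2⟩ := hg _ (hne ⟨e, h⟩ he.2.1) (hsq' ⟨e, h⟩ he.2.2)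
      have := congrArg Subtype.val h2
      simp only [Subgroup.coe_mul, hg', Subgroup.coe_one] at this
      refine ⟨he.1, fun t => h1 (Subtype.ext ?_), ((hsq ⟨e, h⟩ x').mp this).symm⟩
      have : x' = ⟨e, h⟩ := Subtype.ext t.symm
      simp only [Subgroup.coe_mul, hg', Subgroup.coe_one, this, mul_inv_cancel]

theorem Fis.ncComp_eq_of_max [Finite G] {D : Set G} (hD : Fis D) {x a : G} (hx : x ∈ D)
    (ha : a ∈ Dx D x)
    (hmax : ∀ t ∈ D, ∀ b ∈ Dx D t, (ncComp D t b).ncard ≤ (ncComp D x a).ncard) :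
    Dx D x ⊆ ncComp D x a := by
  have hT' := hD.toTT
  intro c hc
  by_contra hcΔ
  set Δ := ncComp D x a with hΔ
  set T : Set G := {t | t ∈ D ∧ Δ ⊆ Dx D t} with hTdef
  have hxT : x ∈ T := ⟨hx, ncComp_subset ha⟩
  have haΔ : a ∈ Δ := Relation.ReflTransGen.refl
  have h1 : ∀ t ∈ T, ∀ b ∈ Δ, ncComp D t b = Δ := fun t ht b hb => by
    have e : ncComp D x b = Δ := ncComp_eq hb
    refine (Set.eq_of_subset_of_ncard_le ?_ (hmax t ht.1 b (ht.2 hb))).symm
    rw [← e]
    exact ncComp_mono (by rw [e]; exact ht.2)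
  have h2 : ∀ t ∈ T, ∀ e ∈ Dx D t, e ∈ Δ ∨ e ∈ T := fun t ht e he => by
    by_cases h : e ∈ Δ
    · exact Or.inl h
    · refine Or.inr ⟨he.1, fun b hb => ⟨(ht.2 hb).1, fun t => h (t ▸ hb), ?_⟩⟩
      by_contra hn
      apply h
      rw [← h1 t ht b hb]
      exact Relation.ReflTransGen.single ⟨ht.2 hb, he, fun t => hn t.symm⟩
  have h3 : ∃ y ∈ D, y ∉ Δ ∧ y ∉ T := by
    by_contra h
    push Not at h
    have := hD.eq_of_invariant (S := T) (fun s hs d hd => by
      by_cases hdΔ : d ∈ Δ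
      · rw [cj_of_commute (hT'.sq d hd) (hs.2 hdΔ).2.2]; exact hs
      · refine ⟨hT'.cj_mem hs.1 hd, fun b hb => ?_⟩
        have := (hT'.conj_mem_Dx_iff d).mpr (hs.2 hb)
        rwa [← cj_eq_conj (hT'.sq d hd), ← cj_eq_conj (hT'.sq d hd),
          cj_of_commute (hT'.sq d hd) ((h d hd hdΔ).2 hb).2.2.symm] at this) hx ha.1 hxT
    exact (this.2 haΔ).2.1 rfl
  have h4 : ∃ y ∈ D, y ∉ Δ ∧ y ∉ T ∧ ∃ a' ∈ Δ, Commute y a' := by
    obtain ⟨y, hy, hy1, hy2⟩ := h3
    have key : ∀ z, Relation.ReflTransGen (CommRel D) x z →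
        (z ∈ Δ ∨ z ∈ T) ∨ ∃ y ∈ D, y ∉ Δ ∧ y ∉ T ∧ ∃ a' ∈ Δ, Commute y a' := by
      intro z hz
      induction hz with
      | refl => exact Or.inl (Or.inr hxT)
      | @tail z z' _ t ih =>
        rcases ih with ih | ih
        · by_cases h : z' ∈ Δ ∨ z' ∈ T
          · exact Or.inl h
          · rcases ih with ih | ih
            · exact Or.inr ⟨z', t.2.1, fun e => h (Or.inl e), fun e => h (Or.inr e), z, ih,
                t.2.2.symm⟩
            · exact absurd (h2 z ih z' ⟨t.2.1, fun e => h (Or.inr (e ▸ ih)), t.2.2⟩) h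
        · exact Or.inr ih
    rcases key y (hD.conn x hx y hy) with h | h
    · exact absurd h (by tauto)
    · exact h
  obtain ⟨y, hy, hyΔ, hyT, a', ha', hya⟩ := h4
  have h5 : ∀ t ∈ T, ¬ Commute y t := fun t ht h =>
    (h2 t ht y ⟨hy, fun e => hyT (e ▸ ht), h.symm⟩).elim hyΔ hyT
  have h6 : ∃ b ∈ Δ, ¬ Commute y b := by
    by_contra h
    push Not at h
    exact hyT ⟨hy, fun b hb => ⟨(hxT.2 hb).1, fun e => hyΔ (e ▸ hb), h b hb⟩⟩
  obtain ⟨b, hb, hyb⟩ := h6
  refine hD.false_of_block (Δ := Δ) (T := T) (fun _ => Iff.rfl) hxT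
    ((h2 x hxT c hc).resolve_left hcΔ) hc (h2 x hxT) hy h5 hb hyb fun t ht => ?_
  have sy := hT'.sq y hy
  have st := hT'.sq t ht.1
  have sx := hT'.sq x hx
  have e0 : y * (t * x) * y = cj t y * cj x y := by
    calc y * (t * x) * y = y * t * (y * y) * x * y := by rw [sy]; group
      _ = _ := by simp only [cj, mul_assoc]
  have e1 : (y * (t * x) * y) * x * (y * (t * x) * y)⁻¹ = t := by
    rw [e0, ← cj_cj_eq_conj x (cj_sq sx sy) (cj_sq st sy),
      cj_left_of_braid sx sy (hT'.braid hy hx (h5 x hxT)).symm, ← hT'.braid hy ht.1 (h5 t ht),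
      cj_left_of_braid sy st (hT'.braid hy ht.1 (h5 t ht))]
  have e2 : (y * (t * x) * y) * a' * (y * (t * x) * y)⁻¹ = a' := by
    have : Commute (y * (t * x) * y) a' :=
      (hya.mul_left ((ht.2 ha').2.2.mul_left (hxT.2 ha').2.2)).mul_left hya
    rw [this.eq]; group
  rw [Subgroup.mem_set_normalizer_iff]
  intro e
  have := hT'.conj_mem_ncComp_iff (y * (t * x) * y) (x := x) (a := a') (b := e)
  rw [e1, e2, h1 t ht a' ha', h1 x hxT a' ha'] at this
  exact this.symm

/-- **Fischer**: the non-commuting graph on `D_x` is connected. -/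
theorem Fis.ncConn [Finite G] {D : Set G} (hD : Fis D) {x y y' : G} (hx : x ∈ D)
    (hy : y ∈ Dx D x) (hy' : y' ∈ Dx D x) : Relation.ReflTransGen (NCRel D x) y y' := by
  obtain ⟨p, hp, hmax⟩ := Set.exists_max_image {p : G × G | p.1 ∈ D ∧ p.2 ∈ Dx D p.1}
    (fun p => (ncComp D p.1 p.2).ncard) (Set.toFinite _) ⟨(x, y), hx, hy⟩
  have h := hD.ncComp_eq_of_max hp.1 hp.2 fun t ht b hb => hmax (t, b) ⟨ht, hb⟩
  obtain ⟨g, hg⟩ := hD.trans x hx p.1 hp.1
  have h1 := h (hg ▸ (hD.toTT.conj_mem_Dx_iff g).mpr hy)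
  have h2 := h (hg ▸ (hD.toTT.conj_mem_Dx_iff g).mpr hy')
  have h3 := (ncRel_symm h1).trans h2
  rw [← hg] at h3
  exact (hD.toTT.conj_mem_ncComp_iff g).mp h3

/-- **Fischer**: `D_x` is a single class of `⟨D_x⟩`. -/
theorem Fis.Dx_trans [Finite G] {D : Set G} (hD : Fis D) {x y y' : G} (hx : x ∈ D)
    (hy : y ∈ Dx D x) (hy' : y' ∈ Dx D x) :
    ∃ g ∈ Subgroup.closure (Dx D x), g * y * g⁻¹ = y' := by
  have h := hD.ncConn hx hy hy'
  induction h with
  | refl => exact ⟨1, Subgroup.one_mem _, by simp⟩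
  | @tail u v _ t ih =>
    obtain ⟨g, hg, e⟩ := ih t.1
    refine ⟨(u * v) * g, Subgroup.mul_mem _ (Subgroup.mul_mem _ (Subgroup.subset_closure t.1)
      (Subgroup.subset_closure t.2.1)) hg, ?_⟩
    calc u * v * g * y * (u * v * g)⁻¹ = u * v * (g * y * g⁻¹) * (u * v)⁻¹ := by group
      _ = v := by rw [e, hD.toTT.mul_conj t.1.1 t.2.1.1 t.2.2]

end CL.Fischer
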