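import Cfsg.Agent.Base
import Cfsg.Agent.Fischer.Conn

/-!
# Fischer's rank three theorem, and maximal commuting sets
-/

set_option autoImplicit false

namespace CL.Fischer

open CL.Kei

variable {G : Type*} [Group G]

/-- The subgroup generated by the members of `D` commuting with `x`. -/
def perpGrp (D : Set G) (x : G) : Subgroup G := Subgroup.closure {y | y ∈ D ∧ Commute x y}

theorem mem_perpGrp {D : Set G} {x y : G} (hy : y ∈ D) (h : Commute x y) : y ∈ perpGrp D x :=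
  Subgroup.subset_closure ⟨hy, h⟩

theorem commute_of_mem_perpGrp {D : Set G} {x g : G} (hg : g ∈ perpGrp D x) : Commute g x := by
  induction hg using Subgroup.closure_induction with
  | mem y hy => exact hy.2.symm
  | one => exact Commute.one_left x
  | mul _ _ _ _ h1 h2 => exact h1.mul_left h2
  | inv _ _ h => exact h.inv_left

theorem closure_Dx_le_perpGrp (D : Set G) (x : G) : Subgroup.closure (Dx D x) ≤ perpGrp D x :=
  Subgroup.closure_mono fun _ h => ⟨h.1, h.2.2⟩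

theorem conj_eq_of_commute {g x : G} (h : Commute g x) : g * x * g⁻¹ = x := by
  rw [h.eq]; group

/-- Conjugacy under a subgroup. -/
def ConjIn (H : Subgroup G) (y y' : G) : Prop := ∃ g ∈ H, g * y * g⁻¹ = y'

theorem ConjIn.refl (H : Subgroup G) (y : G) : ConjIn H y y := ⟨1, H.one_mem, by simp⟩

theorem ConjIn.symm {H : Subgroup G} {y y' : G} (h : ConjIn H y y') : ConjIn H y' y := by
  obtain ⟨g, hg, rfl⟩ := h
  exact ⟨g⁻¹, H.inv_mem hg, by group⟩

theorem ConjIn.trans {H : Subgroup G} {y y' y'' : G} (h : ConjIn H y y') (h' : ConjIn H y' y'') :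
    ConjIn H y y'' := by
  obtain ⟨g, hg, rfl⟩ := h
  obtain ⟨g', hg', rfl⟩ := h'
  exact ⟨g' * g, H.mul_mem hg' hg, by group⟩

theorem conjIn_cj {H : Subgroup G} (y : G) {d : G} (hd : d ∈ H) (sd : d * d = 1) :
    ConjIn H y (cj y d) := ⟨d, hd, (cj_eq_conj sd).symm⟩

namespace TT

variable {D : Set G} (hD : TT D)
include hD

theorem conjIn_cj_self {x : G} (hx : x ∈ D) (y : G) : ConjIn (perpGrp D x) y (cj y x) :=
  conjIn_cj y (mem_perpGrp hx (Commute.refl x)) (hD.sq x hx)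

theorem conjIn_of_commute {x y z : G} (hx : x ∈ D) (hy : y ∈ D) (hz : z ∈ D)
    (hxy : ¬ Commute x y) (hxz : ¬ Commute x z) (hyz : Commute y z) :
    ConjIn (perpGrp D x) y z := by
  have h := kA3' (hD.sq x hx) (hD.sq y hy) (hD.sq z hz) (cj_of_commute (hD.sq z hz) hyz)
    (hD.braid hx hy hxy).symm (hD.braid hx hz hxz).symm
  have hf := hD.cj_mem (hD.cj_mem hx hy) hz
  have h1 := conjIn_cj (H := perpGrp D x) y
    (mem_perpGrp hf ((cj_eq_iff_commute (hD.sq x hx)).mp h.1).symm) (hD.sq _ hf)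
  rw [h.2] at h1
  exact h1.trans (hD.conjIn_cj_self hx z).symm

/-- Half of the comparison of `D_x ∩ D_y` and `D_x ∩ D_z`. -/
theorem conjIn_third {x y z d : G} (hx : x ∈ D) (hy : y ∈ D) (hz : z ∈ D) (hd : d ∈ D)
    (hxz : ¬ Commute x z) (hp : ¬ Commute x (cj y (cj z x))) (hdx : Commute d x)
    (hdy : Commute d y) (hdz : ¬ Commute d z) : ConjIn (perpGrp D x) z (cj y (cj z x)) := by
  have hr := hD.cj_mem hz hx
  have sr := hD.sq _ hr
  have sx := hD.sq x hx
  have bzx := (hD.braid hx hz hxz).symm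
  have e1 : cj x (cj z x) = z := by rw [bzx]; exact cj_left_of_braid sx (hD.sq z hz) bzx.symm
  have e2 : cj z (cj z x) = x := cj_left_of_braid (hD.sq z hz) sx bzx
  have h1 : Commute (cj d (cj z x)) z := by
    have := (cj_commute_iff sr).mpr hdx
    rwa [e1] at this
  have h2 : Commute (cj d (cj z x)) (cj y (cj z x)) := (cj_commute_iff sr).mpr hdy
  have h3 : ¬ Commute x (cj d (cj z x)) := fun t => by
    have := (cj_commute_iff (a := z) (b := d) sr).mp (by rwa [e2])
    exact hdz this.symm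
  have hd1 := hD.cj_mem hd hr
  exact (hD.conjIn_of_commute hx hz hd1 hxz h3 h1.symm).trans
    (hD.conjIn_of_commute hx hd1 (hD.cj_mem hy hr) h3 hp h2)

theorem conjIn_of_incomparable {x y z d d' : G} (hx : x ∈ D) (hy : y ∈ D) (hz : z ∈ D)
    (hd : d ∈ D) (hd' : d' ∈ D) (hxy : ¬ Commute x y) (hxz : ¬ Commute x z)
    (hdx : Commute d x) (hdy : Commute d y) (hdz : ¬ Commute d z)
    (hdx' : Commute d' x) (hdz' : Commute d' z) (hdy' : ¬ Commute d' y) :
    ConjIn (perpGrp D x) y z := by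
  by_cases h1 : Commute y z
  · exact hD.conjIn_of_commute hx hy hz hxy hxz h1
  have sx := hD.sq x hx
  have hr := hD.cj_mem hz hx
  have hr' := hD.cj_mem hy hx
  have hxr : ¬ Commute x (cj z x) := hD.not_commute_cj_right hx fun t => hxz t.symm
  by_cases h2 : Commute y (cj z x)
  · exact (hD.conjIn_of_commute hx hy hr hxy hxr h2).trans (hD.conjIn_cj_self hx z).symm
  have h2' : ¬ Commute z (cj y x) := fun t => h2 ((commute_cj_swap sx).mp t.symm)
  have e : cj (cj y (cj z x)) x = cj z (cj y x) := by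
    rw [cj_dist sx, cj_cj sx, hD.braid hz hr' h2']
  have hp : ¬ Commute x (cj y (cj z x)) := fun t => by
    have bzx := (hD.braid hx hz hxz).symm
    have e1 : cj x (cj z x) = z := by rw [bzx]; exact cj_left_of_braid sx (hD.sq z hz) bzx.symm
    have := (commute_cj_swap (hD.sq _ hr)).mpr t
    rw [e1] at this
    exact h1 this.symm
  have hq : ¬ Commute x (cj z (cj y x)) := fun t => by
    rw [← e, commute_cj_iff sx (Commute.refl x)] at t
    exact hp t
  have t1 := hD.conjIn_third hx hy hz hd hxz hp hdx hdy hdz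
  have t2 := hD.conjIn_third hx hz hy hd' hxy hq hdx' hdz' hdy'
  rw [← e] at t2
  exact (t2.trans (hD.conjIn_cj_self hx _).symm).trans t1.symm

omit hD in
theorem not_commute_of_conjIn {x y y' : G} (h : ConjIn (perpGrp D x) y y') (hxy : ¬ Commute x y) :
    ¬ Commute x y' := by
  obtain ⟨g, hg, rfl⟩ := h
  rwa [← conj_eq_of_commute (commute_of_mem_perpGrp hg), conj_commute_iff]

theorem inter_Dx_conj {x y g : G} (hg : Commute g x) :
    Dx D x ∩ Dx D (g * y * g⁻¹) = (fun e => g * e * g⁻¹) '' (Dx D x ∩ Dx D y) := by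
  rw [Set.image_inter (conj_injective g), ← hD.Dx_conj, ← hD.Dx_conj, conj_eq_of_commute hg]

end TT

namespace Fis

variable {D : Set G} (hD : Fis D)
include hD

theorem inter_Dx_nonempty {x y : G} (hx : x ∈ D) (hy : y ∈ D) (hxy : ¬ Commute x y) :
    (Dx D x ∩ Dx D y).Nonempty := by
  have hT := hD.toTT
  have key : ∀ z, Relation.ReflTransGen (CommRel D) y z →
      (z ∈ D ∧ ¬ Commute x z ∧ ConjIn (perpGrp D x) y z) ∨
        ∃ z, ConjIn (perpGrp D x) y z ∧ (Dx D x ∩ Dx D z).Nonempty := by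
    intro z hz
    induction hz with
    | refl => exact Or.inl ⟨hy, hxy, ConjIn.refl _ _⟩
    | @tail z z' _ t ih =>
      rcases ih with ih | ih
      · by_cases h : Commute x z'
        · exact Or.inr ⟨z, ih.2.2, z', ⟨t.2.1, fun e => ih.2.1 (e ▸ t.2.2.symm), h⟩,
            ⟨t.2.1, fun e => ih.2.1 (e ▸ h), t.2.2⟩⟩
        · exact Or.inl ⟨t.2.1, h, ih.2.2.trans (hT.conjIn_of_commute hx ih.1 t.2.1 ih.2.1 h t.2.2)⟩
      · exact Or.inr ih
  rcases key x (hD.conn y hy x hx) with h | ⟨z, ⟨g, hg, rfl⟩, h⟩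
  · exact absurd (Commute.refl x) h.2.1
  · rw [hT.inter_Dx_conj (commute_of_mem_perpGrp hg)] at h
    exact h.of_image

/-- **Fischer**: `⟨x ^ ⊥⟩` is transitive on the members of `D` not commuting with `x`. -/
theorem Ax_trans [Finite G] {x y z : G} (hx : x ∈ D) (hy : y ∈ D) (hz : z ∈ D)
    (hxy : ¬ Commute x y) (hxz : ¬ Commute x z) : ConjIn (perpGrp D x) y z := by
  have hT := hD.toTT
  by_contra hne
  wlog hle : (Dx D x ∩ Dx D y).ncard ≤ (Dx D x ∩ Dx D z).ncard generalizing y z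
  · exact this hz hy hxz hxy (fun t => hne t.symm) (by omega)
  have h1 : ∀ u, ConjIn (perpGrp D x) y u → Dx D x ∩ Dx D u ⊆ Dx D x ∩ Dx D z := by
    intro u hu
    have hxu := TT.not_commute_of_conjIn hu hxy
    have hcard : (Dx D x ∩ Dx D u).ncard ≤ (Dx D x ∩ Dx D z).ncard := by
      obtain ⟨g, hg, rfl⟩ := hu
      rwa [hT.inter_Dx_conj (commute_of_mem_perpGrp hg),
        Set.ncard_image_of_injective _ (conj_injective g)]
    have huD : u ∈ D := by
      obtain ⟨g, -, rfl⟩ := hu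
      exact hT.conj g y hy
    by_contra hn
    obtain ⟨d, hd, hd2⟩ := Set.not_subset.mp hn
    have hdz : ¬ Commute d z := fun t => hd2 ⟨hd.1, hd.1.1, fun e => hxz (e ▸ hd.1.2.2), t.symm⟩
    have hsub : ¬ Dx D x ∩ Dx D z ⊆ Dx D x ∩ Dx D u := fun t =>
      hd2 ((Set.eq_of_subset_of_ncard_le t hcard).symm ▸ hd)
    obtain ⟨d', hd', hd2'⟩ := Set.not_subset.mp hsub
    have hdu : ¬ Commute d' u := fun t =>
      hd2' ⟨hd'.1, hd'.1.1, fun e => hxu (e ▸ hd'.1.2.2), t.symm⟩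
    exact hne (hu.trans (hT.conjIn_of_incomparable hx huD hz hd.1.1 hd'.1.1 hxu hxz hd.1.2.2.symm
      hd.2.2.2.symm hdz hd'.1.2.2.symm hd'.2.2.2.symm hdu))
  obtain ⟨d, hd⟩ := hD.inter_Dx_nonempty hx hy hxy
  refine hxz (hD.theta_le hx hz (fun e he => ?_) ▸ Commute.refl x)
  obtain ⟨g, hg, rfl⟩ := hD.Dx_trans hx hd.1 he
  have hg' := closure_Dx_le_perpGrp D x hg
  refine (h1 _ ⟨g, hg', rfl⟩ ?_).2
  rw [hT.inter_Dx_conj (commute_of_mem_perpGrp hg')]
  exact ⟨d, hd, rfl⟩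

theorem Dx_trans' [Finite G] {x y y' : G} (hx : x ∈ D) (hy : y ∈ Dx D x) (hy' : y' ∈ Dx D x) :
    ConjIn (perpGrp D x) y y' := by
  obtain ⟨g, hg, e⟩ := hD.Dx_trans hx hy hy'
  exact ⟨g, closure_Dx_le_perpGrp D x hg, e⟩

/-- Transitivity on ordered pairs of distinct commuting members of `D`. -/
theorem pair_trans_commute [Finite G] {a b c d : G} (ha : a ∈ D) (hc : c ∈ D) (hb : b ∈ Dx D a)
    (hd : d ∈ Dx D c) : ∃ g : G, g * a * g⁻¹ = c ∧ g * b * g⁻¹ = d := by
  obtain ⟨g, rfl⟩ := hD.trans a ha c hc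
  obtain ⟨h, hh, e⟩ := hD.Dx_trans' hc ((hD.toTT.conj_mem_Dx_iff g).mpr hb) hd
  refine ⟨h * g, ?_, by rw [← e]; group⟩
  calc h * g * a * (h * g)⁻¹ = h * (g * a * g⁻¹) * h⁻¹ := by group
    _ = _ := conj_eq_of_commute (commute_of_mem_perpGrp hh)

/-- Transitivity on ordered pairs of non-commuting members of `D`. -/
theorem pair_trans_not_commute [Finite G] {a b c d : G} (ha : a ∈ D) (hb : b ∈ D) (hc : c ∈ D)
    (hd : d ∈ D) (hab : ¬ Commute a b) (hcd : ¬ Commute c d) :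
    ∃ g : G, g * a * g⁻¹ = c ∧ g * b * g⁻¹ = d := by
  obtain ⟨g, rfl⟩ := hD.trans a ha c hc
  obtain ⟨h, hh, e⟩ := hD.Ax_trans hc (hD.conj g b hb) hd
    (fun t => hab ((conj_commute_iff g).mp t)) hcd
  refine ⟨h * g, ?_, by rw [← e]; group⟩
  calc h * g * a * (h * g)⁻¹ = h * (g * a * g⁻¹) * h⁻¹ := by group
    _ = _ := conj_eq_of_commute (commute_of_mem_perpGrp hh)

end Fis

theorem isPGroup_closure_of_commute {p : ℕ} {E : Set G} (hp : ∀ a ∈ E, a ^ p = 1)
    (hc : ∀ a ∈ E, ∀ b ∈ E, Commute a b) : IsPGroup p (Subgroup.closure E) := by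
  have h1 : ∀ g ∈ Subgroup.closure E, ∀ a ∈ E, Commute a g := fun g hg a ha => by
    induction hg using Subgroup.closure_induction with
    | mem y hy => exact hc a ha y hy
    | one => exact Commute.one_right a
    | mul _ _ _ _ h1 h2 => exact h1.mul_right h2
    | inv _ _ h => exact h.inv_right
  have key : ∀ g ∈ Subgroup.closure E, g ^ p = 1 := fun g hg => by
    induction hg using Subgroup.closure_induction_left with
    | one => simp
    | mul_left a ha d hd ih => rw [(h1 d hd a ha).mul_pow, hp a ha, ih, one_mul]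
    | inv_mul_cancel a ha d hd ih =>
      rw [(h1 d hd a ha).inv_left.mul_pow, inv_pow, hp a ha, ih, inv_one, one_mul]
  rintro ⟨d, hd⟩
  exact ⟨1, Subtype.ext (by simpa using key d hd)⟩

theorem TT.commute_of_mem_two_group {D : Set G} (hD : TT D) {P : Subgroup G} (hP : IsPGroup 2 P)
    {a b : G} (ha : a ∈ D) (hb : b ∈ D) (ha' : a ∈ P) (hb' : b ∈ P) : Commute a b := by
  by_contra h
  have h3 := hD.pow_three ha hb h
  obtain ⟨n, hn⟩ := hP ⟨a * b, P.mul_mem ha' hb'⟩
  have hn' : (a * b) ^ 2 ^ n = 1 := congrArg Subtype.val hn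
  have h1 : a * b = 1 := by
    have := pow_gcd_eq_one.mpr ⟨h3, hn'⟩
    rwa [Nat.Coprime.gcd_eq_one (Nat.Coprime.pow_right n (by decide)), pow_one] at this
  rw [← hD.sq a ha] at h1
  exact h (mul_left_cancel h1 ▸ Commute.refl _)

/-- A commuting subset of maximal size is cut out by any `2`-subgroup containing it. -/
theorem TT.eq_inter_of_max [Finite G] {D : Set G} (hD : TT D) {E : Set G} (hE : E ⊆ D)
    (hmax : ∀ E' : Set G, E' ⊆ D → (∀ a ∈ E', ∀ b ∈ E', Commute a b) → E'.ncard ≤ E.ncard)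
    {P : Subgroup G} (hP : IsPGroup 2 P) (hEP : E ⊆ P) : E = D ∩ P :=
  Set.eq_of_subset_of_ncard_le (Set.subset_inter hE hEP) (hmax _ Set.inter_subset_left
    fun _ ha _ hb => hD.commute_of_mem_two_group hP ha.1 hb.1 ha.2 hb.2)

theorem Fis.max_commuting [Finite G] {D : Set G} (hD : Fis D) {E : Set G} (hE : E ⊆ D)
    (hc : ∀ a ∈ E, ∀ b ∈ E, Commute a b)
    (hmax : ∀ E' : Set G, E' ⊆ D → (∀ a ∈ E', ∀ b ∈ E', Commute a b) → E'.ncard ≤ E.ncard) :
    (∃ P : Sylow 2 G, (P : Subgroup G) ≤ Subgroup.normalizer E) ∧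
      ∀ a ∈ E, ∀ b ∈ E, ∀ c ∈ E, ∀ d ∈ E, a ≠ b → c ≠ d →
        ∃ g ∈ Subgroup.normalizer E, g * a * g⁻¹ = c ∧ g * b * g⁻¹ = d := by
  have hT := hD.toTT
  have h2 : IsPGroup 2 (Subgroup.closure E) :=
    isPGroup_closure_of_commute (fun a ha => by rw [pow_two, hT.sq a (hE ha)]) hc
  constructor
  · obtain ⟨P, hP⟩ := h2.exists_le_sylow
    refine ⟨P, fun g hg => ?_⟩
    rw [hT.eq_inter_of_max hE hmax P.2 (Subgroup.subset_closure.trans hP),
      Subgroup.mem_set_normalizer_iff]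
    intro h
    simp only [Set.mem_inter_iff, hT.conj_mem_iff, SetLike.mem_coe]
    rw [Subgroup.mul_mem_cancel_right _ (Subgroup.inv_mem _ hg), Subgroup.mul_mem_cancel_left _ hg]
  · intro a ha b hb c hc' d hd hab hcd
    obtain ⟨g, e1, e2⟩ := hD.pair_trans_commute (hE ha) (hE hc') ⟨hE hb, hab.symm, hc a ha b hb⟩
      ⟨hE hd, hcd.symm, hc c hc' d hd⟩
    set E' : Set G := (fun y => g * y * g⁻¹) '' E with hE'
    have hE'D : E' ⊆ D := by rintro _ ⟨y, hy, rfl⟩; exact hT.conj g y (hE hy)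
    have hc2 : ∀ u ∈ E', ∀ v ∈ E', Commute u v := by
      rintro _ ⟨y, hy, rfl⟩ _ ⟨z, hz, rfl⟩
      exact (conj_commute_iff g).mpr (hc y hy z hz)
    have hcard : E'.ncard = E.ncard := Set.ncard_image_of_injective _ (conj_injective g)
    have h2' : IsPGroup 2 (Subgroup.closure E') :=
      isPGroup_closure_of_commute (fun a ha => by rw [pow_two, hT.sq a (hE'D ha)]) hc2
    set H := Subgroup.centralizer ({c, d} : Set G) with hH
    have hle : ∀ S : Set G, (∀ u ∈ S, ∀ v ∈ S, Commute u v) → c ∈ S → d ∈ S → S ⊆ H := by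
      intro S hS h1 h2 u hu
      rintro v (rfl | rfl)
      · exact hS _ h1 u hu
      · exact hS _ h2 u hu
    have hEH := hle E hc hc' hd
    have hE'H := hle E' hc2 ⟨a, ha, e1⟩ ⟨b, hb, e2⟩
    obtain ⟨P, hP⟩ := (h2.comap_subtype (K := H)).exists_le_sylow
    obtain ⟨Q, hQ⟩ := (h2'.comap_subtype (K := H)).exists_le_sylow
    obtain ⟨h, hh⟩ := MulAction.exists_smul_eq H Q P
    have hP' : E = D ∩ (P : Subgroup H).map H.subtype :=
      hT.eq_inter_of_max hE hmax (P.2.map _) fun u hu =>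
        ⟨⟨u, hEH hu⟩, hP (Subgroup.subset_closure hu), rfl⟩
    have hQ' : E' = D ∩ (Q : Subgroup H).map H.subtype :=
      hT.eq_inter_of_max hE'D (by rw [hcard]; exact hmax) (Q.2.map _) fun u hu =>
        ⟨⟨u, hE'H hu⟩, hQ (Subgroup.subset_closure hu), rfl⟩
    have hsub : (fun y => ((h : G) * g) * y * ((h : G) * g)⁻¹) '' E ⊆ E := by
      rintro _ ⟨y, hy, rfl⟩
      have h1 : g * y * g⁻¹ ∈ E' := ⟨y, hy, rfl⟩
      rw [hQ'] at h1
      obtain ⟨h1, u, hu, e⟩ := h1
      rw [hP']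
      refine ⟨hT.conj _ y (hE hy), h * u * h⁻¹, ?_, ?_⟩
      · rw [← hh]
        exact Subgroup.smul_mem_pointwise_smul u (MulAut.conj h) _ hu
      · have e' : (u : G) = g * y * g⁻¹ := e
        show (h : G) * u * (h : G)⁻¹ = _
        rw [e']; group
    refine ⟨h * g, ?_, ?_, ?_⟩
    · rw [Subgroup.mem_normalizer_iff_conj_image_eq]
      exact Set.eq_of_subset_of_ncard_le hsub
        (Set.ncard_image_of_injective _ (conj_injective _)).ge
    · calc (h : G) * g * a * ((h : G) * g)⁻¹ = h * (g * a * g⁻¹) * (h : G)⁻¹ := by group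
        _ = c := by rw [e1]; exact conj_eq_of_commute (h.2 c (by simp)).symm
    · calc (h : G) * g * b * ((h : G) * g)⁻¹ = h * (g * b * g⁻¹) * (h : G)⁻¹ := by group
        _ = d := by rw [e2]; exact conj_eq_of_commute (h.2 d (by simp)).symm

end CL.Fischer
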