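import Cfsg.Agent.Base
import Cfsg.Agent.Fischer.Rank3

/-!
# The case where `θ` is non-trivial on `D_x`: the symmetric group of degree five
-/

set_option autoImplicit false

namespace CL.Fischer

open CL.Kei

variable {G : Type*} [Group G]

theorem kD5 {D : Set G} (hD : TT D) {d e y x c : G}
    (md : d ∈ D) (me : e ∈ D) (my : y ∈ D) (mx : x ∈ D) (mc : c ∈ D)
    (h0 : ¬ Commute d e) (h1 : ¬ Commute e y) (h2 : ¬ Commute y x) (h3 : ¬ Commute y c) (h4 :
    Commute d y) (h5 : Commute d x) (h6 : Commute d c) (h7 : Commute e x) (h8 : Commute e c) (h9 :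
    Commute x c) :
    Commute x (cj (cj (cj (cj (cj (cj c y) x) e) y) d) e) ∧
      Commute d (cj (cj (cj (cj (cj (cj c y) x) e) y) d) e) ∧
      cj (cj (cj (cj (cj (cj (cj c y) x) e) y) d) e) e = cj e (cj (cj (cj (cj (cj (cj c y) x) e)
        y) d) e) ∧
      (cj (cj (cj (cj (cj (cj x y) x) e) y) d) e) = d := by
  have := check_sound_inv (a := d) (l := [e, y, x, c]) (ng := 5)
    (Df := (get 0x30006000200050001001400000013000200120001001100030010000200030001000e0001000d0000000c0002000b0001000a0003000900020004000400020003000200020001000100000000000000000000000000000000000000000000 32))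
    (F := (get 0x150015000000000015001500000000001500150000000f000e0001000f000d000d000f000f000d0003000e0003000d000e00010003000c0003000a000b0001000b000400170003000600170017000a0017001700020017000700170001001700010007000700010017001700030006000e0016000b000d0016000a0001001600010016000100160016000000060006000000160016000200050000000e0000000e0000000e000e0005000c000c0001000c000c0006000a000a0000000a0000000a0000000a0002000a0002000a00020003000a0008000a000800030000000800000008000000080007000a00040004000a0007000a00040007000600080006000600070006000300050003000500030005000500060005000400080002000200070003000300070002000200060001000000150015001500010005001500010014000500140014001400000001001400000013000100130013001300020006001300020012000600120012001200010002001200010011000200110011001100030007001100030010000700100010001000020003000d000f000f000f0001000e000d0001000e000e0001000d000d0000000c000c0002000b000b0001000a000a00030008000a00030009000800090009000900020004000400030004000300040003000100040001000300010003000100030001000400000004000000040000000000030000000200000002000000020000000400020008000800020004000300020007000700020003000200010006000600010002000100000005000500000001000200040008000800040002000200030007000700030002000100020006000600020001000000010005000500010000000200020002000100010001000000000000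 48))
    (J := (get 0x69006a00090000000000690000000800000000003800680009000000000000003800030000000000660063000a0000000000270065000900000000000000270003003f004f003f0062000500570058005600610005005f004d005f005e000500420060001a005c00050021001a0042005b000600100005005d005a0005005900200059004100050059000800590040000500070059001800390005000000000000005a000300070019000e00590006000000000000000000000024005500210057000500230054004c004d000500000000000000550004005200060052003d00050000000000000053000300050014000c0052000600000000000000000000000000000000005000040024000c0023004f000600240003004e002300050022000e0021004d000600220005004a00210005000000000000004b00040046004700460015000500000000000000490004003b00440048000a0006001b00420009003a000500420009001b000f0005000000000000004500040009001700140009000600000000000000430003001c00200007003c00050020001b000900070006000500110005001a00050005000f000500180005000000000000003e0004000300180015000300060003000d00030013000500120011000200090005000000000000003a00030010000f000200070005000e000d00010005000500000000000400370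007000000000035003600080000000000000000000000000000000b0034000700000000003200330008000000000000000000000000000000060031000700000000002f003000080000000000000000000000000000000d002e000700000000002c002d000800000000000000000000000000000008002b0007000000000029002a00080000000000000000000000000000000f00280007000000000000000000000000000000250026000700000000000000000000000000000000002400030000000000000000000000000000000000000000000000000000000000000000000000000000000000000000001e001f000800000000000000000000000000000011001d000700000000000000000000000000000000001b00040000000000000009000100000000000000080001000000000000001800040000000000000007000100000000000000160004000000000000000600010000000000000005000100000000000000130004000000000000000400010000000000000011000300000000000000030001000000000000000f000300000000000000020001000000000000000d000300000000000000010001000000000000000b0003000000000000000000010000000000000009000300000000000000000000000000000000000700030000000000000000000000000000000000050003000000000000000000000000000000000003000300000000000000000000000000000000000000020000000000000000000200000000000000000002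 80))
    (M := 108)
    (hyps := [((.g 1), (.g 0), (.c (.g 0) (.g 1))), ((.g 2), (.g 1), (.c (.g 1) (.g 2))), ((.g 3), (.g 2),
      (.c (.g 2) (.g 3))), ((.g 4), (.g 2), (.c (.g 2) (.g 4))), ((.g 0), (.g 2), (.g 0)), ((.g
      0), (.g 3), (.g 0)), ((.g 0), (.g 4), (.g 0)), ((.g 1), (.g 3), (.g 1)), ((.g 1), (.g 4),
      (.g 1)), ((.g 3), (.g 4), (.g 3))])
    (goals := [(((.g 3), (.c (.c (.c (.c (.c (.c (.g 4) (.g 2)) (.g 3)) (.g 1)) (.g 2)) (.g 0)) (.g 1)),
      (.g 3)), 100), (((.g 0), (.c (.c (.c (.c (.c (.c (.g 4) (.g 2)) (.g 3)) (.g 1)) (.g 2)) (.g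
      0)) (.g 1)), (.g 0)), 81), (((.g 1), (.c (.c (.c (.c (.c (.c (.g 4) (.g 2)) (.g 3)) (.g 1))
      (.g 2)) (.g 0)) (.g 1)), (.c (.c (.c (.c (.c (.c (.c (.g 4) (.g 2)) (.g 3)) (.g 1)) (.g 2))
      (.g 0)) (.g 1)) (.g 1))), 103), (((.c (.c (.c (.c (.c (.c (.g 3) (.g 2)) (.g 3)) (.g 1)) (.g
      2)) (.g 0)) (.g 1)), (.c (.c (.c (.c (.c (.c (.g 3) (.g 2)) (.g 3)) (.g 1)) (.g 2)) (.g 0))
      (.g 1)), (.g 0)), 107)])
    ⟨hD.sq _ md, hD.sq _ me, hD.sq _ my, hD.sq _ mx, hD.sq _ mc, trivial⟩
    ⟨(hD.braid md me h0).symm, (hD.braid me my h1).symm, (hD.braid my mx h2).symm, (hD.braid my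
      mc h3).symm, (cj_eq_iff_commute (hD.sq _ my)).mpr h4, (cj_eq_iff_commute (hD.sq _ mx)).mpr
      h5, (cj_eq_iff_commute (hD.sq _ mc)).mpr h6, (cj_eq_iff_commute (hD.sq _ mx)).mpr h7,
      (cj_eq_iff_commute (hD.sq _ mc)).mpr h8, (cj_eq_iff_commute (hD.sq _ mc)).mpr h9, trivial⟩ (by decide +kernel)
  exact ⟨(cj_eq_iff_commute (hD.sq _ (hD.cj_mem (hD.cj_mem (hD.cj_mem (hD.cj_mem (hD.cj_mem (hD.cj_mem
    mc my) mx) me) my) md) me))).mp this.1, (cj_eq_iff_commute (hD.sq _ (hD.cj_mem (hD.cj_mem
    (hD.cj_mem (hD.cj_mem (hD.cj_mem (hD.cj_mem mc my) mx) me) my) md) me))).mp this.2.1, Eq.symm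
    this.2.2.1, (cj_self (hD.sq _ (hD.cj_mem (hD.cj_mem (hD.cj_mem (hD.cj_mem (hD.cj_mem
    (hD.cj_mem mx my) mx) me) my) md) me))).symm.trans this.2.2.2.1⟩

theorem kU3 {D : Set G} (hD : TT D) {x y z a : G}
    (mx : x ∈ D) (my : y ∈ D) (mz : z ∈ D) (ma : a ∈ D)
    (h0 : cj x y = cj y x) (h1 : cj x z = cj z x) (h2 : cj y z = cj z y) (h3 : cj x (cj y z) = cj
    (cj y z) x) (h4 : Commute a x) (h5 : ¬ Commute a y) (h6 : ¬ Commute a z) (h7 : ¬ Commute a (cj
    y z)) (h8 : ¬ Commute a (cj (cj y x) z)) :
    Commute x (cj (cj (cj (cj (cj (cj a x) y) z) x) y) z) ∧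
      Commute a (cj (cj (cj (cj (cj (cj a x) y) z) x) y) z) ∧
      (cj (cj (cj (cj (cj (cj x x) y) z) x) y) z) = x := by
  have := check_sound_inv (a := x) (l := [y, z, a]) (ng := 4)
    (Df := (get 0x300040002001800010017000000160002001500010014000000000002001200010011000000100002000f0001000e00000003000c00030002000b000000010006000300020003000100030006000000020001000200000001000000000000000000000000000000000000 32))
    (F := (get 0x1900190000000000190019000000000019001900000003001300030013000300130012000900120012001a00170011001a0005001a0001001a0009001a000d000d001a0009001a0000000800080000001a001a000300040000001300000013000000130012000500120011001700110010000c0010000c0010000c0005000100170017000100050005001800180018000200000000001900190019000c00170017000200070017000d0017000d0017000d00100008000200100001000a0000000c00170017000c00000001000c00070017000500010007000500040005000c00060006000c0005000c00050006001800040007000c0004000200070001000c000c00010007000400080004000c0006000500010006000200020006000100000005000200020005000000010004000000180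002001900190002001800170001001800180001001700170000000c001700000016000c0016001600160002000400160002001500040015001500150001000000150001001400000014001400140000000000130002001200120001001100110000001000100002000800100002000f0008000f000f000f00010003000f0001000e0003000e000e000e00000003000d0003000c000a00030006000900030002000100030008000800030001000000030000000300000003000700000006000200010006000600010002000200000005000500000002000400000001000100000004000c000200040004000b000b000400000001000d000c0003000c0002000b00010000000b000b00000001000a00060003000300020009000900020003000800010003000000060007000700060000000100020006000600020001000000020005000500020000000400010000000100010001000000000000 48))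
    (J := (get 0x6a006b000900000000006a00000008000000000053006900090000000000000053000300000000000000670004002b000b002b0066000500650062006500500005002a0063005600640005002900600016004e0005005e001e005e00400005000000000000006100030021005e001f00430005000000000000005f0003001d001b0014005e000600000000000000000000000000000000005c0004002b0004002b005b0005002a0057002a005a00050029003500290059000500000000000000580004001300280013004000050000000000000056000300000000005500370008000000000003005400070000000000530039000800000000004c005200070038001300510044000500350004001300480006000000000000004f00040010004b0010001b0005004d0009001900200005002800190009000c0006000000000000004b000300490047004a00080006003e003f0007003b00050035003c004500060006001a001600150005000500000000000000460003000500130003003a00050013000300050015000500360002004200350005004100020019001a00050000000000000041000300130019000200070006000200090002001c000500130005000300020005000000000000003d000300190018000100050005000000000000003b000300170016000000030005001400150000000200050000000000000038000300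00000000000000000000000000000000360003000000000000000000000000000000330034000800000000000000000000000000000013003200070000000000300031000800000000000000000000000000000002002f000700000000002d002e000800000000000000000000000000000000002c000700000000000000000000000000000000000000000000000000000000000000000000000000000000000000000026002700080000000000000000000000000000000900250007000000000023002400080000000000000000000000000000001b0022000700000000000000000000000000000000000800010000000000000007000100000000000000060001000000000000001d000300000000000000050001000000000000001b000400000000000000040001000000000000000300010000000000000018000300000000000000020001000000000000001600030000000000000001000100000000000000140003000000000012000e0008000000000012000f0008000000000011000d0007000000000000000000010000000000000000000000000000000000000000000000000000000d00030000000000000000000000000000000000000000000000000000000a00030000000000000000000000000000000000000000000000000000000700030000000000000000000000000000000000050003000000000000000000000000000000000003000300000000000000000000000000000000000000000000000000000000000200000000000000000002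 80))
    (M := 109)
    (hyps := [((.g 1), (.g 0), (.c (.g 0) (.g 1))), ((.g 2), (.g 0), (.c (.g 0) (.g 2))), ((.g 2), (.g 1),
      (.c (.g 1) (.g 2))), ((.c (.g 1) (.g 2)), (.g 0), (.c (.g 0) (.c (.g 1) (.g 2)))), ((.g 3),
      (.g 0), (.g 3)), ((.g 1), (.g 3), (.c (.g 3) (.g 1))), ((.g 2), (.g 3), (.c (.g 3) (.g 2))),
      ((.c (.g 1) (.g 2)), (.g 3), (.c (.g 3) (.c (.g 1) (.g 2)))), ((.c (.c (.g 1) (.g 0)) (.g
      2)), (.g 3), (.c (.g 3) (.c (.c (.g 1) (.g 0)) (.g 2))))])
    (goals := [(((.g 0), (.c (.c (.c (.c (.c (.c (.g 3) (.g 0)) (.g 1)) (.g 2)) (.g 0)) (.g 1)) (.g 2)),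
      (.g 0)), 93), (((.g 3), (.c (.c (.c (.c (.c (.c (.g 3) (.g 0)) (.g 1)) (.g 2)) (.g 0)) (.g
      1)) (.g 2)), (.g 3)), 104), (((.c (.c (.c (.c (.c (.c (.g 0) (.g 0)) (.g 1)) (.g 2)) (.g 0))
      (.g 1)) (.g 2)), (.c (.c (.c (.c (.c (.c (.g 0) (.g 0)) (.g 1)) (.g 2)) (.g 0)) (.g 1)) (.g
      2)), (.g 0)), 108)])
    ⟨hD.sq _ mx, hD.sq _ my, hD.sq _ mz, hD.sq _ ma, trivial⟩
    ⟨h0.symm, h1.symm, h2.symm, h3.symm, (cj_eq_iff_commute (hD.sq _ mx)).mpr h4, (hD.braid ma my
      h5).symm, (hD.braid ma mz h6).symm, (hD.braid ma (hD.cj_mem my mz) h7).symm, (hD.braid ma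
      (hD.cj_mem (hD.cj_mem my mx) mz) h8).symm, trivial⟩ (by decide +kernel)
  exact ⟨(cj_eq_iff_commute (hD.sq _ (hD.cj_mem (hD.cj_mem (hD.cj_mem (hD.cj_mem (hD.cj_mem (hD.cj_mem
    ma mx) my) mz) mx) my) mz))).mp this.1, (cj_eq_iff_commute (hD.sq _ (hD.cj_mem (hD.cj_mem
    (hD.cj_mem (hD.cj_mem (hD.cj_mem (hD.cj_mem ma mx) my) mz) mx) my) mz))).mp this.2.1, (cj_self
    (hD.sq _ (hD.cj_mem (hD.cj_mem (hD.cj_mem (hD.cj_mem (hD.cj_mem (hD.cj_mem mx mx) my) mz) mx)
    my) mz))).symm.trans this.2.2.1⟩

theorem kU3' {D : Set G} (hD : TT D) {x y z a : G}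
    (mx : x ∈ D) (my : y ∈ D) (mz : z ∈ D) (ma : a ∈ D)
    (h0 : cj x y = cj y x) (h1 : cj x z = cj z x) (h2 : cj y z = cj z y) (h3 : cj x (cj y z) = cj
    (cj y z) x) (h4 : Commute a x) (h5 : ¬ Commute a y) (h6 : ¬ Commute a z) (h7 : ¬ Commute a (cj
    y z)) (h8 : ¬ Commute a (cj (cj y x) z)) (h9 : (cj (cj (cj (cj (cj (cj a x) y) z) x) y) z) =
    a) :
    a = x := by
  have := check_sound_inv (a := x) (l := [y, z, a]) (ng := 4)
    (Df := (get 0x2001200010011000000100002000f0001000e00000003000c00030002000b000000010006000300020003000100030006000000020001000200000001000000000000000000000000000000000000 32))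
    (F := (get 0x300030000000000030003000000000003000300000000000300030003000700060007000a000a000a000c00010001000c000a000c001000100010000d00030003000d0010000d001100110011000c0003000a0004000900090004000a00010010000a000a00100001000300110010001000110003000a0008000900090008000a001000080002000a0001001000100001000a0007000c00010001000c000700110003001000110009000100110002000a000a00020011001000090006000a00090008000c00060005000c000d00030003000a00060006000a0003000300090002000100080003000300080001000100060002000200060001000000070006000600070000000200050000000900010011001100010009000900120012001200020003000300130013000300130013000c0003000d000d0003000c00060003000a000a000300060009000300020008000300010010000200080008000f000f000f000100030003000e000e000300000003000600000007000700000006000200010006000600010002000200000005000500000002000c000200040004000b000b00040000000100120002001300130002001200130013001300110001001200120001001100110000001000100002000f000f0001000e000e00000003000d000c0003000c0002000b000b00000001000a00060003000300020009000900020003000300010008000800010003000700060000000100020006000600020001000500020000000400010000000300030003000200020002000100010001000000000000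 48))
    (J := (get 0x5e005f000900000000005e0000000800000000005c005d0009000000000000005c0003000000000036005b000700000000005a003d000900000000004700590007000000000000005800030000000000570050000900000000003e0056000700000000000000550003000000000054004e0009000000000010005300070043001c000c005200050000000000000051000300330004004900140005000000000000004f0003004c004a003a000b0005000000000000004d000300480032000a00400005000000000000004b000300330009004900450005004800090020002a000500000000000000480003002700200009000d0006000000000000004600030038003f0008003400050044003b0041000700050043000b0007002a000500000000000000420003000d0006000c003200060027000b000600280005002a0029002800060005001c0006000500040005002d002c000300100005000000000000003c0003002b002a0003000d0005000c000b00020029000500000000000000390003000a0009000100280005000000000000003700030020001f0001000600050000000000000035000300220021000000080005001e001d000000050005000000000000003200030000000000310016000800000000000b0030000700000000002f0019000800000000002e0017000700000000000000090001000000000000002c0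00300000000000000080001000000000000002a000300000000000000070001000000000000000600010000000000000005000100000000002600130008000000000009002500070000000000240012000800000000002300110007000000000000000400010000000000000021000300000000000000030001000000000000001f000300000000000000020001000000000000001d00030000000000000001000100000000001b000f000800000000001a000e00070000000000000000000100000000000000180003000000000000000000000000000000000000000200000000000000150003000000000000000000000000000000000000000000000000000000000000000000000000000000000000000000000000000000000000000000000000000000000000000000000000000000000000000000000000000000000000000000000000000b0003000000000000000000000000000000000009000300000000000000000000000000000000000000000000000000000006000300000000000000000000000000000000000000000000000000000000000000000000000000000002000000000000000000020000000000000000000200000000000000000002 80))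
    (M := 97)
    (hyps := [((.g 1), (.g 0), (.c (.g 0) (.g 1))), ((.g 2), (.g 0), (.c (.g 0) (.g 2))), ((.g 2), (.g 1),
      (.c (.g 1) (.g 2))), ((.c (.g 1) (.g 2)), (.g 0), (.c (.g 0) (.c (.g 1) (.g 2)))), ((.g 3),
      (.g 0), (.g 3)), ((.g 1), (.g 3), (.c (.g 3) (.g 1))), ((.g 2), (.g 3), (.c (.g 3) (.g 2))),
      ((.c (.g 1) (.g 2)), (.g 3), (.c (.g 3) (.c (.g 1) (.g 2)))), ((.c (.c (.g 1) (.g 0)) (.g
      2)), (.g 3), (.c (.g 3) (.c (.c (.g 1) (.g 0)) (.g 2)))), ((.c (.c (.c (.c (.c (.c (.g 3)
      (.g 0)) (.g 1)) (.g 2)) (.g 0)) (.g 1)) (.g 2)), (.c (.c (.c (.c (.c (.c (.g 3) (.g 0)) (.g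
      1)) (.g 2)) (.g 0)) (.g 1)) (.g 2)), (.g 3))])
    (goals := [(((.g 3), (.g 3), (.g 0)), 96)])
    ⟨hD.sq _ mx, hD.sq _ my, hD.sq _ mz, hD.sq _ ma, trivial⟩
    ⟨h0.symm, h1.symm, h2.symm, h3.symm, (cj_eq_iff_commute (hD.sq _ mx)).mpr h4, (hD.braid ma my
      h5).symm, (hD.braid ma mz h6).symm, (hD.braid ma (hD.cj_mem my mz) h7).symm, (hD.braid ma
      (hD.cj_mem (hD.cj_mem my mx) mz) h8).symm, (cj_self (hD.sq _ (hD.cj_mem (hD.cj_mem
      (hD.cj_mem (hD.cj_mem (hD.cj_mem (hD.cj_mem ma mx) my) mz) mx) my) mz))).trans h9, trivial⟩ (by decide +kernel)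
  exact (cj_self (hD.sq _ ma)).symm.trans this.1

theorem kA4 {D : Set G} (hD : TT D) {d a y x : G}
    (md : d ∈ D) (ma : a ∈ D) (my : y ∈ D) (mx : x ∈ D)
    (h0 : ¬ Commute d a) (h1 : ¬ Commute a y) (h2 : ¬ Commute y x) (h3 : Commute d y) (h4 :
    Commute d x) (h5 : Commute a x) :
    Commute (cj y x) (cj y (cj d a)) := by
  have := check_sound_inv (a := d) (l := [a, y, x]) (ng := 4)
    (Df := (get 0x4000200030002000200010001000000000000000000000000000000000000 32))
    (F := (get 0x600070006000700060007000700020004000700000005000400030004000700040002000100030001000000030000000200000002000000020000000600020003000500010002000400000001000500020001000400010000 48))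
    (J := (get 0xd0004000c0004000c000a0005000b0005000100020006000900020006000300060000000800070000000600000000000000000000000000000000000500010000000000000004000100000000000000050004000000000000000300010000000000000002000100000000000000010001000000000000000000010000000000000000000000000000000000000000 80))
    (M := 15)
    (hyps := [((.g 1), (.g 0), (.c (.g 0) (.g 1))), ((.g 2), (.g 1), (.c (.g 1) (.g 2))), ((.g 3), (.g 2),
      (.c (.g 2) (.g 3))), ((.g 0), (.g 2), (.g 0)), ((.g 0), (.g 3), (.g 0)), ((.g 1), (.g 3),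
      (.g 1))])
    (goals := [(((.c (.g 2) (.g 3)), (.c (.g 2) (.c (.g 0) (.g 1))), (.c (.g 2) (.g 3))), 14)])
    ⟨hD.sq _ md, hD.sq _ ma, hD.sq _ my, hD.sq _ mx, trivial⟩
    ⟨(hD.braid md ma h0).symm, (hD.braid ma my h1).symm, (hD.braid my mx h2).symm,
      (cj_eq_iff_commute (hD.sq _ my)).mpr h3, (cj_eq_iff_commute (hD.sq _ mx)).mpr h4,
      (cj_eq_iff_commute (hD.sq _ mx)).mpr h5, trivial⟩ (by decide +kernel)
  exact (cj_eq_iff_commute (hD.sq _ (hD.cj_mem my (hD.cj_mem md ma)))).mp this.1


theorem TT.cj_mem_Dx {D : Set G} (hD : TT D) {x u v : G} (hu : u ∈ Dx D x) (hv : v ∈ Dx D x) :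
    cj u v ∈ Dx D x := by
  refine ⟨hD.cj_mem hu.1 hv.1, fun e => hu.2.1 ?_, commute_cj hu.2.2 hv.2.2⟩
  rw [← cj_cj (a := u) (hD.sq v hv.1), e, cj_of_commute (hD.sq v hv.1) hv.2.2]

theorem TT.mem_Dx_of_cj {D : Set G} (hD : TT D) {x u v : G} (hu : cj u v ∈ Dx D x)
    (hv : v ∈ Dx D x) : u ∈ Dx D x := by
  have := hD.cj_mem_Dx hu hv
  rwa [cj_cj (hD.sq v hv.1)] at this

namespace Fis

variable {D : Set G} (hD : Fis D)
include hD

theorem ncard_inter_of_commute [Finite G] {a b c d : G} (ha : a ∈ D) (hc : c ∈ D) (hb : b ∈ Dx D a)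
    (hd : d ∈ Dx D c) : (Dx D a ∩ Dx D b).ncard = (Dx D c ∩ Dx D d).ncard := by
  obtain ⟨g, rfl, rfl⟩ := hD.pair_trans_commute ha hc hb hd
  rw [hD.toTT.Dx_conj, hD.toTT.Dx_conj, ← Set.image_inter (conj_injective g),
    Set.ncard_image_of_injective _ (conj_injective g)]

theorem ncard_inter_of_not_commute [Finite G] {a b c d : G} (ha : a ∈ D) (hb : b ∈ D) (hc : c ∈ D)
    (hd : d ∈ D) (hab : ¬ Commute a b) (hcd : ¬ Commute c d) :
    (Dx D a ∩ Dx D b).ncard = (Dx D c ∩ Dx D d).ncard := by
  obtain ⟨g, rfl, rfl⟩ := hD.pair_trans_not_commute ha hb hc hd hab hcd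
  rw [hD.toTT.Dx_conj, hD.toTT.Dx_conj, ← Set.image_inter (conj_injective g),
    Set.ncard_image_of_injective _ (conj_injective g)]

/-- If `θ` is non-trivial on `D_x`, there are no three mutually commuting transpositions. -/
theorem inter_eq_empty_of_theta [Finite G] {x d d' : G} (hx : x ∈ D) (hd : d ∈ Dx D x)
    (hd' : d' ∈ Dx D x) (hne : d ≠ d') (h : Dx D x ∩ Dx D d = Dx D x ∩ Dx D d') :
    Dx D x ∩ Dx D d = ∅ := by
  have hT := hD.toTT
  have hdd : ¬ Commute d d' := fun t => by
    have : d' ∈ Dx D x ∩ Dx D d' := h ▸ ⟨hd', hd'.1, hne.symm, t⟩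
    exact this.2.2.1 rfl
  have hxd : x ∈ Dx D d := Dx_symm hx hd
  -- a member of `D_d` not commuting with `d'` is `θ`-equivalent to `x` in `D_d`
  have h1 : ∀ y ∈ Dx D d, ¬ Commute d' y → Dx D d ∩ Dx D y = Dx D d ∩ Dx D x := by
    intro y hy hy'
    have hyx : ¬ Commute y x := fun t => by
      have : y ∈ Dx D x ∩ Dx D d' := h ▸ ⟨⟨hy.1, fun e => hy' (e ▸ hd'.2.2.symm), t.symm⟩, hy⟩
      exact hy' this.2.2.2
    refine (Set.eq_of_subset_of_ncard_le ?_
      (hD.ncard_inter_of_commute hd.1 hd.1 hy hxd).le).symm
    rintro c ⟨hc, hc'⟩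
    have hcd' : c ∈ Dx D d' := (h ▸ (⟨hc', hc⟩ : c ∈ Dx D x ∩ Dx D d) : c ∈ Dx D x ∩ Dx D d').2
    refine ⟨hc, hc.1, fun e => hyx (e ▸ hc'.2.2.symm), ?_⟩
    by_contra hyc
    obtain ⟨k1, k2, k3, k4⟩ := kD5 hT hd.1 hd'.1 hy.1 hx hc.1 hdd hy' hyx hyc hy.2.2 hd.2.2.symm
      hc.2.2 hd'.2.2.symm hcd'.2.2 hc'.2.2
    have hm := hT.cj_mem (hT.cj_mem (hT.cj_mem (hT.cj_mem (hT.cj_mem (hT.cj_mem hc.1 hy.1) hx)
      hd'.1) hy.1) hd.1) hd'.1
    have k5 : ¬ Commute (cj (cj (cj (cj (cj (cj c y) x) d') y) d) d') d' := fun t => by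
      rw [eq_of_commute_of_braid (hT.sq _ hm) (hT.sq _ hd'.1) t k3] at k2
      exact hdd k2
    have k6 : cj (cj (cj (cj (cj (cj c y) x) d') y) d) d' ∈ Dx D x ∩ Dx D d' := by
      rw [← h]
      exact ⟨⟨hm, fun e => k5 (by rw [e]; exact hd'.2.2), k1⟩, hm, fun e => hc'.2.1
        (cj_inj (cj_inj (cj_inj (cj_inj (cj_inj (cj_inj (e.trans k4.symm))))))), k2⟩
    exact k5 k6.2.2.2.symm
  obtain ⟨y, hy, hy'⟩ : ∃ y ∈ Dx D d, ¬ Commute d' y := by
    by_contra hn
    push Not at hn
    exact hne (hD.theta_le hd.1 hd'.1 fun y hy => ⟨hy.1, fun e => hdd (e ▸ hy.2.2), hn y hy⟩)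
  have hY := h1 y hy hy'
  -- all of `D_d` is `θ`-equivalent to `x`
  have h2 : ∀ c, Relation.ReflTransGen (NCRel D d) y c → Dx D d ∩ Dx D c = Dx D d ∩ Dx D x := by
    intro c hc
    induction hc with
    | refl => exact hY
    | @tail u c _ t ih =>
      by_contra hc
      have hcd' : Commute d' c := by
        by_contra hn
        exact hc (h1 c t.2.1 hn)
      have hcy : ¬ Commute c y := fun e => by
        have : c ∈ Dx D d ∩ Dx D u := by
          rw [ih, ← hY]
          exact ⟨t.2.1, t.2.1.1, fun e' => hy' (e' ▸ hcd'), e.symm⟩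
        exact t.2.2 this.2.2.2
      have hm := hT.cj_mem_Dx t.2.1 hy
      have h3 : ¬ Commute d' (cj c y) := fun e =>
        hy' (hT.commute_of_cj t.2.1.1 hy.1 hcy hcd' e)
      have h4 := h1 _ hm h3
      apply hc
      rw [← hY] at h4 ⊢
      have sy := hT.sq y hy.1
      have e1 := hT.inter_Dx_conj (x := d) (y := cj c y) (g := y) hy.2.2.symm
      have e2 := hT.inter_Dx_conj (x := d) (y := y) (g := y) hy.2.2.symm
      rw [← cj_eq_conj sy] at e1 e2
      rw [cj_cj sy] at e1
      rw [cj_self sy] at e2
      rw [e1, h4, ← e2]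
  rw [Set.eq_empty_iff_forall_notMem]
  rintro c ⟨hc, hc'⟩
  have : c ∈ Dx D d ∩ Dx D c := by
    rw [h2 c (hD.ncConn hd.1 hy hc')]
    exact ⟨hc', hc⟩
  exact this.2.2.1 rfl

/-- The plane lemma: `D_d ∩ D_a` is a hyperplane of `D_d`. -/
theorem hyperplane_of_no_triangle (h0 : ∀ a ∈ D, ∀ b ∈ Dx D a, ∀ c ∈ Dx D a, c ∉ Dx D b)
    {d a x y z : G} (hd : d ∈ D) (ha : a ∈ D) (hx : x ∈ Dx D d) (hy : y ∈ Dx D d) (hz : z ∈ Dx D d)
    (hax : x ∈ Dx D a) (hay : ¬ Commute a y) (haz : ¬ Commute a z) :
    Commute a (cj y z) ∨ Commute a (cj (cj y x) z) := by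
  have hT := hD.toTT
  by_contra hn
  push Not at hn
  have br : ∀ u ∈ Dx D d, ∀ v ∈ Dx D d, cj u v = cj v u := fun u hu v hv =>
    (hT.braid_iff hu.1 hv.1).mpr (h0 d hd u hu v hv)
  obtain ⟨k1, k2, k3⟩ := kU3 hT hx.1 hy.1 hz.1 ha (br x hx y hy) (br x hx z hz) (br y hy z hz)
    (br x hx _ (hT.cj_mem_Dx hy hz)) hax.2.2 hay haz hn.1 hn.2
  have hm := hT.cj_mem (hT.cj_mem (hT.cj_mem (hT.cj_mem (hT.cj_mem (hT.cj_mem ha hx.1) hy.1)
      hz.1) hx.1) hy.1) hz.1
  refine h0 a ha x hax _ ⟨hm, fun e => hax.2.1 ?_, k2⟩ ⟨hm, fun e => hax.2.1 ?_, k1⟩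
  · exact (kU3' hT hx.1 hy.1 hz.1 ha (br x hx y hy) (br x hx z hz) (br y hy z hz)
      (br x hx _ (hT.cj_mem_Dx hy hz)) hax.2.2 hay haz hn.1 hn.2 e).symm
  · exact (cj_inj (cj_inj (cj_inj (cj_inj (cj_inj (cj_inj (e.trans k3.symm))))))).symm

theorem unique_of_no_triangle [Finite G] (h0 : ∀ a ∈ D, ∀ b ∈ Dx D a, ∀ c ∈ Dx D a, c ∉ Dx D b)
    {d a x x₂ : G} (hd : d ∈ D) (ha : a ∈ D) (hda : ¬ Commute d a) (hx : x ∈ Dx D d ∩ Dx D a)
    (hx₂ : x₂ ∈ Dx D d ∩ Dx D a) : x = x₂ := by
  have hT := hD.toTT
  by_contra hne
  have nc : ∀ u ∈ Dx D d, ∀ v ∈ Dx D d, u ≠ v → ¬ Commute u v := fun u hu v hv e t =>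
    h0 d hd u hu v hv ⟨hv.1, e.symm, t⟩
  obtain ⟨y, hy, hy'⟩ : ∃ y ∈ Dx D d, ¬ Commute a y := by
    by_contra hn
    push Not at hn
    exact hda (hD.theta_le hd ha (fun y hy => ⟨hy.1, fun e => hda (e ▸ hy.2.2), hn y hy⟩) ▸
      Commute.refl d)
  have hyx : ∀ m ∈ Dx D d ∩ Dx D a, ¬ Commute y m := fun m hm =>
    nc y hy m hm.1 fun e => hy' (e ▸ hm.2.2.2)
  have hp : ∀ m ∈ Dx D d ∩ Dx D a, ¬ Commute a (cj y m) := fun m hm t =>
    hy' ((commute_cj_iff (hT.sq m hm.1.1) hm.2.2.2).mp t)
  have hpd : ∀ m ∈ Dx D d ∩ Dx D a, cj y m ∈ Dx D d := fun m hm => hT.cj_mem_Dx hy hm.1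
  have ha' := hT.cj_mem hd ha
  -- the key commutation
  have key : ∀ u ∈ Dx D d, ∀ p ∈ Dx D d, ¬ Commute a u → Commute a (cj u p) →
      cj u (cj d a) ∈ Dx D p := by
    intro u hu p hp hau haup
    have hup : ¬ Commute u p := fun t => hau (by rwa [cj_of_commute (hT.sq p hp.1) t] at haup)
    have hm := hT.cj_mem_Dx hu hp
    have k := kA4 hT hd ha hu.1 hm.1 hda hau (hT.not_commute_cj_left hu.1 hp.1 hup) hu.2.2 hm.2.2
      haup
    rw [cj_left_of_braid (hT.sq u hu.1) (hT.sq p hp.1) (hT.braid hu.1 hp.1 hup)] at k
    refine ⟨hT.cj_mem hu.1 ha', fun e => ?_, k⟩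
    have h1 : ¬ Commute u (cj d a) := fun t =>
      hau (hT.commute_of_cj hd ha hda hu.2.2.symm t).symm
    have h2 := hp.2.2
    rw [← e, hT.braid hu.1 ha' h1, commute_cj_iff (hT.sq u hu.1) hu.2.2] at h2
    exact hT.not_commute_cj_left hd ha hda h2
  have hpp : cj y x ≠ cj y x₂ := fun e => hne (hT.cj_cancel hy.1 hx.1.1 hx₂.1.1 (hyx x hx) e)
  have hsub : insert d ((fun m => cj (cj m (cj y x)) (cj d a)) '' (Dx D d ∩ Dx D a)) ⊆
      Dx D (cj y x) ∩ Dx D (cj y x₂) := by
    rintro _ (rfl | ⟨m, hm, rfl⟩)
    · exact ⟨Dx_symm hd (hpd x hx), Dx_symm hd (hpd x₂ hx₂)⟩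
    · have hu := hT.cj_mem_Dx hm.1 (hpd x hx)
      have sp := hT.sq _ (hpd x hx).1
      have hmp : ¬ Commute m (cj y x) := nc m hm.1 _ (hpd x hx) fun e => hp x hx (e ▸ hm.2.2.2)
      have hau : ¬ Commute a (cj m (cj y x)) := fun t =>
        hp x hx (hT.commute_of_cj hm.1.1 (hpd x hx).1 hmp hm.2.2.2 t)
      refine ⟨key _ hu _ (hpd x hx) hau (by rw [cj_cj sp]; exact hm.2.2.2),
        key _ hu _ (hpd x₂ hx₂) hau ?_⟩
      rcases hD.hyperplane_of_no_triangle h0 hd ha hm.1 hu (hpd x₂ hx₂) hm.2 hau (hp x₂ hx₂) with
        h | h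
      · exact h
      · exfalso
        have h3 := hT.cj_mem_Dx hx.1 hx₂.1
        have h4 := hT.cj_mem_Dx hx.2 hx₂.2
        rw [cj_cj_of_braid (hT.sq m hm.1.1) (hT.braid hm.1.1 (hpd x hx).1 hmp),
          hT.braid hy.1 hx.1.1 (hyx x hx), hT.braid hy.1 hx₂.1.1 (hyx x₂ hx₂),
          ← cj_dist (hT.sq y hy.1)] at h
        exact hy' (hT.commute_of_cj h3.1 hy.1 (fun t => hyx _ ⟨h3, h4⟩ t.symm) h4.2.2 h)
  have hcard := Set.ncard_le_ncard hsub
  rw [Set.ncard_insert_of_notMem, Set.ncard_image_of_injective _ (fun u v e => cj_inj (cj_inj e)),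
    hD.ncard_inter_of_not_commute hd ha (hpd x hx).1 (hpd x₂ hx₂).1 hda
      (nc _ (hpd x hx) _ (hpd x₂ hx₂) hpp)] at hcard
  · omega
  · rintro ⟨m, hm, e⟩
    have e1 : cj m (cj y x) = a := by
      rw [← cj_cj (a := cj m (cj y x)) (hT.sq _ ha')]
      simp only at e
      rw [e, cj_left_of_braid (hT.sq d hd) (hT.sq a ha) (hT.braid hd ha hda)]
    exact hda (e1 ▸ (hT.cj_mem_Dx hm.1 (hpd x hx)).2.2)

theorem Dx_eq_of_no_triangle [Finite G] (h0 : ∀ a ∈ D, ∀ b ∈ Dx D a, ∀ c ∈ Dx D a, c ∉ Dx D b)
    {d a x y : G} (hd : d ∈ D) (ha : a ∈ D) (hda : ¬ Commute d a) (hx : x ∈ Dx D d ∩ Dx D a)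
    (hy : y ∈ Dx D d) (hay : ¬ Commute a y) : Dx D d ⊆ {x, y, cj y x} := by
  have hT := hD.toTT
  intro z hz
  have ne : ∀ u ∈ Dx D d, u ≠ a := fun u hu e => hda (e ▸ hu.2.2)
  by_cases haz : Commute a z
  · exact Or.inl (hD.unique_of_no_triangle h0 hd ha hda ⟨hz, hz.1, ne z hz, haz⟩ hx)
  have hyx : ¬ Commute y x := fun t =>
    h0 d hd y hy x hx.1 ⟨hx.1.1, fun e => hay (e ▸ hx.2.2.2), t⟩
  have sz := hT.sq z hz.1
  have br : ∀ u ∈ Dx D d, ∀ v ∈ Dx D d, cj u v = cj v u := fun u hu v hv =>
    (hT.braid_iff hu.1 hv.1).mpr (h0 d hd u hu v hv)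
  rcases hD.hyperplane_of_no_triangle h0 hd ha hx.1 hy hz hx.2 hay haz with h | h
  · have hm := hT.cj_mem_Dx hy hz
    have e := hD.unique_of_no_triangle h0 hd ha hda ⟨hm, hm.1, ne _ hm, h⟩ hx
    right; right
    rw [← e, cj_left_of_braid (hT.sq y hy.1) sz (br y hy z hz)]
    rfl
  · have hm' := hT.cj_mem_Dx hy hx.1
    have hm := hT.cj_mem_Dx hm' hz
    have e := hD.unique_of_no_triangle h0 hd ha hda ⟨hm, hm.1, ne _ hm, h⟩ hx
    right; left
    have e2 := cj_left_of_braid (hT.sq _ hm'.1) sz (br _ hm' z hz)
    rw [e, cj_cj (hT.sq x hx.1.1)] at e2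
    exact e2.symm

/-- If `θ` is non-trivial on `D_x`, the group is generated by four transpositions satisfying the
Coxeter relations of type `A₄`. -/
theorem exists_A4_of_theta [Finite G] {x d d' : G} (hx : x ∈ D) (hd : d ∈ Dx D x)
    (hd' : d' ∈ Dx D x) (hne : d ≠ d') (h : Dx D x ∩ Dx D d = Dx D x ∩ Dx D d') :
    ∃ a ∈ D, ∃ b ∈ D, ∃ c ∈ D, ∃ e ∈ D, ¬ Commute a b ∧ ¬ Commute b c ∧ ¬ Commute c e ∧
      Commute a c ∧ Commute a e ∧ Commute b e ∧ Subgroup.closure ({a, b, c, e} : Set G) = ⊤ := by
  have hT := hD.toTT
  have h1 := hD.inter_eq_empty_of_theta hx hd hd' hne h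
  have h0 : ∀ a ∈ D, ∀ b ∈ Dx D a, ∀ c ∈ Dx D a, c ∉ Dx D b := fun a ha b hb c hc hc' => by
    have := hD.ncard_inter_of_commute ha hx hb hd
    rw [h1, Set.ncard_empty, Set.ncard_eq_zero] at this
    exact (Set.eq_empty_iff_forall_notMem.mp this) c ⟨hc, hc'⟩
  have hdd : ¬ Commute d d' := fun t => h0 x hx d hd d' hd' ⟨hd'.1, hne.symm, t⟩
  obtain ⟨y, hy, hy'⟩ : ∃ y ∈ Dx D d, ¬ Commute d' y := by
    by_contra hn
    push Not at hn
    exact hne (hD.theta_le hd.1 hd'.1 fun y hy => ⟨hy.1, fun e => hdd (e ▸ hy.2.2), hn y hy⟩)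
  have hxd := Dx_symm hx hd
  have hxd' := Dx_symm hx hd'
  have hyx : ¬ Commute y x := fun t => h0 d hd.1 y hy x hxd ⟨hx, fun e => hy' (e ▸ hxd'.2.2), t⟩
  have hP := hD.Dx_eq_of_no_triangle h0 hd.1 hd'.1 hdd ⟨hxd, hxd'⟩ hy hy'
  refine ⟨d, hd.1, d', hd'.1, y, hy.1, x, hx, hdd, hy', hyx, hy.2.2, hxd.2.2, hxd'.2.2, ?_⟩
  set H := Subgroup.closure ({d, d', y, x} : Set G) with hH
  have md : d ∈ H := Subgroup.subset_closure (by simp)
  have md' : d' ∈ H := Subgroup.subset_closure (by simp)
  have my : y ∈ H := Subgroup.subset_closure (by simp)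
  have mx : x ∈ H := Subgroup.subset_closure (by simp)
  have mcj : ∀ u ∈ H, ∀ v ∈ H, cj u v ∈ H := fun u hu v hv => H.mul_mem (H.mul_mem hv hu) hv
  have hX : Dx D x ⊆ H := by
    have e : ({d, d', cj d d'} : Set G) = Dx D x := by
      refine Set.eq_of_subset_of_ncard_le ?_ ?_
      · rintro _ (rfl | rfl | rfl)
        exacts [hd, hd', hT.cj_mem_Dx hd hd']
      · rw [hD.ncard_Dx hx hd.1, Set.ncard_eq_three.mpr ⟨d, d', cj d d', hne,
          (hT.cj_ne hd'.1 hdd).symm, fun e => hT.not_commute_cj_right hd'.1 hdd (e ▸ Commute.refl _),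
          rfl⟩]
        exact (Set.ncard_le_ncard hP).trans ((Set.ncard_insert_le _ _).trans
          (Nat.succ_le_succ ((Set.ncard_insert_le _ _).trans (by simp))))
    rw [← e]
    rintro _ (rfl | rfl | rfl)
    exacts [md, md', mcj _ md _ md']
  have hX' : ∀ g ∈ H, Dx D (g * x * g⁻¹) ⊆ H := fun g hg => by
    rw [hT.Dx_conj]
    rintro _ ⟨u, hu, rfl⟩
    exact H.mul_mem (H.mul_mem hg (hX hu)) (H.inv_mem hg)
  rw [eq_top_iff, ← hD.gen, Subgroup.closure_le]
  intro u hu
  by_cases hud : Commute d u
  · by_cases e : u = d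
    · exact e ▸ md
    · rcases hP ⟨hu, e, hud⟩ with rfl | rfl | rfl
      exacts [mx, my, mcj _ my _ mx]
  · obtain ⟨p, hp1, hp2⟩ := hD.inter_Dx_nonempty hd.1 hu hud
    have hup := Dx_symm hu hp2
    rcases hP hp1 with rfl | rfl | rfl
    · exact hX hup
    · have := hX' _ (H.mul_mem mx my)
      rw [hT.mul_conj hx hy.1 fun t => hyx t.symm] at this
      exact this hup
    · have := hX' _ my
      rw [← cj_eq_conj (hT.sq y hy.1), ← hT.braid hy.1 hx hyx] at this
      exact this hup

end Fis

end CL.Fischer
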