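import Cfsg.Agent.Base
import Cfsg.Agent.Fischer.Theta

/-!
# The case where `τ` is non-trivial on `D_x`: the polar space
-/

set_option autoImplicit false

namespace CL.Fischer

open CL.Kei

variable {G : Type*} [Group G]

theorem even_ncard_of_invol {α : Type*} {S : Set α} (hS : S.Finite) (f : α → α)
    (h1 : ∀ a ∈ S, f a ∈ S) (h2 : ∀ a ∈ S, f (f a) = a) (h3 : ∀ a ∈ S, f a ≠ a) :
    Even S.ncard := by
  classical
  rw [Set.ncard_eq_toFinset_card S hS, ← ZMod.natCast_eq_zero_iff_even, Finset.card_eq_sum_ones,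
    Nat.cast_sum]
  refine Finset.sum_involution (fun a _ => f a) (fun a _ => by decide)
    (fun a ha _ => h3 a (hS.mem_toFinset.mp ha))
    (fun a ha => hS.mem_toFinset.mpr (h1 a (hS.mem_toFinset.mp ha)))
    (fun a ha => h2 a (hS.mem_toFinset.mp ha))

/-- The double commutant of `a, b` in `D`. -/
def PL (D : Set G) (a b : G) : Set G :=
  {e | e ∈ D ∧ ∀ c ∈ D, Commute c a → Commute c b → Commute c e}

theorem left_mem_PL {D : Set G} {a : G} (ha : a ∈ D) (b : G) : a ∈ PL D a b :=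
  ⟨ha, fun _ _ h _ => h⟩

theorem right_mem_PL {D : Set G} (a : G) {b : G} (hb : b ∈ D) : b ∈ PL D a b :=
  ⟨hb, fun _ _ _ h => h⟩

theorem PL_comm (D : Set G) (a b : G) : PL D a b = PL D b a :=
  Set.ext fun _ => ⟨fun h => ⟨h.1, fun c hc h1 h2 => h.2 c hc h2 h1⟩,
    fun h => ⟨h.1, fun c hc h1 h2 => h.2 c hc h2 h1⟩⟩

theorem PL_subset {D : Set G} {a b e e' : G} (he : e ∈ PL D a b) (he' : e' ∈ PL D a b) :
    PL D e e' ⊆ PL D a b := fun _ h =>
  ⟨h.1, fun c hc h1 h2 => h.2 c hc (he.2 c hc h1 h2) (he'.2 c hc h1 h2)⟩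

theorem commute_left_of_mem_PL {D : Set G} {a b e : G} (ha : a ∈ D) (hb : b ∈ Dx D a)
    (he : e ∈ PL D a b) : Commute a e := he.2 a ha (Commute.refl a) hb.2.2

theorem commute_of_mem_PL {D : Set G} {a b e e' : G} (ha : a ∈ D) (hb : b ∈ Dx D a)
    (he : e ∈ PL D a b) (he' : e' ∈ PL D a b) : Commute e e' :=
  he'.2 e he.1 (commute_left_of_mem_PL ha hb he).symm
    (he.2 b hb.1 hb.2.2.symm (Commute.refl b)).symm

theorem mem_Dx_of_mem_PL {D : Set G} {a b e : G} (ha : a ∈ D) (hb : b ∈ Dx D a)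
    (he : e ∈ PL D a b) (hne : e ≠ a) : e ∈ Dx D a :=
  ⟨he.1, hne, commute_left_of_mem_PL ha hb he⟩

theorem TT.conj_mem_PL {D : Set G} (hD : TT D) (g : G) {a b e : G} (he : e ∈ PL D a b) :
    g * e * g⁻¹ ∈ PL D (g * a * g⁻¹) (g * b * g⁻¹) := by
  refine ⟨hD.conj g e he.1, fun c hc h1 h2 => ?_⟩
  have e1 : c = g * (g⁻¹ * c * g⁻¹⁻¹) * g⁻¹ := by group
  rw [e1, conj_commute_iff] at h1 h2 ⊢
  exact he.2 _ (hD.conj g⁻¹ c hc) h1 h2

theorem TT.conj_mem_PL_iff {D : Set G} (hD : TT D) (g : G) {a b e : G} :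
    g * e * g⁻¹ ∈ PL D (g * a * g⁻¹) (g * b * g⁻¹) ↔ e ∈ PL D a b :=
  ⟨fun h => by simpa [mul_assoc] using hD.conj_mem_PL g⁻¹ h, hD.conj_mem_PL g⟩

theorem TT.cj_mem_PL {D : Set G} (hD : TT D) {g : G} (hg : g * g = 1) {a b e : G}
    (he : e ∈ PL D a b) : cj e g ∈ PL D (cj a g) (cj b g) := by
  rw [cj_eq_conj hg, cj_eq_conj hg, cj_eq_conj hg]
  exact hD.conj_mem_PL g he

theorem TT.PL_conj {D : Set G} (hD : TT D) (g a b : G) :
    PL D (g * a * g⁻¹) (g * b * g⁻¹) = (fun y => g * y * g⁻¹) '' PL D a b := by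
  ext y
  constructor
  · intro h
    refine ⟨g⁻¹ * y * g⁻¹⁻¹, ?_, by group⟩
    rw [← hD.conj_mem_PL_iff g]
    convert h using 1; group
  · rintro ⟨z, hz, rfl⟩
    exact hD.conj_mem_PL g hz

namespace Fis

variable {D : Set G} (hD : Fis D)
include hD

theorem commute_of_mem_PL_of_ne [Finite G] {a b e c : G} (ha : a ∈ D) (hb : b ∈ Dx D a)
    (he : e ∈ PL D a b) (hne : e ≠ a) (hc : c ∈ D) (h1 : Commute c a) (h2 : Commute c e) :
    Commute c b := by
  have hT := hD.toTT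
  obtain ⟨g, e1, e2⟩ := hD.pair_trans_commute ha ha hb (mem_Dx_of_mem_PL ha hb he hne)
  have key : {c | c ∈ D ∧ Commute c a ∧ Commute c b} = {c | c ∈ D ∧ Commute c a ∧ Commute c e} := by
    refine Set.eq_of_subset_of_ncard_le (fun c hc => ⟨hc.1, hc.2.1, he.2 c hc.1 hc.2.1 hc.2.2⟩) ?_
    rw [← Set.ncard_image_of_injective {c | c ∈ D ∧ Commute c a ∧ Commute c b} (conj_injective g)]
    refine Set.ncard_le_ncard fun c hc => ⟨g⁻¹ * c * g⁻¹⁻¹, ⟨hT.conj g⁻¹ c hc.1, ?_, ?_⟩, by group⟩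
    · rw [← conj_commute_iff g, e1]
      convert hc.2.1 using 1; group
    · rw [← conj_commute_iff g, e2]
      convert hc.2.2 using 1; group
  have : c ∈ {c | c ∈ D ∧ Commute c a ∧ Commute c b} := by rw [key]; exact ⟨hc, h1, h2⟩
  exact this.2.2

theorem PL_eq_left [Finite G] {a b e : G} (ha : a ∈ D) (hb : b ∈ Dx D a) (he : e ∈ PL D a b)
    (hne : e ≠ a) : PL D a e = PL D a b :=
  (PL_subset (left_mem_PL ha b) he).antisymm fun _ h =>
    ⟨h.1, fun c hc h1 h2 => h.2 c hc h1 (hD.commute_of_mem_PL_of_ne ha hb he hne hc h1 h2)⟩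

theorem PL_eq [Finite G] {a b e e' : G} (ha : a ∈ D) (hb : b ∈ Dx D a) (he : e ∈ PL D a b)
    (he' : e' ∈ PL D a b) (hne : e ≠ e') : PL D e e' = PL D a b := by
  by_cases h : e = a
  · subst h
    exact hD.PL_eq_left ha hb he' hne.symm
  · have h1 := hD.PL_eq_left ha hb he h
    rw [← h1, PL_comm] at he' ⊢
    rw [PL_comm D a e, PL_comm D e' e]
    exact hD.PL_eq_left he.1 (Dx_symm ha (mem_Dx_of_mem_PL ha hb he h)) he' hne.symm

theorem commute_of_two [Finite G] {a b e e' y : G} (ha : a ∈ D) (hb : b ∈ Dx D a)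
    (he : e ∈ PL D a b) (he' : e' ∈ PL D a b) (hne : e ≠ e') (hy : y ∈ D) (h1 : Commute y e)
    (h2 : Commute y e') {p : G} (hp : p ∈ PL D a b) : Commute y p := by
  rw [← hD.PL_eq ha hb he he' hne] at hp
  exact hp.2 y hy h1 h2

theorem eq_of_commute_PL [Finite G] {a b e e' y : G} (ha : a ∈ D) (hb : b ∈ Dx D a)
    (he : e ∈ PL D a b) (he' : e' ∈ PL D a b) (hy : y ∈ D) (h1 : Commute y e)
    (h2 : Commute y e') {p : G} (hp : p ∈ PL D a b) (hyp : ¬ Commute y p) : e = e' := by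
  by_contra hne
  exact hyp (hD.commute_of_two ha hb he he' hne hy h1 h2 hp)

theorem exists_commute_not_commute [Finite G] {a b : G} (ha : a ∈ D) (hb : b ∈ D) (hne : a ≠ b) :
    ∃ y ∈ D, Commute y a ∧ ¬ Commute y b := by
  by_contra h
  push Not at h
  exact hne (hD.tau_le ha hb fun c hc t => (h c hc t.symm).symm)

theorem even_ncard_PL [Finite G] {a b y p q : G} (ha : a ∈ D) (hb : b ∈ Dx D a) (hy : y ∈ D)
    (hp : p ∈ PL D a b) (hq : q ∈ PL D a b) (hpq : p ≠ q) (hyp : ¬ Commute y p)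
    (hyq : ¬ Commute y q) : Even {e | e ∈ PL D a b ∧ ¬ Commute y e}.ncard := by
  have hT := hD.toTT
  have hc := commute_of_mem_PL ha hb hp hq
  have h3 := (hT.a3 hp.1 hy hq.1 hc hyp hyq).1
  have mp := hT.cj_mem hy hp.1
  have mq := hT.cj_mem hy hq.1
  have sp := hT.sq _ mp
  have sq := hT.sq _ mq
  have sy := hT.sq y hy
  have bp := hT.braid hy hp.1 hyp
  have bq := hT.braid hy hq.1 hyq
  have e1 : cj p (cj y p) = y := by rw [bp]; exact cj_left_of_braid (hT.sq p hp.1) sy bp.symm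
  have e2 : cj y (cj y q) = q := cj_left_of_braid sy (hT.sq q hq.1) bq
  have e3 : cj q (cj y q) = y := by rw [bq]; exact cj_left_of_braid (hT.sq q hq.1) sy bq.symm
  have e4 : cj y (cj y p) = p := cj_left_of_braid sy (hT.sq p hp.1) bp
  have sw : ∀ u, cj (cj u (cj y p)) (cj y q) = cj (cj u (cj y q)) (cj y p) := fun u => by
    rw [cj_cj_eq_conj u sp sq, cj_cj_eq_conj u sq sp, h3.eq]
  refine even_ncard_of_invol (Set.toFinite _) (fun e => cj (cj e (cj y p)) (cj y q)) ?_ ?_ ?_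
  · rintro e ⟨he, hye⟩
    constructor
    · rw [← hD.PL_eq ha hb hp hq hpq] at he
      have := hT.cj_mem_PL sq (hT.cj_mem_PL sp he)
      rwa [e1, e2, sw q, e3, e4, hD.PL_eq ha hb hq hp hpq.symm] at this
    · intro t
      rw [← commute_cj_swap sq, ← commute_cj_swap sp, e2] at t
      have hq' : ¬ Commute q (cj y p) := fun t' =>
        hyq ((commute_cj_iff (hT.sq p hp.1) hc.symm).mp t').symm
      rw [hT.braid hq.1 mp hq'] at t
      exact hye ((commute_cj_iff (hT.sq p hp.1) (commute_of_mem_PL ha hb he hp)).mp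
        ((commute_cj_iff (hT.sq q hq.1) (commute_of_mem_PL ha hb he hq)).mp t.symm)).symm
  · intro e _
    rw [sw (cj (cj e (cj y p)) (cj y q)), cj_cj sq, cj_cj sp]
  · rintro e ⟨he, hye⟩ t
    have t' : cj e (cj y p) = cj e (cj y q) := by
      rw [← cj_cj (a := cj e (cj y p)) sq, t]
    have hep : ¬ Commute e (cj y p) := fun t' =>
      hye ((commute_cj_iff (hT.sq p hp.1) (commute_of_mem_PL ha hb he hp)).mp t').symm
    exact hpq (hT.cj_cancel hy hp.1 hq.1 hyp (hT.cj_cancel he.1 mp mq hep t'))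

end Fis

/-- The polar case: the lines `PL D a b` have at least three points. -/
structure Pol (D : Set G) : Prop extends Fis D where
  thick : ∀ a ∈ D, ∀ b ∈ Dx D a, ∃ e ∈ PL D a b, e ≠ a ∧ e ≠ b

theorem Fis.pol_of_tau [Finite G] {D : Set G} (hD : Fis D) {x d d' : G} (hx : x ∈ D)
    (hd : d ∈ Dx D x) (hd' : d' ∈ Dx D x) (hne : d ≠ d')
    (h : ∀ c ∈ Dx D x, (Commute c d ↔ Commute c d')) : Pol D := by
  refine ⟨hD, fun a ha b hb => ?_⟩
  obtain ⟨g, rfl, rfl⟩ := hD.pair_trans_commute hx ha hd hb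
  refine ⟨g * d' * g⁻¹, hD.toTT.conj_mem_PL g ⟨hd'.1, fun c hc h1 h2 => ?_⟩,
    fun e => hd'.2.1 (conj_injective g e), fun e => hne (conj_injective g e).symm⟩
  by_cases e : c = x
  · rw [e]; exact hd'.2.2
  · exact (h c ⟨hc, e, h1.symm⟩).mp h2

/-- The subgroup `Q` attached to `x`. -/
def QG (D : Set G) (x : G) : Subgroup G :=
  Subgroup.closure (insert x {q | ∃ s ∈ Dx D x, ∃ t ∈ PL D x s, t ≠ x ∧ q = s * t})

theorem self_mem_QG (D : Set G) (x : G) : x ∈ QG D x := Subgroup.subset_closure (Or.inl rfl)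

theorem mul_mem_QG {D : Set G} {x s t : G} (hs : s ∈ Dx D x) (ht : t ∈ PL D x s) (hne : t ≠ x) :
    s * t ∈ QG D x := Subgroup.subset_closure (Or.inr ⟨s, hs, t, ht, hne, rfl⟩)

theorem TT.QG_induction {D : Set G} (hD : TT D) {x : G} (hx : x ∈ D) {P : G → Prop} (h1 : P 1)
    (h2 : ∀ q ∈ QG D x, P q → P (x * q))
    (h3 : ∀ s ∈ Dx D x, ∀ t ∈ PL D x s, t ≠ x → ∀ q ∈ QG D x, P q → P (s * t * q)) :
    ∀ q ∈ QG D x, P q := by
  intro q hq
  induction hq using Subgroup.closure_induction_left with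
  | one => exact h1
  | mul_left a ha q hq ih =>
    rcases ha with rfl | ⟨s, hs, t, ht, hne, rfl⟩
    · exact h2 q hq ih
    · exact h3 s hs t ht hne q hq ih
  | inv_mul_cancel a ha q hq ih =>
    rcases ha with rfl | ⟨s, hs, t, ht, hne, rfl⟩
    · rw [hD.inv_eq hx]; exact h2 q hq ih
    · rw [inv_eq_of_mul_eq_one_right
        (hD.mul_sq hs.1 ht.1 (commute_of_mem_PL hx hs (right_mem_PL x hs.1) ht))]
      exact h3 s hs t ht hne q hq ih

theorem TT.commute_of_mem_QG {D : Set G} (hD : TT D) {x : G} (hx : x ∈ D) :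
    ∀ q ∈ QG D x, Commute q x :=
  hD.QG_induction hx (Commute.one_left x) (fun _ _ h => (Commute.refl x).mul_left h)
    fun _ hs _ ht _ _ _ h =>
      (hs.2.2.symm.mul_left (commute_left_of_mem_PL hx hs ht).symm).mul_left h

theorem TT.conj_mem_QG {D : Set G} (hD : TT D) {x g : G} (hx : x ∈ D) (hg : Commute g x) :
    ∀ q ∈ QG D x, g * q * g⁻¹ ∈ QG D x := by
  have e := conj_eq_of_commute hg
  refine hD.QG_induction hx (by simp) (fun q _ h => ?_) fun s hs t ht hne q _ h => ?_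
  · have : g * (x * q) * g⁻¹ = (g * x * g⁻¹) * (g * q * g⁻¹) := by group
    rw [this, e]
    exact Subgroup.mul_mem _ (self_mem_QG D x) h
  · have : g * (s * t * q) * g⁻¹ = ((g * s * g⁻¹) * (g * t * g⁻¹)) * (g * q * g⁻¹) := by group
    rw [this]
    refine Subgroup.mul_mem _ (mul_mem_QG ?_ ?_ ?_) h
    · have := (hD.conj_mem_Dx_iff g).mpr hs
      rwa [e] at this
    · have := hD.conj_mem_PL g ht
      rwa [e] at this
    · rw [← e]
      exact fun t => hne (conj_injective g t)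

theorem TT.conj_mem_Dx_of_commute {D : Set G} (hD : TT D) {x g c : G} (hg : Commute g x)
    (hc : c ∈ Dx D x) : g * c * g⁻¹ ∈ Dx D x := by
  have := (hD.conj_mem_Dx_iff g).mpr hc
  rwa [conj_eq_of_commute hg] at this

theorem TT.cj_cj_mem_PL {D : Set G} (hD : TT D) {x s t c : G} (hx : x ∈ D) (hs : s ∈ Dx D x)
    (ht : t ∈ PL D x s) (hts : s ∈ PL D x t) (hc : c ∈ Dx D x) : cj (cj c t) s ∈ PL D x c := by
  have hxt := commute_left_of_mem_PL hx hs ht
  refine ⟨hD.cj_mem (hD.cj_mem hc.1 ht.1) hs.1, fun u hu h1 h2 => ?_⟩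
  by_cases hcs : Commute c s
  · rwa [cj_of_commute (hD.sq t ht.1) (ht.2 c hc.1 hc.2.2.symm hcs),
      cj_of_commute (hD.sq s hs.1) hcs]
  by_cases hus : Commute u s
  · exact commute_cj (commute_cj h2 (ht.2 u hu h1 hus)) hus
  have hct : ¬ Commute t c := fun e => hcs (hts.2 c hc.1 hc.2.2.symm e.symm)
  have hut : ¬ Commute t u := fun e => hus (hts.2 u hu h1 e.symm)
  have k := (hD.a3 hc.1 ht.1 hu h2.symm hct hut).2
  have k2 := hts.2 _ (hD.cj_mem (hD.cj_mem ht.1 hc.1) hu)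
    (commute_cj (commute_cj hxt hc.2.2) h1.symm).symm k
  rw [commute_cj_swap (hD.sq u hu), hD.braid ht.1 hc.1 hct,
    hD.braid hs.1 hu (fun e => hus e.symm), ← commute_cj_swap (hD.sq s hs.1)] at k2
  exact k2.symm

namespace Fis

variable {D : Set G} (hD : Fis D)
include hD

theorem conj_mem_PL_of_mem_QG [Finite G] {x : G} (hx : x ∈ D) :
    ∀ q ∈ QG D x, ∀ c ∈ Dx D x, q * c * q⁻¹ ∈ PL D x c := by
  have hT := hD.toTT
  refine hT.QG_induction hx (fun c hc => by simpa using right_mem_PL x hc.1)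
    (fun q hq h c hc => ?_) fun s hs t ht hne q hq h c hc => ?_
  · have : x * q * c * (x * q)⁻¹ = x * (q * c * q⁻¹) * x⁻¹ := by group
    rw [this, conj_eq_of_commute (commute_left_of_mem_PL hx hc (h c hc))]
    exact h c hc
  · have h1 := hT.conj_mem_Dx_of_commute (hT.commute_of_mem_QG hx q hq) hc
    have : s * t * q * c * (s * t * q)⁻¹ = (s * t) * (q * c * q⁻¹) * (s * t)⁻¹ := by group
    rw [this, ← cj_cj_eq_conj _ (hT.sq t ht.1) (hT.sq s hs.1), ← hD.PL_eq_left hx hc (h c hc) h1.2.1]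
    exact hT.cj_cj_mem_PL hx hs ht (by rw [hD.PL_eq_left hx hs ht hne]; exact right_mem_PL x hs.1) h1

end Fis

namespace Pol

variable {D : Set G} (hD : Pol D)
include hD

/-- The one-or-all axiom. -/
theorem exists_commute [Finite G] {a b y : G} (ha : a ∈ D) (hb : b ∈ Dx D a) (hy : y ∈ D) :
    ∃ e ∈ PL D a b, Commute y e := by
  have hF := hD.toFis
  by_contra hn
  push Not at hn
  have h1 := hF.even_ncard_PL ha hb hy (left_mem_PL ha b) (right_mem_PL a hb.1) hb.2.1.symm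
    (hn _ (left_mem_PL ha b)) (hn _ (right_mem_PL a hb.1))
  obtain ⟨z, hz, hza, hzb⟩ := hF.exists_commute_not_commute ha hb.1 hb.2.1.symm
  obtain ⟨e, he, hea, heb⟩ := hD.thick a ha b hb
  have nc : ∀ p ∈ PL D a b, p ≠ a → ¬ Commute z p := fun p hp hpa t =>
    hpa (hF.eq_of_commute_PL ha hb hp (left_mem_PL ha b) hz t hza (right_mem_PL a hb.1) hzb)
  have h2 := hF.even_ncard_PL ha hb hz he (right_mem_PL a hb.1) heb (nc e he hea) hzb
  have e1 : {e | e ∈ PL D a b ∧ ¬ Commute y e} = insert a {e | e ∈ PL D a b ∧ ¬ Commute z e} := by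
    ext p
    constructor
    · intro hp
      by_cases h : p = a
      · exact Or.inl h
      · exact Or.inr ⟨hp.1, nc p hp.1 h⟩
    · rintro (rfl | hp)
      · exact ⟨left_mem_PL ha b, hn _ (left_mem_PL ha b)⟩
      · exact ⟨hp.1, hn _ hp.1⟩
  rw [e1, Set.ncard_insert_of_notMem (fun t => t.2 hza)] at h1
  exact (Nat.even_add_one.mp h1) h2

theorem QG_trans [Finite G] {x y z : G} (hx : x ∈ D) (hy : y ∈ D) (hz : z ∈ D)
    (hxy : ¬ Commute x y) (hxz : ¬ Commute x z) : ConjIn (QG D x) y z := by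
  have hF := hD.toFis
  have hT := hF.toTT
  obtain ⟨g, hg, rfl⟩ := hF.Ax_trans hx hy hz hxy hxz
  clear hz hxz
  have step : ∀ d ∈ D, Commute x d → ∀ u, ConjIn (QG D x) y u →
      ConjIn (QG D x) y (d * u * d⁻¹) := by
    rintro d hd hxd _ ⟨q, hq, rfl⟩
    have h1 : ConjIn (QG D x) y (d * y * d⁻¹) := by
      by_cases e : d = x
      · exact ⟨d, e ▸ self_mem_QG D x, rfl⟩
      · obtain ⟨p, hp, hyp⟩ := hD.exists_commute hx ⟨hd, e, hxd⟩ hy
        refine ⟨d * p, mul_mem_QG ⟨hd, e, hxd⟩ hp fun t => hxy (t ▸ hyp.symm), ?_⟩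
        calc d * p * y * (d * p)⁻¹ = d * (p * y * p⁻¹) * d⁻¹ := by group
          _ = _ := by rw [conj_eq_of_commute hyp.symm]
    exact h1.trans ⟨d * q * d⁻¹, hT.conj_mem_QG hx hxd.symm q hq, by group⟩
  induction hg using Subgroup.closure_induction_left with
  | one => simpa using ConjIn.refl _ y
  | mul_left d hd g _ ih =>
    have := step d hd.1 hd.2 _ ih
    convert this using 1; group
  | inv_mul_cancel d hd g _ ih =>
    have := step d hd.1 hd.2 _ ih
    rw [hT.inv_eq hd.1]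
    convert this using 1; group

theorem third_point [Finite G] {a b c : G} (ha : a ∈ D) (hb : b ∈ Dx D a)
    (h : PL D a b = {a, b, c}) {u : G} (hu : u ∈ D) :
    Commute u c ↔ (Commute u a ↔ Commute u b) := by
  have hF := hD.toFis
  have hc : c ∈ PL D a b := by rw [h]; simp
  obtain ⟨e, he, hea, heb⟩ := hD.thick a ha b hb
  have hec : e = c := by
    rw [h] at he
    rcases he with t | t | t
    exacts [absurd t hea, absurd t heb, t]
  subst hec
  have la := left_mem_PL ha b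
  have lb := right_mem_PL a hb.1
  constructor
  · intro t
    exact ⟨fun t' => hF.commute_of_two ha hb he la hea hu t t' lb,
      fun t' => hF.commute_of_two ha hb he lb heb hu t t' la⟩
  · intro t
    obtain ⟨p, hp, hup⟩ := hD.exists_commute ha hb hu
    rw [h] at hp
    rcases hp with rfl | rfl | rfl
    · exact he.2 u hu hup (t.mp hup)
    · exact he.2 u hu (t.mpr hup) hup
    · exact hup

/-- If the lines have three points, there are no affine planes. -/
theorem no_affine_plane [Finite G] (h3 : ∀ a ∈ D, ∀ b ∈ Dx D a, ∃ c, PL D a b = {a, b, c})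
    {a b c : G} (ha : a ∈ D) (hb : b ∈ D) (hc : c ∈ D) (hab : ¬ Commute a b)
    (hca : ¬ Commute c a) (hcb : ¬ Commute c b) : Commute c (cj a b) := by
  have hF := hD.toFis
  have hT := hF.toTT
  -- `Q` is elementary abelian
  have h1 : ∀ q ∈ QG D a, ∀ s ∈ Dx D a, ∀ t ∈ PL D a s, t ≠ a → Commute q (s * t) := by
    intro q hq s hs t ht hne
    by_cases e : s = t
    · rw [← e, hT.sq s hs.1]; exact Commute.one_right q
    obtain ⟨p, hp⟩ := h3 a ha s hs
    have hpt : t = p := by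
      rw [hp] at ht
      rcases ht with t | t | t
      exacts [absurd t hne, absurd t.symm e, t]
    subst hpt
    have hqa := hT.commute_of_mem_QG ha q hq
    have ht' := mem_Dx_of_mem_PL ha hs ht hne
    have m1 := hF.conj_mem_PL_of_mem_QG ha q hq s hs
    have m2 := hF.conj_mem_PL_of_mem_QG ha q hq t ht'
    rw [hF.PL_eq_left ha hs ht hne, hp] at m2
    rw [hp] at m1
    have n1 := (hT.conj_mem_Dx_of_commute hqa hs).2.1
    have n2 := (hT.conj_mem_Dx_of_commute hqa ht').2.1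
    have n3 : q * s * q⁻¹ ≠ q * t * q⁻¹ := fun t => e (conj_injective q t)
    have hst := commute_of_mem_PL ha hs (right_mem_PL a hs.1) ht
    have key : (q * s * q⁻¹) * (q * t * q⁻¹) = s * t := by
      rcases m1 with m1 | m1 | m1
      · exact absurd m1 n1
      · rcases m2 with m2 | m2 | m2
        · exact absurd m2 n2
        · exact absurd (m1.trans m2.symm) n3
        · rw [m1, m2]
      · rcases m2 with m2 | m2 | m2
        · exact absurd m2 n2
        · rw [m1, m2, hst.eq]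
        · exact absurd (m1.trans m2.symm) n3
    calc q * (s * t) = (q * s * q⁻¹) * (q * t * q⁻¹) * q := by group
      _ = s * t * q := by rw [key]
  have h2 : ∀ q' ∈ QG D a, ∀ q ∈ QG D a, Commute q q' :=
    hT.QG_induction ha (fun q _ => Commute.one_right q)
      (fun _ _ h q hq => (hT.commute_of_mem_QG ha q hq).mul_right (h q hq))
      fun s hs t ht hne _ _ h q hq => (h1 q hq s hs t ht hne).mul_right (h q hq)
  have h4 : ∀ q ∈ QG D a, q * q = 1 := by
    refine hT.QG_induction ha (one_mul 1) (fun q hq h => ?_) fun s hs t ht hne q hq h => ?_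
    · rw [← pow_two, (hT.commute_of_mem_QG ha q hq).symm.mul_pow, pow_two, pow_two, h,
        hT.sq a ha, one_mul]
    · rw [← pow_two, (h1 q hq s hs t ht hne).symm.mul_pow, pow_two, pow_two, h,
        hT.mul_sq hs.1 ht.1 (commute_of_mem_PL ha hs (right_mem_PL a hs.1) ht), one_mul]
  by_contra hn
  obtain ⟨q, hq, e⟩ := hD.QG_trans ha hb hc hab fun t => hca t.symm
  have e' : q * c * q⁻¹ = b := by
    rw [← e]
    calc q * (q * b * q⁻¹) * q⁻¹ = (q * q) * b * (q * q)⁻¹ := by group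
      _ = b := by rw [h4 q hq]; group
  have hbc : ¬ Commute b c := fun t => hcb t.symm
  have e1 : q * cj b c * q⁻¹ = cj b c := by rw [conj_cj, e, e', hT.braid hb hc hbc]
  have haz : ¬ Commute a (cj b c) := fun t => by
    rw [hT.braid hb hc hbc, ← commute_cj_swap (hT.sq b hb)] at t
    exact hn t.symm
  obtain ⟨q', hq', e2⟩ := hD.QG_trans ha (hT.cj_mem hb hc) hb haz hab
  apply hcb
  have e3 : q * b * q⁻¹ = b := by
    rw [← e2]
    calc q * (q' * cj b c * q'⁻¹) * q⁻¹ = (q * q') * cj b c * (q * q')⁻¹ := by group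
      _ = q' * (q * cj b c * q⁻¹) * q'⁻¹ := by rw [(h2 q' hq' q hq).eq]; group
      _ = _ := by rw [e1]
  rw [← e, e3]

/-- Either all lines have three points, or all have at least four. -/
theorem three_or_four [Finite G] :
    (∀ a ∈ D, ∀ b ∈ Dx D a, ∃ c, PL D a b = {a, b, c}) ∨
      (∀ a ∈ D, ∀ b ∈ Dx D a, ∃ c ∈ PL D a b, ∃ d ∈ PL D a b,
        c ≠ a ∧ c ≠ b ∧ d ≠ a ∧ d ≠ b ∧ c ≠ d) := by
  have hF := hD.toFis
  by_cases h : ∀ a ∈ D, ∀ b ∈ Dx D a, ∃ c, PL D a b = {a, b, c}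
  · exact Or.inl h
  right
  push Not at h
  obtain ⟨a, ha, b, hb, h⟩ := h
  obtain ⟨c, hc, hca, hcb⟩ := hD.thick a ha b hb
  obtain ⟨d, hd, hd'⟩ : ∃ d ∈ PL D a b, d ∉ ({a, b, c} : Set G) := by
    by_contra hn
    push Not at hn
    refine h c (Set.Subset.antisymm hn ?_)
    rintro _ (rfl | rfl | rfl)
    exacts [left_mem_PL ha b, right_mem_PL a hb.1, hc]
  simp only [Set.mem_insert_iff, Set.mem_singleton_iff, not_or] at hd'
  intro a' ha' b' hb'
  obtain ⟨g, rfl, rfl⟩ := hF.pair_trans_commute ha ha' hb hb'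
  exact ⟨_, hF.toTT.conj_mem_PL g hc, _, hF.toTT.conj_mem_PL g hd,
    fun e => hca (conj_injective g e), fun e => hcb (conj_injective g e),
    fun e => hd'.1 (conj_injective g e), fun e => hd'.2.1 (conj_injective g e),
    fun e => hd'.2.2 (conj_injective g e).symm⟩

end Pol

end CL.Fischer
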