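import Cfsg.Agent.Base
import Cfsg.Agent.Fischer.Polar

/-!
# The group `Q` attached to a point of the polar space
-/

set_option autoImplicit false

namespace CL.Fischer

open CL.Kei

universe u

variable {G : Type u} [Group G]

namespace Fis

variable {D : Set G} (hD : Fis D)
include hD

theorem eq_one_of_fix [Finite G] (hZ : Subgroup.center G = ⊥) {x y v : G} (hx : x ∈ D) (hy : y ∈ D)
    (hxy : ¬ Commute x y) (hvx : Commute v x) (hv : ∀ e ∈ Dx D x, Commute v e)
    (hvy : Commute v y) : v = 1 := by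
  have h1 : ∀ g ∈ perpGrp D x, Commute v g := fun g hg => by
    induction hg using Subgroup.closure_induction with
    | mem d hd =>
      by_cases e : d = x
      · rw [e]; exact hvx
      · exact hv d ⟨hd.1, e, hd.2⟩
    | one => exact Commute.one_right v
    | mul _ _ _ _ h1 h2 => exact h1.mul_right h2
    | inv _ _ h => exact h.inv_right
  have h2 : ∀ d ∈ D, Commute v d := fun d hd => by
    by_cases h : Commute x d
    · exact h1 d (mem_perpGrp hd h)
    · obtain ⟨g, hg, rfl⟩ := hD.Ax_trans hx hy hd hxy h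
      exact ((h1 g hg).mul_right hvy).mul_right (h1 g hg).inv_right
  rw [← Subgroup.mem_bot, ← hZ, Subgroup.mem_center_iff]
  intro g
  have hg : g ∈ Subgroup.closure D := by rw [hD.gen]; trivial
  induction hg using Subgroup.closure_induction with
  | mem d hd => exact (h2 d hd).symm.eq
  | one => simp
  | mul a b _ _ h1 h2 => exact (Commute.mul_left (a := a) (b := b) h1 h2).eq
  | inv a _ h => exact (Commute.inv_left (a := a) h).eq

theorem eq_one_or_eq_of_fix [Finite G] (hZ : Subgroup.center G = ⊥) {x w : G} (hx : x ∈ D)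
    (hwx : Commute w x) (h1 : ∀ c ∈ Dx D x, w * c * w⁻¹ ∈ PL D x c)
    (h2 : ∀ y ∈ D, ¬ Commute x y → w * y * w⁻¹ = y ∨ w * y * w⁻¹ = cj y x) : w = 1 ∨ w = x := by
  have hT := hD.toTT
  have sx := hT.sq x hx
  have h3 : ∀ e ∈ Dx D x, Commute w e := fun e he => by
    obtain ⟨y, hy, hye, hyx⟩ := hD.exists_commute_not_commute he.1 hx he.2.1
    have m := h1 e he
    have c1 : Commute (w * e * w⁻¹) (w * y * w⁻¹) := (conj_commute_iff w).mpr hye.symm
    have c2 : Commute (w * e * w⁻¹) y := by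
      rcases h2 y hy (fun t => hyx t.symm) with h | h
      · rwa [h] at c1
      · rwa [h, commute_cj_iff sx (commute_left_of_mem_PL hx he m).symm] at c1
    have := hD.eq_of_commute_PL hx he m (right_mem_PL x he.1) hy c2.symm hye (left_mem_PL hx e) hyx
    calc w * e = w * e * w⁻¹ * w := by group
      _ = e * w := by rw [this]
  obtain ⟨y, hy, hxy⟩ := hD.exists_not_commute hx
  rcases h2 y hy hxy with h | h
  · refine Or.inl (hD.eq_one_of_fix hZ hx hy hxy hwx h3 ?_)
    calc w * y = w * y * w⁻¹ * w := by group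
      _ = y * w := by rw [h]
  · right
    have := hD.eq_one_of_fix hZ hx hy hxy ((Commute.refl x).mul_left hwx)
      (fun e he => he.2.2.mul_left (h3 e he)) (by
        calc x * w * y = x * (w * y * w⁻¹) * w := by group
          _ = (x * x) * y * (x * w) := by rw [h, cj]; group
          _ = y * (x * w) := by rw [sx, one_mul])
    rw [← sx] at this
    exact mul_left_cancel this

theorem cj_mem_PL_cj {x y e a : G} (hx : x ∈ D) (hy : y ∈ D) (hxy : ¬ Commute x y)
    (hye : Commute y e) (ha : a ∈ PL D x e) (hya : ¬ Commute y a) : cj y a ∈ PL D (cj y x) e := by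
  have hT := hD.toTT
  have := hT.cj_mem_PL (hT.sq y hy) ha
  rwa [cj_of_commute (hT.sq y hy) hye.symm, hT.braid hx hy hxy, ← hT.braid hy ha.1 hya] at this

theorem conj_mem_union [Finite G] {x y c e : G} (hx : x ∈ D) (hy : y ∈ D) (hxy : ¬ Commute x y)
    (hc : c ∈ Dx D x) (he : e ∈ PL D x c) (hye : Commute y e) :
    ∀ w ∈ Subgroup.closure (PL D x c), w * y * w⁻¹ ∈ PL D y e ∪ PL D (cj y x) e := by
  have hT := hD.toTT
  have hxe := commute_left_of_mem_PL hx hc he
  have hex : e ≠ x := fun t => hxy (t ▸ hye.symm)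
  have hy' := hT.cj_mem hy hx
  have d1 : e ∈ Dx D y := ⟨he.1, fun t => hxy (t ▸ hxe), hye⟩
  have d2 : e ∈ Dx D (cj y x) := ⟨he.1, fun t => hT.not_commute_cj_right hx
    (fun t => hxy t.symm) (t ▸ hxe), (commute_cj hye.symm hxe.symm).symm⟩
  have step : ∀ a ∈ PL D x c, ∀ p ∈ PL D y e ∪ PL D (cj y x) e,
      cj p a ∈ PL D y e ∪ PL D (cj y x) e := by
    intro a ha p hp
    have sa := hT.sq a ha.1
    by_cases hae : a = e
    · rw [cj_of_commute sa]
      · exact hp
      · rw [hae]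
        rcases hp with hp | hp
        · exact commute_of_mem_PL hy d1 hp (right_mem_PL _ he.1)
        · exact commute_of_mem_PL hy' d2 hp (right_mem_PL _ he.1)
    · have hya : ¬ Commute y a := fun t =>
        hae (hD.eq_of_commute_PL hx hc ha he hy t hye (left_mem_PL hx c) fun t => hxy t.symm)
      have hea := commute_of_mem_PL hx hc he ha
      have m := hD.cj_mem_PL_cj hx hy hxy hye (by rwa [hD.PL_eq_left hx hc he hex]) hya
      have k : PL D (cj y a) e = PL D (cj y x) e :=
        hD.PL_eq hy' d2 m (right_mem_PL _ he.1) fun t =>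
          hT.not_commute_cj_right ha.1 hya (t ▸ hea.symm)
      rcases hp with hp | hp
      · right
        have := hT.cj_mem_PL sa hp
        rwa [cj_of_commute sa hea, k] at this
      · left
        rw [← k] at hp
        have := hT.cj_mem_PL sa hp
        rwa [cj_of_commute sa hea, cj_cj sa] at this
  intro w hw
  induction hw using Subgroup.closure_induction_left with
  | one => simpa using Or.inl (left_mem_PL hy e)
  | mul_left a ha w _ ih =>
    have := step a ha _ ih
    rw [cj_eq_conj (hT.sq a ha.1)] at this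
    convert this using 1; group
  | inv_mul_cancel a ha w _ ih =>
    have := step a ha _ ih
    rw [cj_eq_conj (hT.sq a ha.1)] at this
    rw [hT.inv_eq ha.1]
    convert this using 1; group

theorem prod_three_ne_one [Finite G] {x c p q r : G} (hx : x ∈ D) (hc : c ∈ Dx D x)
    (hp : p ∈ PL D x c) (hq : q ∈ PL D x c) (hr : r ∈ PL D x c) : p * q * r ≠ 1 := by
  have hT := hD.toTT
  intro h
  have sp := hT.sq p hp.1
  have sq := hT.sq q hq.1
  have sr := hT.sq r hr.1
  have h1 : q * r = p := by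
    calc q * r = p * (p * q * r) := by rw [← mul_assoc, ← mul_assoc, sp, one_mul]
      _ = p := by rw [h, mul_one]
  have hpq : p ≠ q := fun e => hD.ne_one hr.1 (by rwa [e, sq, one_mul] at h)
  have hpr : p ≠ r := fun e => hD.ne_one hq.1 (by rw [e] at h1; exact mul_eq_right.mp h1)
  obtain ⟨y, hy, hyp, hyq⟩ := hD.exists_commute_not_commute hp.1 hq.1 hpq
  have hyr : ¬ Commute y r := fun t => hyq (hD.commute_of_two hx hc hp hr hpr hy hyp t hq)
  have h2 : cj (cj y r) q = y := by
    rw [cj_cj_eq_conj y sr sq, h1]; exact conj_eq_of_commute hyp.symm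
  have h3 : cj y r = cj y q := by rw [← cj_cj (a := cj y r) sq, h2]
  rw [hT.cj_cancel hy hr.1 hq.1 hyr h3, sq] at h1
  exact hD.ne_one hp.1 h1.symm

theorem prod_four_ne_one [Finite G] {x c p q r s : G} (hx : x ∈ D) (hc : c ∈ Dx D x)
    (hp : p ∈ PL D x c) (hq : q ∈ PL D x c) (hr : r ∈ PL D x c) (hs : s ∈ PL D x c)
    (hpq : p ≠ q) (hpr : p ≠ r) (hps : p ≠ s) : p * q ≠ r * s := by
  have hT := hD.toTT
  intro h
  obtain ⟨y, hy, hyp, hyq⟩ := hD.exists_commute_not_commute hp.1 hq.1 hpq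
  have hyr : ¬ Commute y r := fun t => hyq (hD.commute_of_two hx hc hp hr hpr hy hyp t hq)
  have hys : ¬ Commute y s := fun t => hyq (hD.commute_of_two hx hc hp hs hps hy hyp t hq)
  have k := (hT.a3 hs.1 hy hr.1 (commute_of_mem_PL hx hc hs hr) hys hyr).2
  rw [cj_cj_eq_conj y (hT.sq s hs.1) (hT.sq r hr.1), ← h, (commute_of_mem_PL hx hc hp hq).eq,
    ← cj_cj_eq_conj y (hT.sq p hp.1) (hT.sq q hq.1), cj_of_commute (hT.sq p hp.1) hyp] at k
  exact hT.not_commute_cj_left hy hq.1 hyq k.symm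

end Fis

namespace Pol

variable {D : Set G} (hD : Pol D)
include hD

theorem gen_conj_gen [Finite G] (hZ : Subgroup.center G = ⊥) {x s t s' t' : G} (hx : x ∈ D)
    (hs : s ∈ Dx D x) (ht : t ∈ PL D x s) (htx : t ≠ x) (hs' : s' ∈ Dx D x) (ht' : t' ∈ PL D x s')
    (htx' : t' ≠ x) :
    (s * t) * (s' * t') * (s * t)⁻¹ = s' * t' ∨ (s * t) * (s' * t') * (s * t)⁻¹ = x * (s' * t') := by
  have hF := hD.toFis
  have hT := hF.toTT
  have q1 := mul_mem_QG hs ht htx
  have q2 := mul_mem_QG hs' ht' htx'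
  have dt := mem_Dx_of_mem_PL hx hs ht htx
  have dt' := mem_Dx_of_mem_PL hx hs' ht' htx'
  have ms := right_mem_PL x hs.1
  have ms' := right_mem_PL x hs'.1
  by_cases hss : Commute s s'
  · left
    have c1 : Commute s' t := ht.2 s' hs'.1 hs'.2.2.symm hss.symm
    have c2 : Commute s t' := ht'.2 s hs.1 hs.2.2.symm hss
    have c3 : Commute t t' := ht'.2 t ht.1 dt.2.2.symm c1.symm
    exact conj_eq_of_commute ((hss.mul_right c2).mul_left (c1.symm.mul_right c3))
  have hw : (s * t) * (s' * t') * (s * t)⁻¹ * (s' * t')⁻¹ ∈ QG D x :=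
    Subgroup.mul_mem _ (Subgroup.mul_mem _ (Subgroup.mul_mem _ q1 q2) (Subgroup.inv_mem _ q1))
      (Subgroup.inv_mem _ q2)
  have w1 : (s * t) * (s' * t') * (s * t)⁻¹ * (s' * t')⁻¹ ∈ Subgroup.closure (PL D x s') := by
    have e : (s * t) * (s' * t') * (s * t)⁻¹ * (s' * t')⁻¹ =
        ((s * t) * s' * (s * t)⁻¹) * ((s * t) * t' * (s * t)⁻¹) * (s' * t')⁻¹ := by group
    rw [e]
    refine Subgroup.mul_mem _ (Subgroup.mul_mem _ (Subgroup.subset_closure
      (hF.conj_mem_PL_of_mem_QG hx _ q1 s' hs')) (Subgroup.subset_closure ?_))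
      (Subgroup.inv_mem _ (Subgroup.mul_mem _ (Subgroup.subset_closure ms')
        (Subgroup.subset_closure ht')))
    rw [← hF.PL_eq_left hx hs' ht' htx']
    exact hF.conj_mem_PL_of_mem_QG hx _ q1 t' dt'
  have w2 : (s * t) * (s' * t') * (s * t)⁻¹ * (s' * t')⁻¹ ∈ Subgroup.closure (PL D x s) := by
    have e : (s * t) * (s' * t') * (s * t)⁻¹ * (s' * t')⁻¹ =
        (s * t) * (((s' * t') * s * (s' * t')⁻¹) * ((s' * t') * t * (s' * t')⁻¹))⁻¹ := by group
    rw [e]
    refine Subgroup.mul_mem _ (Subgroup.mul_mem _ (Subgroup.subset_closure ms)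
      (Subgroup.subset_closure ht)) (Subgroup.inv_mem _ (Subgroup.mul_mem _
        (Subgroup.subset_closure (hF.conj_mem_PL_of_mem_QG hx _ q2 s hs))
        (Subgroup.subset_closure ?_)))
    rw [← hF.PL_eq_left hx hs ht htx]
    exact hF.conj_mem_PL_of_mem_QG hx _ q2 t dt
  have hwx := hT.commute_of_mem_QG hx _ hw
  have key := hF.eq_one_or_eq_of_fix hZ hx hwx (hF.conj_mem_PL_of_mem_QG hx _ hw) (by
    intro y hy hxy
    obtain ⟨e, he, hye⟩ := hD.exists_commute hx hs hy
    obtain ⟨e', he', hye'⟩ := hD.exists_commute hx hs' hy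
    have hex : e ≠ x := fun t => hxy (t ▸ hye.symm)
    have hex' : e' ≠ x := fun t => hxy (t ▸ hye'.symm)
    have cxe := commute_left_of_mem_PL hx hs he
    have cxe' := commute_left_of_mem_PL hx hs' he'
    have hee : ¬ Commute e e' := fun t => by
      have c1 := hF.commute_of_mem_PL_of_ne hx hs he hex he'.1 cxe'.symm t.symm
      exact hss (hF.commute_of_mem_PL_of_ne hx hs' he' hex' hs.1 hs.2.2.symm c1.symm)
    have m1 := hF.conj_mem_union hx hy hxy hs he hye _ w2
    have m2 := hF.conj_mem_union hx hy hxy hs' he' hye' _ w1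
    have nx := TT.not_commute_of_conjIn (D := D) (y := y) ⟨_, (Subgroup.closure_le _).mpr
      (fun p hp => mem_perpGrp hp.1 (commute_left_of_mem_PL hx hs' hp)) w1, rfl⟩ hxy
    have same : ∀ u ∈ D, ¬ Commute x u → Commute u e → Commute u e' → ∀ p ∈ PL D u e,
        p ∈ PL D u e' → p = u := by
      intro u hu hxu c1 c2 p hp hp'
      by_contra hne
      have d1 : e ∈ Dx D u := ⟨he.1, fun t => hxu (t ▸ cxe), c1⟩
      have d2 : e' ∈ Dx D u := ⟨he'.1, fun t => hxu (t ▸ cxe'), c2⟩
      have := right_mem_PL u he'.1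
      rw [← hF.PL_eq_left hu d2 hp' hne, hF.PL_eq_left hu d1 hp hne] at this
      exact hee (commute_of_mem_PL hu d1 (right_mem_PL u he.1) this)
    have hy' := hT.cj_mem hy hx
    have mixed : ∀ p f f', Commute y f → Commute (cj y x) f' → p ∈ PL D y f →
        p ∈ PL D (cj y x) f' → Commute x p := fun p f f' c1 c2 hp hp' =>
      (hT.commute_of_cj hy hx (fun t => hxy t.symm) (hp.2 y hy (Commute.refl y) c1).symm
        (hp'.2 _ hy' (Commute.refl _) c2).symm).symm
    have c1 := (commute_cj hye.symm cxe.symm).symm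
    have c2 := (commute_cj hye'.symm cxe'.symm).symm
    rcases m1 with m1 | m1 <;> rcases m2 with m2 | m2
    · exact Or.inl (same y hy hxy hye hye' _ m1 m2)
    · exact absurd (mixed _ _ _ hye c2 m1 m2) nx
    · exact absurd (mixed _ _ _ hye' c1 m2 m1) nx
    · exact Or.inr (same _ hy' (hT.not_commute_cj_right hx fun t => hxy t.symm) c1 c2 _ m1 m2))
  rcases key with h | h
  · exact Or.inl (mul_inv_eq_one.mp h)
  · exact Or.inr (mul_inv_eq_iff_eq_mul.mp h)

theorem conj_eq_or [Finite G] (hZ : Subgroup.center G = ⊥) {x : G} (hx : x ∈ D) :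
    ∀ g ∈ QG D x, ∀ q ∈ QG D x, g * q * g⁻¹ = q ∨ g * q * g⁻¹ = x * q := by
  have hF := hD.toFis
  have hT := hF.toTT
  have sx := hT.sq x hx
  have cx := hT.commute_of_mem_QG hx
  have mulr : ∀ g p q, p ∈ QG D x → (g * p * g⁻¹ = p ∨ g * p * g⁻¹ = x * p) →
      (g * q * g⁻¹ = q ∨ g * q * g⁻¹ = x * q) →
      (g * (p * q) * g⁻¹ = p * q ∨ g * (p * q) * g⁻¹ = x * (p * q)) := by
    intro g p q hp h1 h2
    have e : g * (p * q) * g⁻¹ = (g * p * g⁻¹) * (g * q * g⁻¹) := by group
    rw [e]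
    rcases h1 with h1 | h1 <;> rcases h2 with h2 | h2 <;> rw [h1, h2]
    · exact Or.inl rfl
    · right; rw [← mul_assoc, (cx p hp).eq, mul_assoc]
    · right; rw [mul_assoc]
    · left
      rw [mul_assoc, ← mul_assoc p, (cx p hp).eq, ← mul_assoc, ← mul_assoc, sx, one_mul]
  have mull : ∀ g h, g ∈ QG D x → (∀ q ∈ QG D x, g * q * g⁻¹ = q ∨ g * q * g⁻¹ = x * q) →
      (∀ q ∈ QG D x, h * q * h⁻¹ = q ∨ h * q * h⁻¹ = x * q) →
      ∀ q ∈ QG D x, g * h * q * (g * h)⁻¹ = q ∨ g * h * q * (g * h)⁻¹ = x * q := by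
    intro g h hg h1 h2 q hq
    have e : g * h * q * (g * h)⁻¹ = g * (h * q * h⁻¹) * g⁻¹ := by group
    rw [e]
    rcases h2 q hq with h2 | h2 <;> rw [h2]
    · exact h1 q hq
    · have e2 : g * (x * q) * g⁻¹ = x * (g * q * g⁻¹) := by
        rw [← mul_assoc g, (cx g hg).eq]; group
      rw [e2]
      rcases h1 q hq with h1 | h1 <;> rw [h1]
      · exact Or.inr rfl
      · left; rw [← mul_assoc, sx, one_mul]
  refine hT.QG_induction hx (fun q _ => Or.inl (by group)) (fun g _ h => ?_)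
    fun s hs t ht htx g _ h => ?_
  · exact mull x g (self_mem_QG D x) (fun q hq => Or.inl (conj_eq_of_commute (cx q hq).symm)) h
  · refine mull _ g (mul_mem_QG hs ht htx) ?_ h
    refine hT.QG_induction hx (Or.inl (by group)) (fun q _ h' => ?_)
      fun s' hs' t' ht' htx' q _ h' => ?_
    · exact mulr _ x q (self_mem_QG D x)
        (Or.inl (conj_eq_of_commute (cx _ (mul_mem_QG hs ht htx)))) h'
    · exact mulr _ _ q (mul_mem_QG hs' ht' htx') (hD.gen_conj_gen hZ hx hs ht htx hs' ht' htx') h'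

theorem eq_one_of_mem_QG [Finite G] (hZ : Subgroup.center G = ⊥) {x y q : G} (hx : x ∈ D)
    (hy : y ∈ D) (hxy : ¬ Commute x y) (hq : q ∈ QG D x) (h : q * y * q⁻¹ = y) : q = 1 := by
  have hF := hD.toFis
  have hT := hF.toTT
  have key := hF.eq_one_or_eq_of_fix hZ hx (hT.commute_of_mem_QG hx q hq)
    (hF.conj_mem_PL_of_mem_QG hx q hq) (by
      intro z hz hxz
      obtain ⟨g, hg, rfl⟩ := hD.QG_trans hx hy hz hxy hxz
      have e : q * (g * y * g⁻¹) * q⁻¹ = (q * g * q⁻¹) * (q * y * q⁻¹) * (q * g * q⁻¹)⁻¹ := by group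
      rw [e, h]
      rcases hD.conj_eq_or hZ hx q hq g hg with h1 | h1 <;> rw [h1]
      · exact Or.inl rfl
      · right
        rw [cj_eq_conj (hT.sq x hx)]; group)
  rcases key with h1 | h1
  · exact h1
  · rw [h1, ← cj_eq_conj (hT.sq x hx)] at h
    exact absurd h (hT.cj_ne hx fun t => hxy t.symm)

theorem eq_of_conj_eq [Finite G] (hZ : Subgroup.center G = ⊥) {x y q q' : G} (hx : x ∈ D)
    (hy : y ∈ D) (hxy : ¬ Commute x y) (hq : q ∈ QG D x) (hq' : q' ∈ QG D x)
    (h : q * y * q⁻¹ = q' * y * q'⁻¹) : q = q' := by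
  have := hD.eq_one_of_mem_QG hZ hx hy hxy (Subgroup.mul_mem _ (Subgroup.inv_mem _ hq') hq) (by
    calc q'⁻¹ * q * y * (q'⁻¹ * q)⁻¹ = q'⁻¹ * (q * y * q⁻¹) * q' := by group
      _ = y := by rw [h]; group)
  exact (inv_mul_eq_one.mp this).symm

/-- The quotient of `Q` by `⟨x⟩`, written additively. -/
theorem exists_quot [Finite G] (hZ : Subgroup.center G = ⊥) {x : G} (hx : x ∈ D) :
    ∃ (V : Type u) (_ : AddCommGroup V) (_ : Finite V) (π : G → V),
      (∀ q ∈ QG D x, ∀ q' ∈ QG D x, π (q * q') = π q + π q') ∧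
      (∀ q ∈ QG D x, π q = 0 ↔ q = 1 ∨ q = x) ∧ (∀ v, ∃ q ∈ QG D x, π q = v) := by
  classical
  have hT := hD.toFis.toTT
  have sx := hT.sq x hx
  let Z : Subgroup (QG D x) :=
    { carrier := {q | (q : G) = 1 ∨ (q : G) = x}
      one_mem' := Or.inl rfl
      mul_mem' := by
        rintro a b (ha | ha) (hb | hb) <;>
          simp only [Set.mem_ofPred_eq, Subgroup.coe_mul, ha, hb, sx, mul_one, one_mul, true_or,
            or_true]
      inv_mem' := by
        rintro a (ha | ha)
        · left; simp [ha]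
        · right; simp [ha, hT.inv_eq hx] }
  have hn : Z.Normal := ⟨by
    rintro a (ha | ha) g
    · left; simp [ha]
    · right
      simp only [Subgroup.coe_mul, Subgroup.coe_inv, ha]
      exact conj_eq_of_commute (hT.commute_of_mem_QG hx g g.2)⟩
  let _ : CommGroup (QG D x ⧸ Z) :=
    { (inferInstance : Group (QG D x ⧸ Z)) with
      mul_comm := by
        intro a b
        obtain ⟨a, rfl⟩ := QuotientGroup.mk_surjective a
        obtain ⟨b, rfl⟩ := QuotientGroup.mk_surjective b
        rw [← QuotientGroup.mk_mul, ← QuotientGroup.mk_mul, QuotientGroup.eq]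
        show ((a : G) * b)⁻¹ * (b * a) = 1 ∨ ((a : G) * b)⁻¹ * (b * a) = x
        have e : ((a : G) * b)⁻¹ * (b * a) = (b : G)⁻¹ * (a : G)⁻¹ * (b : G)⁻¹⁻¹ * a := by group
        rw [e]
        rcases hD.conj_eq_or hZ hx _ (Subgroup.inv_mem _ b.2) _ (Subgroup.inv_mem _ a.2) with h | h
        · left; rw [h]; group
        · right; rw [h]; group }
  refine ⟨Additive (QG D x ⧸ Z), inferInstance, inferInstance,
    fun g => if h : g ∈ QG D x then Additive.ofMul (QuotientGroup.mk ⟨g, h⟩) else 0, ?_, ?_, ?_⟩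
  · intro q hq q' hq'
    simp only [dif_pos hq, dif_pos hq', dif_pos (Subgroup.mul_mem _ hq hq')]
    rfl
  · intro q hq
    simp only [dif_pos hq]
    exact QuotientGroup.eq_one_iff (N := Z) ⟨q, hq⟩
  · intro v
    obtain ⟨q, hq⟩ := QuotientGroup.mk_surjective (Additive.toMul v)
    refine ⟨q, q.2, ?_⟩
    simp only [dif_pos q.2]
    exact congrArg Additive.ofMul hq

end Pol

end CL.Fischer
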