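import Cfsg.Agent.Base
import Cfsg.Agent.Fischer.Basic

/-!
# A complex structure on a module for 3-transpositions with four-element commutator spaces
-/

set_option autoImplicit false

namespace CL.Fischer

open CL.Kei

variable {G : Type*} [Group G] {V : Type*} [AddCommGroup V]

/-- The module data: `A e` is the commutator map of `e`, `b` an invariant alternating form. -/
structure TL (D E : Set G) (A : G → V →+ V) (b : V → V → ZMod 2) : Prop where
  tt : TT D
  sub : E ⊆ D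
  cj_mem : ∀ e ∈ E, ∀ t ∈ E, cj e t ∈ E
  common : ∀ e ∈ E, ∀ f ∈ E, Commute e f → ∃ m ∈ E, ¬ Commute m e ∧ ¬ Commute m f
  two : ∀ v : V, v + v = 0
  A_comm : ∀ t ∈ E, ∀ e ∈ E, Commute t e → ∀ v, A t (A e v) = 0
  A_braid : ∀ t ∈ E, ∀ e ∈ E, ¬ Commute t e → ∀ v, A t (A e (A t v)) = A t v
  A_cj : ∀ t ∈ E, ∀ e ∈ E, ∀ v, A (cj e t) v = A e (v + A t v) + A t (A e (v + A t v))
  b_add : ∀ u v w, b (u + v) w = b u w + b v w
  b_symm : ∀ u v, b u v = b v u
  b_zero : ∀ e ∈ E, ∀ u v, b (A e u) v = 0 ↔ A e u = 0 ∨ A e v = 0 ∨ A e u = A e v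
  span : ∀ P : V → Prop, P 0 → (∀ e ∈ E, ∀ u v, P v → P (A e u + v)) → ∀ v, P v
  nondeg : ∀ v, (∀ e ∈ E, A e v = 0) → v = 0
  thick : ∀ e ∈ E, ∃ u u', A e u ≠ 0 ∧ A e u' ≠ 0 ∧ A e u ≠ A e u'

/-- An orientation at `e`: `J = σ ∘ A e` with `σ` of order three on the range of `A e`. -/
structure Ori (A : G → V →+ V) (e : G) (J : V →+ V) : Prop where
  range : ∀ v, ∃ w, J v = A e w
  zero : ∀ v, A e v = 0 → J v = 0
  ne : ∀ v, A e v ≠ 0 → J v ≠ 0 ∧ J v ≠ A e v

/-- Transport of an orientation. -/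
def tr (A : G → V →+ V) (t : G) (J : V →+ V) : V →+ V := (A t).comp (J.comp (A t))

omit [Group G] in
theorem tr_apply (A : G → V →+ V) (t : G) (J : V →+ V) (v : V) : tr A t J v = A t (J (A t v)) :=
  rfl

theorem zmod2_eq_one {c : ZMod 2} (h : c ≠ 0) : c = 1 := by
  revert c; decide

namespace TL

variable {D E : Set G} {A : G → V →+ V} {b : V → V → ZMod 2} (H : TL D E A b)
include H

theorem add_eq_zero {u v : V} : u + v = 0 ↔ u = v :=
  ⟨fun h => by rw [← add_right_cancel_iff (a := v), h, H.two], fun h => by rw [h, H.two]⟩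

theorem aac (u v : V) : u + (u + v) = v := by rw [← add_assoc, H.two, zero_add]

theorem acc (u v : V) : u + v + v = u := by rw [add_assoc, H.two, add_zero]

theorem b_add' (u v w : V) : b u (v + w) = b u v + b u w := by
  rw [H.b_symm, H.b_add, H.b_symm v, H.b_symm w]

theorem b_zero_left (v : V) : b 0 v = 0 := by
  have := H.b_add 0 0 v
  rw [add_zero] at this
  exact left_eq_add.mp this

theorem AA {e : G} (he : e ∈ E) (v : V) : A e (A e v) = 0 := H.A_comm e he e he (Commute.refl e) v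

theorem b_one {e : G} (he : e ∈ E) {u v : V} (h1 : A e u ≠ 0) (h2 : A e v ≠ 0)
    (h3 : A e u ≠ A e v) : b (A e u) v = 1 :=
  zmod2_eq_one fun h => by
    rcases (H.b_zero e he u v).mp h with h | h | h
    exacts [h1 h, h2 h, h3 h]

theorem four {e : G} (he : e ∈ E) {u v : V} (h1 : A e u ≠ 0) (h2 : A e v ≠ 0)
    (h3 : A e u ≠ A e v) (w : V) :
    A e w = 0 ∨ A e w = A e u ∨ A e w = A e v ∨ A e w = A e u + A e v := by
  by_contra hn
  push Not at hn
  have h4 : b (A e u) (v + w) = 0 := by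
    rw [H.b_add', H.b_one he h1 h2 h3, H.b_one he h1 hn.1 hn.2.1.symm]; rfl
  rcases (H.b_zero e he u _).mp h4 with h | h | h
  · exact h1 h
  · rw [map_add, H.add_eq_zero] at h
    exact hn.2.2.1 h.symm
  · rw [map_add] at h
    exact hn.2.2.2 (by rw [h, add_comm (A e v), H.acc])

theorem eq_zero_of_b {v : V} (h : ∀ e ∈ E, ∀ u, b (A e u) v = 0) : v = 0 := by
  refine H.nondeg v fun e he => ?_
  obtain ⟨u, u', h1, h2, h3⟩ := H.thick e he
  rcases (H.b_zero e he u v).mp (h e he u) with t | t | t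
  · exact absurd t h1
  · exact t
  · rcases (H.b_zero e he u' v).mp (h e he u') with t' | t' | t'
    · exact absurd t' h2
    · exact t'
    · exact absurd (t.trans t'.symm) h3

theorem ori_congr {e : G} {J : V →+ V} (hJ : Ori A e J) {u v : V} (h : A e u = A e v) :
    J u = J v := by
  rw [← H.add_eq_zero, ← map_add]
  exact hJ.zero _ (by rw [map_add, h, H.two])

theorem ori_sq {e : G} (he : e ∈ E) {J : V →+ V} (hJ : Ori A e J) {u w : V} (h : A e w = J u) :
    J w = J u + A e u := by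
  by_cases h0 : A e u = 0
  · rw [hJ.zero u h0] at h ⊢
    rw [hJ.zero w h, h0, add_zero]
  obtain ⟨h1, h2⟩ := hJ.ne u h0
  obtain ⟨w', hw'⟩ := hJ.range w
  rw [← h] at h1 h2
  obtain ⟨h3, h4⟩ := hJ.ne w h1
  have h5 : A e (u + w) ≠ 0 := by rw [map_add, Ne, H.add_eq_zero]; exact h2.symm
  obtain ⟨-, h7⟩ := hJ.ne _ h5
  rw [map_add, map_add, ← h] at h7
  rcases H.four he h0 h1 h2.symm w' with t | t | t | t
  · exact absurd (hw'.trans t) h3
  · exact absurd (by rw [hw', t, add_comm]) h7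
  · exact absurd (hw'.trans t) h4
  · rw [hw', t, ← h, add_comm]

theorem ori_ext {e : G} (he : e ∈ E) {J J' : V →+ V} (hJ : Ori A e J) (hJ' : Ori A e J') {u : V}
    (h0 : A e u ≠ 0) (h : J u = J' u) : J = J' := by
  obtain ⟨w, hw⟩ := hJ.range u
  have h1 := H.ori_sq he hJ hw.symm
  have h2 := H.ori_sq he hJ' (hw.symm.trans h)
  obtain ⟨h3, h4⟩ := hJ.ne u h0
  rw [hw] at h3 h4
  ext v
  rcases H.four he h0 h3 h4.symm v with t | t | t | t
  · rw [hJ.zero v t, hJ'.zero v t]
  · rw [H.ori_congr hJ t, H.ori_congr hJ' t, h]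
  · rw [H.ori_congr hJ t, H.ori_congr hJ' t, h1, h2, h]
  · rw [← map_add] at t
    rw [H.ori_congr hJ t, H.ori_congr hJ' t, map_add, map_add, h1, h2, h]

theorem ori_flip {e : G} {J : V →+ V} (hJ : Ori A e J) : Ori A e (J + A e) where
  range v := by
    obtain ⟨w, hw⟩ := hJ.range v
    exact ⟨w + v, by rw [AddMonoidHom.add_apply, map_add, hw]⟩
  zero v h := by rw [AddMonoidHom.add_apply, hJ.zero v h, h, add_zero]
  ne v h := by
    rw [AddMonoidHom.add_apply, Ne, H.add_eq_zero]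
    exact ⟨(hJ.ne v h).2, fun t => (hJ.ne v h).1 (add_eq_right.mp t)⟩

theorem ori_two {e : G} (he : e ∈ E) {J J' : V →+ V} (hJ : Ori A e J) (hJ' : Ori A e J') :
    J' = J ∨ J' = J + A e := by
  obtain ⟨u, -, h0, -⟩ := H.thick e he
  obtain ⟨w, hw⟩ := hJ.range u
  obtain ⟨w', hw'⟩ := hJ'.range u
  obtain ⟨h1, h2⟩ := hJ.ne u h0
  obtain ⟨h3, h4⟩ := hJ'.ne u h0
  rw [hw] at h1 h2
  rcases H.four he h0 h1 h2.symm w' with t | t | t | t
  · exact absurd (hw'.trans t) h3
  · exact absurd (hw'.trans t) h4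
  · exact Or.inl (H.ori_ext he hJ' hJ h0 (by rw [hw', t, hw]))
  · exact Or.inr (H.ori_ext he hJ' (H.ori_flip hJ) h0
      (by rw [hw', t, AddMonoidHom.add_apply, hw, add_comm]))

theorem exists_ori {e : G} (he : e ∈ E) : ∃ J, Ori A e J := by
  obtain ⟨u, u', h1, h2, h3⟩ := H.thick e he
  have sm : ∀ (c c' : ZMod 2) (w : V), (c + c').val • w = c.val • w + c'.val • w := by
    intro c c' w
    fin_cases c <;> fin_cases c'
    · exact (add_smul 0 0 w)
    · exact (add_smul 0 1 w)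
    · exact (add_smul 1 0 w)
    · show (0 : ℕ) • w = (1 : ℕ) • w + (1 : ℕ) • w
      rw [zero_smul, H.two]
  let J : V →+ V := AddMonoidHom.mk'
    (fun v => (b (A e u') v).val • A e u' + (b (A e u) v).val • (A e u + A e u'))
    (fun v w => by rw [H.b_add', H.b_add', sm, sm]; abel)
  have hJ : ∀ v, J v = (b (A e u') v).val • A e u' + (b (A e u) v).val • (A e u + A e u') :=
    fun _ => rfl
  have h4 : A e u + A e u' ≠ 0 := by rwa [Ne, H.add_eq_zero]
  have v1 : (1 : ZMod 2).val = 1 := rfl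
  refine ⟨J, fun v => ⟨(b (A e u') v).val • u' + (b (A e u) v).val • (u + u'), by
    rw [hJ, map_add, map_nsmul, map_nsmul, map_add]⟩, fun v h => ?_, fun v h => ?_⟩
  · rw [hJ, (H.b_zero e he u v).mpr (Or.inr (Or.inl h)),
      (H.b_zero e he u' v).mpr (Or.inr (Or.inl h))]
    simp
  · rcases H.four he h1 h2 h3 v with t | t | t | t
    · exact absurd t h
    · rw [hJ, (H.b_zero e he u v).mpr (Or.inr (Or.inr t.symm)),
        H.b_one he h2 h (by rw [t]; exact h3.symm), t]
      simpa [v1] using ⟨h2, h3.symm⟩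
    · rw [hJ, (H.b_zero e he u' v).mpr (Or.inr (Or.inr t.symm)),
        H.b_one he h1 h (by rw [t]; exact h3), t]
      simpa [v1] using ⟨h4, h1⟩
    · rw [hJ, H.b_one he h1 h (by rw [t]; simpa using h2),
        H.b_one he h2 h (by rw [t]; simpa using h1), t, v1, one_smul, one_smul,
        add_comm (A e u) (A e u'), H.aac]
      exact ⟨h1, by simpa using h2⟩

theorem ori_back {e t : G} (he : e ∈ E) (ht : t ∈ E) (h : ¬ Commute e t) {J : V →+ V}
    (hJ : Ori A e J) (v : V) : A e (A t (J v)) = J v := by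
  obtain ⟨w, hw⟩ := hJ.range v
  rw [hw, H.A_braid e he t ht h]

theorem ori_tr {e t : G} (he : e ∈ E) (ht : t ∈ E) (h : ¬ Commute e t) {J : V →+ V}
    (hJ : Ori A e J) : Ori A t (tr A t J) where
  range v := ⟨_, rfl⟩
  zero v h0 := by rw [tr_apply, h0, map_zero, map_zero]
  ne v h0 := by
    have h1 : A e (A t v) ≠ 0 := fun h1 => h0 (by
      rw [← H.A_braid t ht e he (fun c => h c.symm) v, h1, map_zero])
    obtain ⟨h2, h3⟩ := hJ.ne _ h1
    rw [tr_apply]
    refine ⟨fun c => h2 ?_, fun c => h3 ?_⟩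
    · rw [← H.ori_back he ht h hJ, c, map_zero]
    · rw [← H.ori_back he ht h hJ, c]

theorem tr_tr {e t : G} (he : e ∈ E) (ht : t ∈ E) (h : ¬ Commute e t) {J : V →+ V}
    (hJ : Ori A e J) : tr A e (tr A t J) = J := by
  ext v
  rw [tr_apply, tr_apply, H.ori_back he ht h hJ]
  exact H.ori_congr hJ (H.A_braid e he t ht h v)

theorem triangle {a c d : G} (ha : a ∈ E) (hc : c ∈ E) (hd : d ∈ E) (hac : ¬ Commute a c)
    (had : ¬ Commute a d) (hcd : ¬ Commute c d) {J : V →+ V} (hJ : Ori A a J) :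
    tr A d (tr A c J) = tr A d J := by
  have hca : ¬ Commute c a := fun t => hac t.symm
  have hda : ¬ Commute d a := fun t => had t.symm
  have hdc : ¬ Commute d c := fun t => hcd t.symm
  have hp := H.cj_mem c hc d hd
  have ep : ∀ v, A (cj c d) v = A c v + A c (A d v) + (A d (A c v) + A d v) := fun v => by
    rw [H.A_cj d hd c hc, map_add, map_add, H.A_braid d hd c hc hdc]
  have inv1 : ∀ v, A a (A d (A c (A a (A c (A d (A a v)))))) = A a v := fun v => by
    rw [H.A_braid c hc a ha hca, H.A_braid d hd c hc hdc, H.A_braid a ha d hd had]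
  have inv2 : ∀ v, A a (A c (A d (A a (A d (A c (A a v)))))) = A a v := fun v => by
    rw [H.A_braid d hd a ha hda, H.A_braid c hc d hd hcd, H.A_braid a ha c hc hac]
  have key : ∀ v, A a (A c (A d (J v))) = J (A c (A d (A a v))) := by
    intro v
    obtain ⟨w, hw⟩ := hJ.range v
    by_cases hap : Commute a (cj c d)
    · have k : ∀ v, A a (A c (A d (A a v))) = A a v := fun v => by
        have := H.A_comm a ha _ hp hap (A d (A a v))
        rw [ep, H.AA hd, H.A_braid d hd c hc hdc, map_zero, add_zero, add_zero, map_add,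
          H.add_eq_zero, H.A_braid a ha d hd had] at this
        exact this
      rw [hw, k, ← hw]
      exact H.ori_congr hJ (k v).symm
    · let K : V →+ V := (A a).comp ((A c).comp ((A d).comp (A a)))
      have hK : ∀ v, K v = A a (A c (A d (A a v))) := fun _ => rfl
      have oK : Ori A a K := by
        refine ⟨fun v => ⟨_, hK v⟩, fun v h => by rw [hK, h]; simp, fun v h => ⟨fun t => h ?_,
          fun t => h ?_⟩⟩
        · rw [← inv1, ← hK, t]; simp
        · have := H.A_braid a ha _ hp hap v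
          rw [ep, map_add, map_add, map_add, H.A_braid a ha c hc hac, H.A_braid a ha d hd had,
            ← hK, t, H.two, zero_add] at this
          rw [← inv2, add_eq_right.mp this]; simp
      rcases H.ori_two ha hJ oK with t | t
      · rw [hw, ← hK, t]
        exact H.ori_congr hJ (by rw [← hK, t, hw])
      · rw [hw, ← hK, t, AddMonoidHom.add_apply, ← hw, ← map_add]
        exact H.ori_congr hJ (by rw [← hK, t, AddMonoidHom.add_apply, map_add, hw])
  have o1 := H.ori_tr hc hd hcd (H.ori_tr ha hc hac hJ)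
  rw [← H.tr_tr hd ha hda o1]
  congr 1
  ext v
  rw [tr_apply, tr_apply, tr_apply, ← key]
  obtain ⟨w, hw⟩ := hJ.range v
  rw [hw, inv1]

theorem exists_orientation (hne : E.Nonempty) : ∃ J : G → V →+ V, (∀ e ∈ E, Ori A e (J e)) ∧
    ∀ e ∈ E, ∀ t ∈ E, ¬ Commute e t → J t = tr A t (J e) := by
  classical
  have hT := H.tt
  obtain ⟨e₀, he₀⟩ := hne
  obtain ⟨J₀, hJ₀⟩ := H.exists_ori he₀
  have sy : ∀ {u v : G}, ¬ Commute u v → ¬ Commute v u := fun h t => h t.symm
  have ex : ∀ e ∈ E, ∃ m ∈ E, ¬ Commute m e₀ ∧ ¬ Commute m e := fun e he => by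
    by_cases h : Commute e₀ e
    · exact H.common e₀ he₀ e he h
    · exact ⟨cj e₀ e, H.cj_mem _ he₀ _ he, sy (hT.not_commute_cj_left (H.sub he₀) (H.sub he) h),
        sy (hT.not_commute_cj_right (H.sub he) h)⟩
  have adj : ∀ e ∈ E, ∀ m ∈ E, ∀ m' ∈ E, ¬ Commute m e₀ → ¬ Commute m e → ¬ Commute m' e₀ →
      ¬ Commute m' e → ¬ Commute m m' → tr A e (tr A m J₀) = tr A e (tr A m' J₀) := by
    intro e he m hm m' hm' h1 h2 h3 h4 h5
    rw [← H.triangle he₀ hm hm' (sy h1) (sy h3) h5 hJ₀,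
      H.triangle hm hm' he h5 h2 h4 (H.ori_tr he₀ hm (sy h1) hJ₀)]
  have uniq : ∀ e ∈ E, ∀ m ∈ E, ∀ m' ∈ E, ¬ Commute m e₀ → ¬ Commute m e → ¬ Commute m' e₀ →
      ¬ Commute m' e → tr A e (tr A m J₀) = tr A e (tr A m' J₀) := by
    intro e he m hm m' hm' h1 h2 h3 h4
    by_cases h5 : Commute m m'
    · by_cases h6 : Commute e e₀
      · have hm'' := H.cj_mem m hm e₀ he₀
        have s0 := hT.sq e₀ (H.sub he₀)
        have n1 := sy (hT.not_commute_cj_right (H.sub he₀) h1)
        have n2 : ¬ Commute (cj m e₀) e := fun t => h2 ((commute_cj_iff s0 h6).mp t.symm).symm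
        have n3 := hT.not_commute_cj_left (H.sub hm) (H.sub he₀) h1
        have n4 : ¬ Commute (cj m e₀) m' := fun t =>
          h3 (hT.commute_of_cj (H.sub hm) (H.sub he₀) h1 h5.symm t.symm)
        rw [adj e he m hm _ hm'' h1 h2 n1 n2 n3, adj e he _ hm'' m' hm' n1 n2 h3 h4 n4]
      · rw [H.triangle he₀ hm he (sy h1) (sy h6) h2 hJ₀, H.triangle he₀ hm' he (sy h3) (sy h6) h4 hJ₀]
    · exact adj e he m hm m' hm' h1 h2 h3 h4 h5
  choose! m hm using ex
  refine ⟨fun e => tr A e (tr A (m e) J₀), fun e he => H.ori_tr (hm e he).1 he (hm e he).2.2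
    (H.ori_tr he₀ (hm e he).1 (sy (hm e he).2.1) hJ₀), fun e he t ht h => ?_⟩
  have via : ∀ n ∈ E, ¬ Commute n e₀ → ¬ Commute n e → ¬ Commute n t →
      tr A t (tr A (m t) J₀) = tr A t (tr A e (tr A (m e) J₀)) := by
    intro n hn h1 h2 h3
    rw [uniq t ht _ (hm t ht).1 n hn (hm t ht).2.1 (hm t ht).2.2 h1 h3,
      uniq e he _ (hm e he).1 n hn (hm e he).2.1 (hm e he).2.2 h1 h2,
      H.triangle hn he ht h2 h3 h (H.ori_tr he₀ hn (sy h1) hJ₀)]
  show tr A t (tr A (m t) J₀) = tr A t (tr A e (tr A (m e) J₀))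
  by_cases h1 : Commute e e₀
  · by_cases h2 : Commute t e₀
    · by_cases h3 : Commute (m e) t
      · have se := hT.sq e (H.sub he)
        refine via _ (H.cj_mem _ (hm e he).1 e he) (fun c => (hm e he).2.1 ?_)
          (sy (hT.not_commute_cj_right (H.sub he) (hm e he).2.2)) fun c => h ?_
        · exact ((commute_cj_iff se h1.symm).mp c.symm).symm
        · exact (hT.commute_of_cj (H.sub (hm e he).1) (H.sub he) (hm e he).2.2 h3.symm c.symm).symm
      · exact via _ (hm e he).1 (hm e he).2.1 (hm e he).2.2 h3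
    · rw [uniq e he _ (hm e he).1 t ht (hm e he).2.1 (hm e he).2.2 h2 (sy h),
        H.tr_tr ht he (sy h) (H.ori_tr he₀ ht (sy h2) hJ₀),
        H.triangle he₀ (hm t ht).1 ht (sy (hm t ht).2.1) (sy h2) (hm t ht).2.2 hJ₀]
  · rw [H.triangle he₀ (hm e he).1 he (sy (hm e he).2.1) (sy h1) (hm e he).2.2 hJ₀,
      uniq t ht _ (hm t ht).1 e he (hm t ht).2.1 (hm t ht).2.2 h1 h]

theorem b_ori {e : G} (he : e ∈ E) {J : V →+ V} (hJ : Ori A e J) {u v w : V}
    (h : A e w = J v) : b (J u) w = b (A e u) v := by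
  obtain ⟨u', hu'⟩ := hJ.range u
  have z : ∀ p, J p = 0 ↔ A e p = 0 := fun p =>
    ⟨fun t => by by_contra c; exact (hJ.ne p c).1 t, hJ.zero p⟩
  have key : b (J u) w = 0 ↔ b (A e u) v = 0 := by
    rw [hu', H.b_zero e he, H.b_zero e he, ← hu', h, z, z, ← H.add_eq_zero (u := J u),
      ← map_add, z, map_add, H.add_eq_zero]
  by_cases h0 : b (A e u) v = 0
  · rw [h0, key.mpr h0]
  · rw [zmod2_eq_one h0, zmod2_eq_one fun t => h0 (key.mp t)]

/-- The complex structure. -/
theorem exists_complex (hne : E.Nonempty) : ∃ z : V →+ V, (∀ v, z (z v) = z v + v) ∧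
    (∀ v w, b (z v) (z w) = b v w) ∧ ∀ e ∈ E, ∀ v, ∃ w, z (A e v) = A e w := by
  obtain ⟨J, hJ, hc⟩ := H.exists_orientation hne
  have gen : ∀ e ∈ E, ∀ u, ∀ t ∈ E, ∀ w, b (J e u) (J t w) = b (A e u) (A t w) := by
    intro e he u t ht w
    by_cases h : Commute e t
    · obtain ⟨u', hu'⟩ := (hJ e he).range u
      obtain ⟨w', hw'⟩ := (hJ t ht).range w
      rw [hu', hw', (H.b_zero e he _ _).mpr (Or.inr (Or.inl (H.A_comm e he t ht h _))),
        (H.b_zero e he _ _).mpr (Or.inr (Or.inl (H.A_comm e he t ht h _)))]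
    · refine H.b_ori he (hJ e he) ?_
      rw [hc e he t ht h, tr_apply, H.ori_back he ht h (hJ e he)]
  have ex : ∀ v, ∃ v', ∀ t ∈ E, ∀ w, b v' (J t w) = b v (A t w) := by
    refine H.span _ ⟨0, fun t _ w => by rw [H.b_zero_left, H.b_zero_left]⟩ ?_
    rintro e he u v ⟨v', h⟩
    exact ⟨J e u + v', fun t ht w => by rw [H.b_add, H.b_add, h t ht, gen e he u t ht]⟩
  have un : ∀ v₁ v₂, (∀ t ∈ E, ∀ w, b v₁ (J t w) = b v₂ (J t w)) → v₁ = v₂ := by
    intro v₁ v₂ h
    rw [← H.add_eq_zero]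
    refine H.eq_zero_of_b fun e he u => ?_
    obtain ⟨w, hw⟩ := (hJ e he).range u
    have e1 : A e u = J e (w + u) := by rw [map_add, H.ori_sq he (hJ e he) hw.symm, add_comm, H.aac]
    rw [e1, H.b_symm, H.b_add, h e he]
    exact CharTwo.add_self_eq_zero _
  choose z hz using ex
  let Z : V →+ V := AddMonoidHom.mk' z fun u v => un _ _ fun t ht w => by
    rw [H.b_add, hz _ t ht, hz _ t ht, hz _ t ht, H.b_add]
  have hZ : ∀ e ∈ E, ∀ u, Z (A e u) = J e u := fun e he u => un _ _ fun t ht w => by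
    show b (z _) _ = _
    rw [hz _ t ht, gen e he u t ht]
  refine ⟨Z, H.span _ (by simp) fun e he u v h => ?_, fun v => H.span _ ?_ fun e he u w h => ?_,
    fun e he v => by rw [hZ e he]; exact (hJ e he).range v⟩
  · obtain ⟨w, hw⟩ := (hJ e he).range u
    rw [map_add, map_add, h, hZ e he, hw, hZ e he, H.ori_sq he (hJ e he) hw.symm, ← hw]
    abel
  · rw [map_zero, H.b_symm, H.b_zero_left, H.b_symm, H.b_zero_left]
  · rw [map_add, H.b_add', H.b_add', h, hZ e he]
    congr 1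
    exact hz v e he u

end TL

end CL.Fischer
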