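import Cfsg.Agent.Base
import Cfsg.Agent.Fischer.Heis
import Cfsg.Agent.Fischer.Orient

/-!
# The module `Q / ⟨x⟩`
-/

set_option autoImplicit false

namespace CL.Fischer

open CL.Kei

variable {G : Type*} [Group G] {V : Type*} [AddCommGroup V]

/-- The set-up: a polar space with thick lines, a hyperbolic pair `x, y`, and `π : Q → Q / ⟨x⟩`. -/
structure HS (D : Set G) (x y : G) (π : G → V) : Prop where
  pol : Pol D
  hZ : Subgroup.center G = ⊥
  hx : x ∈ D
  hy : y ∈ D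
  hxy : ¬ Commute x y
  four : ∀ a ∈ D, ∀ b ∈ Dx D a, ∃ c ∈ PL D a b, ∃ d ∈ PL D a b,
    c ≠ a ∧ c ≠ b ∧ d ≠ a ∧ d ≠ b ∧ c ≠ d
  map_mul : ∀ q ∈ QG D x, ∀ q' ∈ QG D x, π (q * q') = π q + π q'
  ker : ∀ q ∈ QG D x, π q = 0 ↔ q = 1 ∨ q = x
  surj : ∀ v, ∃ q ∈ QG D x, π q = v

namespace HS

variable {D : Set G} {x y : G} {π : G → V} (H : HS D x y π)
include H

theorem fis : Fis D := H.pol.toFis

theorem tt : TT D := H.pol.toFis.toTT

theorem sx : x * x = 1 := H.tt.sq x H.hx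

theorem cx {q : G} (hq : q ∈ QG D x) : Commute q x := H.tt.commute_of_mem_QG H.hx q hq

theorem pi_one : π 1 = 0 := (H.ker 1 (Subgroup.one_mem _)).mpr (Or.inl rfl)

theorem pi_x : π x = 0 := (H.ker x (self_mem_QG D x)).mpr (Or.inr rfl)

theorem pi_x_mul {q : G} (hq : q ∈ QG D x) : π (x * q) = π q := by
  rw [H.map_mul x (self_mem_QG D x) q hq, H.pi_x, zero_add]

theorem pi_inv' {q : G} (hq : q ∈ QG D x) : π q⁻¹ = -π q := by
  rw [eq_neg_iff_add_eq_zero, ← H.map_mul _ (Subgroup.inv_mem _ hq) q hq, inv_mul_cancel, H.pi_one]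

theorem pi_eq_iff {q q' : G} (hq : q ∈ QG D x) (hq' : q' ∈ QG D x) :
    π q = π q' ↔ q = q' ∨ q = x * q' := by
  rw [← sub_eq_zero, sub_eq_add_neg, ← H.pi_inv' hq', ← H.map_mul q hq _ (Subgroup.inv_mem _ hq'),
    H.ker _ (Subgroup.mul_mem _ hq (Subgroup.inv_mem _ hq')), mul_inv_eq_one, mul_inv_eq_iff_eq_mul]

theorem two (v : V) : v + v = 0 := by
  obtain ⟨q, hq, rfl⟩ := H.surj v
  revert q
  refine H.tt.QG_induction H.hx (by rw [H.pi_one, add_zero]) (fun q hq h => by rwa [H.pi_x_mul hq])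
    fun s hs t ht hne q hq h => ?_
  have m := mul_mem_QG hs ht hne
  have : π (s * t) + π (s * t) = 0 := by
    rw [← H.map_mul _ m _ m, H.tt.mul_sq hs.1 ht.1
      (commute_of_mem_PL H.hx hs (right_mem_PL x hs.1) ht), H.pi_one]
  rw [H.map_mul _ m q hq, add_add_add_comm, this, h, add_zero]

theorem pi_inv {q : G} (hq : q ∈ QG D x) : π q⁻¹ = π q := by
  rw [H.pi_inv' hq, neg_eq_iff_add_eq_zero, H.two]

/-- A lift of an element of the quotient. -/
noncomputable def lift (v : V) : G := (H.surj v).choose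

theorem lift_mem (v : V) : H.lift v ∈ QG D x := (H.surj v).choose_spec.1

theorem pi_lift (v : V) : π (H.lift v) = v := (H.surj v).choose_spec.2

theorem pi_conj_congr {t q q' : G} (ht : Commute t x) (hq : q ∈ QG D x) (hq' : q' ∈ QG D x)
    (h : π q = π q') : π (t * q * t⁻¹) = π (t * q' * t⁻¹) := by
  rcases (H.pi_eq_iff hq hq').mp h with rfl | rfl
  · rfl
  · have : t * (x * q') * t⁻¹ = x * (t * q' * t⁻¹) := by rw [← mul_assoc t, ht.eq]; group
    rw [this, H.pi_x_mul (H.tt.conj_mem_QG H.hx ht q' hq')]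

open Classical in
/-- The commutator map of `t` on the quotient. -/
noncomputable def A (t : G) : V →+ V :=
  if ht : Commute t x then AddMonoidHom.mk' (fun v => π (t * H.lift v * t⁻¹) + v) (fun u v => by
    have m := H.tt.conj_mem_QG H.hx ht
    have e : t * (H.lift u * H.lift v) * t⁻¹ = (t * H.lift u * t⁻¹) * (t * H.lift v * t⁻¹) := by
      group
    rw [H.pi_conj_congr ht (H.lift_mem _) (Subgroup.mul_mem _ (H.lift_mem u) (H.lift_mem v))
      (by rw [H.map_mul _ (H.lift_mem u) _ (H.lift_mem v), H.pi_lift, H.pi_lift, H.pi_lift]), e,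
      H.map_mul _ (m _ (H.lift_mem u)) _ (m _ (H.lift_mem v))]
    abel) else 0

theorem A_pi {t q : G} (ht : Commute t x) (hq : q ∈ QG D x) :
    H.A t (π q) = π (t * q * t⁻¹) + π q := by
  rw [A, dif_pos ht]
  show π (t * H.lift (π q) * t⁻¹) + π q = _
  rw [H.pi_conj_congr ht (H.lift_mem _) hq (H.pi_lift _)]

theorem pi_conj {t q : G} (ht : Commute t x) (hq : q ∈ QG D x) :
    π (t * q * t⁻¹) = π q + H.A t (π q) := by
  rw [H.A_pi ht hq, add_comm, add_assoc, H.two, add_zero]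

theorem A_pi' {t q : G} (ht : t ∈ Dx D x) (hq : q ∈ QG D x) :
    H.A t (π q) = π (t * (q * t * q⁻¹)) := by
  rw [H.A_pi ht.2.2.symm hq, ← H.pi_inv hq, ← H.map_mul _
    (H.tt.conj_mem_QG H.hx ht.2.2.symm q hq) _ (Subgroup.inv_mem _ hq), H.tt.inv_eq ht.1]
  congr 1; group

open Classical in
/-- The commutator form on the quotient. -/
noncomputable def b (v w : V) : ZMod 2 := if Commute (H.lift v) (H.lift w) then 0 else 1

theorem commute_congr {p q q' : G} (hp : p ∈ QG D x) (hq : q ∈ QG D x) (hq' : q' ∈ QG D x)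
    (h : π q = π q') : Commute p q ↔ Commute p q' := by
  rcases (H.pi_eq_iff hq hq').mp h with rfl | rfl
  · rfl
  · exact ⟨fun t => by simpa using (H.cx hp).inv_right.mul_right t, (H.cx hp).mul_right⟩

theorem b_pi {q q' : G} (hq : q ∈ QG D x) (hq' : q' ∈ QG D x) :
    H.b (π q) (π q') = 0 ↔ Commute q q' := by
  have : Commute (H.lift (π q)) (H.lift (π q')) ↔ Commute q q' := by
    rw [H.commute_congr (H.lift_mem _) (H.lift_mem _) hq' (H.pi_lift _), Commute.symm_iff,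
      H.commute_congr hq' (H.lift_mem _) hq (H.pi_lift _), Commute.symm_iff]
  rw [b, ← this]
  split_ifs with h
  · simp [h]
  · simp [h]

theorem b_symm (v w : V) : H.b v w = H.b w v := by
  by_cases h : Commute (H.lift v) (H.lift w)
  · rw [b, b, if_pos h, if_pos h.symm]
  · rw [b, b, if_neg h, if_neg fun t => h t.symm]

variable [Finite G]

theorem conj_of_not_commute {q q' : G} (hq : q ∈ QG D x) (hq' : q' ∈ QG D x)
    (h : ¬ Commute q q') : q * q' * q⁻¹ = x * q' := by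
  refine (H.pol.conj_eq_or H.hZ H.hx q hq q' hq').resolve_left fun t => h ?_
  calc q * q' = q * q' * q⁻¹ * q := by group
    _ = q' * q := by rw [t]

theorem b_add (u v w : V) : H.b (u + v) w = H.b u w + H.b v w := by
  obtain ⟨p, hp, rfl⟩ := H.surj u
  obtain ⟨q, hq, rfl⟩ := H.surj v
  obtain ⟨r, hr, rfl⟩ := H.surj w
  rw [← H.map_mul p hp q hq]
  have m := Subgroup.mul_mem _ hp hq
  by_cases h1 : Commute p r
  · rw [(H.b_pi hp hr).mpr h1, zero_add]
    by_cases h2 : Commute q r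
    · rw [(H.b_pi hq hr).mpr h2, (H.b_pi m hr).mpr (h1.mul_left h2)]
    · rw [zmod2_eq_one (mt (H.b_pi hq hr).mp h2), zmod2_eq_one (mt (H.b_pi m hr).mp fun t =>
        h2 (by simpa using h1.inv_left.mul_left t))]
  · rw [zmod2_eq_one (mt (H.b_pi hp hr).mp h1)]
    by_cases h2 : Commute q r
    · rw [(H.b_pi hq hr).mpr h2, zmod2_eq_one (mt (H.b_pi m hr).mp fun t =>
        h1 (by simpa using t.mul_left h2.inv_left)), add_zero]
    · rw [zmod2_eq_one (mt (H.b_pi hq hr).mp h2), (H.b_pi m hr).mpr]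
      · rfl
      have e1 := H.conj_of_not_commute hp hr h1
      have e2 := H.conj_of_not_commute hq hr h2
      calc p * q * r = p * (q * r * q⁻¹) * q := by group
        _ = (p * x) * r * q := by rw [e2]; group
        _ = x * (p * r * p⁻¹) * (p * q) := by rw [(H.cx hp).eq]; group
        _ = r * (p * q) := by rw [e1, ← mul_assoc x, H.sx, one_mul]

theorem conj_PL {q c : G} (hq : q ∈ QG D x) (hc : c ∈ Dx D x) : q * c * q⁻¹ ∈ PL D x c :=
  H.fis.conj_mem_PL_of_mem_QG H.hx q hq c hc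

omit [Finite G] in
theorem conj_ne {q c : G} (hq : q ∈ QG D x) (hc : c ∈ Dx D x) : q * c * q⁻¹ ≠ x :=
  (H.tt.conj_mem_Dx_of_commute (H.cx hq) hc).2.1

theorem pi_line_inj {e a a' : G} (he : e ∈ Dx D x) (ha : a ∈ PL D x e) (hax : a ≠ x)
    (ha' : a' ∈ PL D x e) (hax' : a' ≠ x) (h : π (e * a) = π (e * a')) : a = a' := by
  rcases (H.pi_eq_iff (mul_mem_QG he ha hax) (mul_mem_QG he ha' hax')).mp h with h | h
  · exact mul_left_cancel h
  · rw [← mul_assoc, he.2.2.eq, mul_assoc] at h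
    refine absurd ?_ (H.fis.prod_three_ne_one H.hx he (left_mem_PL H.hx e) ha' ha)
    rw [← mul_left_cancel h, H.tt.sq a ha.1]

theorem pi_line_eq_zero {e a : G} (he : e ∈ Dx D x) (ha : a ∈ PL D x e) (hax : a ≠ x) :
    π (e * a) = 0 ↔ a = e := by
  constructor
  · intro h
    refine H.pi_line_inj he ha hax (right_mem_PL x he.1) he.2.1 ?_
    rw [h, H.tt.sq e he.1, H.pi_one]
  · rintro rfl
    rw [H.tt.sq a he.1, H.pi_one]

theorem exists_line {e : G} (he : e ∈ Dx D x) (v : V) :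
    ∃ a ∈ PL D x e, a ≠ x ∧ H.A e v = π (e * a) := by
  obtain ⟨q, hq, rfl⟩ := H.surj v
  exact ⟨_, H.conj_PL hq he, H.conj_ne hq he, H.A_pi' he hq⟩

theorem exists_conj_eq {e a : G} (he : e ∈ Dx D x ∩ Dx D y) (ha : a ∈ PL D x e) (hax : a ≠ x) :
    ∃ q ∈ QG D x, q * e * q⁻¹ = a := by
  obtain ⟨z, hz, hza, hzx⟩ := H.fis.exists_commute_not_commute ha.1 H.hx hax
  obtain ⟨q, hq, rfl⟩ := H.pol.QG_trans H.hx H.hy hz H.hxy fun t => hzx t.symm
  exact ⟨q, hq, H.fis.eq_of_commute_PL H.hx he.1 (H.conj_PL hq he.1) ha hz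
    ((conj_commute_iff q).mpr he.2.2.2) hza (left_mem_PL H.hx e) hzx⟩

theorem exists_A_eq {e a : G} (he : e ∈ Dx D x ∩ Dx D y) (ha : a ∈ PL D x e) (hax : a ≠ x) :
    ∃ v, H.A e v = π (e * a) := by
  obtain ⟨q, hq, rfl⟩ := H.exists_conj_eq he ha hax
  exact ⟨π q, H.A_pi' he.1 hq⟩

theorem A_eq_zero_iff {e q : G} (he : e ∈ Dx D x) (hq : q ∈ QG D x) :
    H.A e (π q) = 0 ↔ q * e * q⁻¹ = e := by
  rw [H.A_pi' he hq, H.pi_line_eq_zero he (H.conj_PL hq he) (H.conj_ne hq he)]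

theorem exists_E {c : G} (hc : c ∈ Dx D x) : ∃ e ∈ Dx D x ∩ Dx D y, e ∈ PL D x c ∧ c ∈ PL D x e := by
  obtain ⟨e, he, hye⟩ := H.pol.exists_commute H.hx hc H.hy
  have hex : e ≠ x := fun t => H.hxy (t ▸ hye.symm)
  have d := mem_Dx_of_mem_PL H.hx hc he hex
  refine ⟨e, ⟨d, he.1, fun t => H.hxy (t ▸ d.2.2), hye⟩, he, ?_⟩
  rw [H.fis.PL_eq_left H.hx hc he hex]
  exact right_mem_PL x hc.1

theorem eq_of_commute_E {p : G} (hp : p ∈ D) (hpx : Commute p x)
    (h : ∀ e ∈ Dx D x ∩ Dx D y, Commute p e) : x = p := by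
  refine H.fis.tau_le H.hx hp fun c hc hxc => ?_
  by_cases hcx : c = x
  · rw [hcx]; exact hpx
  · obtain ⟨e, he, -, h2⟩ := H.exists_E ⟨hc, hcx, hxc⟩
    exact h2.2 p hp hpx (h e he)

theorem exists_commute_not_commute_E {e f : G} (he : e ∈ Dx D x ∩ Dx D y)
    (hf : f ∈ Dx D x ∩ Dx D y) (hne : e ≠ f) :
    ∃ m ∈ Dx D x ∩ Dx D y, Commute m e ∧ ¬ Commute m f := by
  by_contra hn
  push Not at hn
  refine hne (H.fis.eq_of_commute_PL H.hx he.1 (right_mem_PL x he.1.1)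
    ⟨hf.1.1, fun c hc h1 h2 => ?_⟩ H.hy he.2.2.2 hf.2.2.2 (left_mem_PL H.hx e)
    fun t => H.hxy t.symm)
  by_cases hcx : c = x
  · rw [hcx]; exact hf.1.2.2
  · obtain ⟨m, hm, m1, m2⟩ := H.exists_E ⟨hc, hcx, h1.symm⟩
    have := hn m hm (m1.2 e he.1.1 he.1.2.2.symm h2.symm).symm
    exact (m2.2 f hf.1.1 hf.1.2.2.symm this.symm).symm

omit [Finite G] in
theorem PL_subset_E {e f p : G} (he : e ∈ Dx D x ∩ Dx D y) (hf : f ∈ Dx D x ∩ Dx D y)
    (hp : p ∈ PL D e f) : p ∈ Dx D x ∩ Dx D y := by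
  have h1 := hp.2 x H.hx he.1.2.2 hf.1.2.2
  have h2 := hp.2 y H.hy he.2.2.2 hf.2.2.2
  exact ⟨⟨hp.1, fun t => H.hxy (t ▸ h2.symm), h1⟩, hp.1, fun t => H.hxy (t ▸ h1), h2⟩

theorem common {e f : G} (he : e ∈ Dx D x ∩ Dx D y) (hf : f ∈ Dx D x ∩ Dx D y) :
    ∃ m ∈ Dx D x ∩ Dx D y, ¬ Commute m e ∧ ¬ Commute m f := by
  have hT := H.tt
  by_cases hne : e = f
  · subst hne
    by_contra hn
    push Not at hn
    refine he.1.2.1 (H.eq_of_commute_E he.1.1 he.1.2.2.symm fun m hm => ?_).symm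
    by_contra t
    exact t (hn m hm fun c => t c.symm).symm
  obtain ⟨m, hm, m1, m2⟩ := H.exists_commute_not_commute_E he hf hne
  obtain ⟨n, hn, n1, n2⟩ := H.exists_commute_not_commute_E hf he (Ne.symm hne)
  by_cases h : Commute m n
  · have d : n ∈ Dx D m := ⟨hn.1.1, fun t => n2 (t ▸ m1), h⟩
    obtain ⟨p, hp, p1, p2⟩ := H.pol.thick m hm.1.1 n d
    exact ⟨p, H.PL_subset_E hm hn hp, fun t => p1 (H.fis.eq_of_commute_PL hm.1.1 d hp
      (left_mem_PL hm.1.1 n) he.1.1 t.symm m1.symm (right_mem_PL m hn.1.1) fun c => n2 c.symm),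
      fun t => p2 (H.fis.eq_of_commute_PL hm.1.1 d hp (right_mem_PL m hn.1.1) hf.1.1 t.symm
        n1.symm (left_mem_PL hm.1.1 n) fun c => m2 c.symm)⟩
  · exact ⟨cj m n, ⟨hT.cj_mem_Dx hm.1 hn.1, hT.cj_mem_Dx hm.2 hn.2⟩,
      fun t => n2 (hT.commute_of_cj hm.1.1 hn.1.1 h m1.symm t.symm).symm,
      fun t => m2 ((commute_cj_iff (hT.sq n hn.1.1) n1.symm).mp t.symm).symm⟩

theorem A_comm {t e : G} (ht : t ∈ Dx D x) (he : e ∈ Dx D x) (h : Commute t e) (v : V) :
    H.A t (H.A e v) = 0 := by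
  obtain ⟨a, ha, hax, e1⟩ := H.exists_line he v
  rw [e1, H.A_pi ht.2.2.symm (mul_mem_QG he ha hax),
    conj_eq_of_commute (h.mul_right (ha.2 t ht.1 ht.2.2.symm h)), H.two]

theorem A_cj {t e : G} (ht : t ∈ Dx D x) (he : e ∈ Dx D x) (v : V) :
    H.A (cj e t) v = H.A e (v + H.A t v) + H.A t (H.A e (v + H.A t v)) := by
  obtain ⟨q, hq, rfl⟩ := H.surj v
  have hT := H.tt
  have m1 := hT.conj_mem_QG H.hx ht.2.2.symm q hq
  have m2 := hT.conj_mem_QG H.hx he.2.2.symm _ m1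
  have e1 : cj e t * q * (cj e t)⁻¹ = t * (e * (t * q * t⁻¹) * e⁻¹) * t⁻¹ := by rw [cj]; group
  rw [H.A_pi (hT.cj_mem_Dx he ht).2.2.symm hq, e1, H.pi_conj ht.2.2.symm m2,
    H.pi_conj he.2.2.symm m1, H.pi_conj ht.2.2.symm hq, map_add (H.A t), map_add (H.A t),
    H.A_comm ht ht (Commute.refl t)]
  linear_combination (norm := abel) H.two (π q) + H.two (H.A t (π q))

theorem range_inter {t e : G} (ht : t ∈ Dx D x) (he : e ∈ Dx D x) (h : ¬ Commute t e) {u v : V}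
    (huv : H.A t u = H.A e v) : H.A t u = 0 := by
  obtain ⟨a, ha, hax, e1⟩ := H.exists_line ht u
  obtain ⟨a', ha', hax', e2⟩ := H.exists_line he v
  have hT := H.tt
  rw [e1, H.pi_line_eq_zero ht ha hax]
  rw [e1, e2] at huv
  have c1 : Commute e (e * a') := (Commute.refl e).mul_right
    (commute_of_mem_PL H.hx he (right_mem_PL x he.1) ha')
  have c2 : Commute e (t * a) := by
    rcases (H.pi_eq_iff (mul_mem_QG ht ha hax) (mul_mem_QG he ha' hax')).mp huv with h | h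
    · rwa [h]
    · rw [h]; exact he.2.2.symm.mul_right c1
  have e3 : cj (cj e a) t = e := by
    rw [cj_cj_eq_conj e (hT.sq a ha.1) (hT.sq t ht.1)]; exact conj_eq_of_commute c2.symm
  refine (hT.cj_cancel he.1 ht.1 ha.1 (fun c => h c.symm) ?_).symm
  rw [← cj_cj (a := cj e a) (hT.sq t ht.1), e3]

theorem A_braid {t e : G} (ht : t ∈ Dx D x) (he : e ∈ Dx D x) (h : ¬ Commute t e) (v : V) :
    H.A t (H.A e (H.A t v)) = H.A t v := by
  have h1 := H.A_cj ht he v
  have h2 := H.A_cj he ht v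
  rw [H.tt.braid ht.1 he.1 h, h1] at h2
  simp only [map_add] at h2
  have h3 : H.A t (H.A e (H.A t v) + v) = H.A e (H.A t (H.A e v) + v) := by
    rw [map_add, map_add]
    linear_combination (norm := abel) h2 + H.two (H.A t v) - H.two (H.A e v)
  have := H.range_inter ht he h h3
  rw [map_add] at this
  linear_combination (norm := abel) this - H.two (H.A t v)

theorem b_zero {e : G} (he : e ∈ Dx D x) (u v : V) :
    H.b (H.A e u) v = 0 ↔ H.A e u = 0 ∨ H.A e v = 0 ∨ H.A e u = H.A e v := by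
  obtain ⟨a, ha, hax, e1⟩ := H.exists_line he u
  obtain ⟨q, hq, rfl⟩ := H.surj v
  have hT := H.tt
  have m := mul_mem_QG he ha hax
  have me := right_mem_PL x he.1
  have da := mem_Dx_of_mem_PL H.hx he ha hax
  have p1 := H.conj_PL hq he
  have p2 : q * a * q⁻¹ ∈ PL D x e := by
    rw [← H.fis.PL_eq_left H.hx he ha hax]; exact H.conj_PL hq da
  have n1 := H.conj_ne hq he
  have n2 := H.conj_ne hq da
  have key : Commute (e * a) q ↔ (q * e * q⁻¹) * (q * a * q⁻¹) = e * a := by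
    constructor
    · intro h
      calc (q * e * q⁻¹) * (q * a * q⁻¹) = q * (e * a) * q⁻¹ := by group
        _ = e * a := conj_eq_of_commute h.symm
    · intro h
      calc e * a * q = (q * e * q⁻¹) * (q * a * q⁻¹) * q := by rw [h]
        _ = q * (e * a) := by group
  have fix : π ((q * e * q⁻¹) * (q * a * q⁻¹)) = π (e * a) := by
    have : (q * e * q⁻¹) * (q * a * q⁻¹) = q * (e * a) * q⁻¹ := by group
    rw [this, H.map_mul _ (Subgroup.mul_mem _ hq m) _ (Subgroup.inv_mem _ hq), H.map_mul _ hq _ m,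
      H.pi_inv hq]
    linear_combination (norm := abel) H.two (π q)
  rw [e1, H.b_pi m hq, key, H.pi_line_eq_zero he ha hax, H.A_eq_zero_iff he hq, H.A_pi' he hq]
  constructor
  · intro h
    by_contra hn
    push Not at hn
    by_cases h3 : e = q * a * q⁻¹
    · rw [← h3, (commute_of_mem_PL H.hx he p1 me).eq] at h
      exact hn.2.2 (by rw [mul_left_cancel h])
    · exact H.fis.prod_four_ne_one H.hx he me ha p1 p2 hn.1.symm hn.2.1.symm h3 h.symm
  · rintro (h | h | h)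
    · rw [h]
      calc (q * e * q⁻¹) * (q * e * q⁻¹) = q * (e * e) * q⁻¹ := by group
        _ = e * e := by rw [hT.sq e he.1]; group
    · rw [h] at fix ⊢
      rw [H.pi_line_inj he p2 n2 ha hax fix]
    · have h' := H.pi_line_inj he ha hax p1 n1 h
      rw [← h'] at fix ⊢
      rw [(commute_of_mem_PL H.hx he me ha).eq] at fix ⊢
      rw [H.pi_line_inj da (H.conj_PL hq da) n2
        (by rw [H.fis.PL_eq_left H.hx he ha hax]; exact me) he.2.1 fix]

theorem span (P : V → Prop) (h0 : P 0)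
    (h1 : ∀ e ∈ Dx D x ∩ Dx D y, ∀ u v, P v → P (H.A e u + v)) (v : V) : P v := by
  obtain ⟨q, hq, rfl⟩ := H.surj v
  revert q
  refine H.tt.QG_induction H.hx (by rwa [H.pi_one]) (fun q hq h => by rwa [H.pi_x_mul hq])
    fun s hs t ht hne q hq h => ?_
  obtain ⟨e, he, m1, m2⟩ := H.exists_E hs
  have ht' : t ∈ PL D x e := by rwa [H.fis.PL_eq_left H.hx hs m1 he.1.2.1]
  obtain ⟨u, hu⟩ := H.exists_A_eq he m2 hs.2.1
  obtain ⟨u', hu'⟩ := H.exists_A_eq he ht' hne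
  have e1 : s * t = (e * s) * (e * t) := by
    rw [(commute_of_mem_PL H.hx hs m1 (right_mem_PL x hs.1)).eq, mul_assoc, ← mul_assoc e e,
      H.tt.sq e he.1.1, one_mul]
  rw [H.map_mul _ (mul_mem_QG hs ht hne) q hq, e1,
    H.map_mul _ (mul_mem_QG he.1 m2 hs.2.1) _ (mul_mem_QG he.1 ht' hne), ← hu, ← hu', ← map_add]
  exact h1 e he _ _ h

theorem thick {e : G} (he : e ∈ Dx D x ∩ Dx D y) :
    ∃ u u', H.A e u ≠ 0 ∧ H.A e u' ≠ 0 ∧ H.A e u ≠ H.A e u' := by
  obtain ⟨c, hc, d, hd, h1, h2, h3, h4, h5⟩ := H.four x H.hx e he.1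
  obtain ⟨u, hu⟩ := H.exists_A_eq he hc h1
  obtain ⟨u', hu'⟩ := H.exists_A_eq he hd h3
  refine ⟨u, u', ?_, ?_, ?_⟩
  · rw [hu, Ne, H.pi_line_eq_zero he.1 hc h1]; exact h2
  · rw [hu', Ne, H.pi_line_eq_zero he.1 hd h3]; exact h4
  · rw [hu, hu']; exact fun t => h5 (H.pi_line_inj he.1 hc h1 hd h3 t)

omit [Finite G] in
theorem not_commute_conj {q : G} (hq : q ∈ QG D x) : ¬ Commute x (q * y * q⁻¹) := fun t =>
  H.hxy ((conj_commute_iff q).mp (by rwa [conj_eq_of_commute (H.cx hq)]))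

theorem eq_one_of_rad {q : G} (hq : q ∈ QG D x) (h : ∀ e ∈ Dx D x ∩ Dx D y, q * e * q⁻¹ = e)
    (hc : Commute y (q * y * q⁻¹)) : q = 1 := by
  refine H.pol.eq_one_of_mem_QG H.hZ H.hx H.hy H.hxy hq ?_
  by_contra hne
  have d : q * y * q⁻¹ ∈ Dx D y := ⟨H.tt.conj q y H.hy, hne, hc⟩
  obtain ⟨p, hp, hxp⟩ := H.pol.exists_commute H.hy d H.hx
  have := H.eq_of_commute_E hp.1 hxp.symm fun e he => (hp.2 e he.1.1 he.2.2.2.symm (by
    rw [← h e he, conj_commute_iff]; exact he.2.2.2.symm)).symm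
  exact H.hxy (this ▸ (commute_left_of_mem_PL H.hy d hp).symm)

theorem nondeg (v : V) (hv : ∀ e ∈ Dx D x ∩ Dx D y, H.A e v = 0) : v = 0 := by
  have hT := H.tt
  have sy := hT.sq y H.hy
  -- lifts of non-zero elements of the radical
  have k1 : ∀ q ∈ QG D x, (∀ e ∈ Dx D x ∩ Dx D y, H.A e (π q) = 0) → π q ≠ 0 →
      ¬ Commute y (q * y * q⁻¹) ∧ ¬ Commute x (cj (q * y * q⁻¹) y) := by
    intro q hq h h0
    refine ⟨fun t => h0 ?_, fun t => h0 ?_⟩
    · rw [H.eq_one_of_rad hq (fun e he => (H.A_eq_zero_iff he.1 hq).mp (h e he)) t, H.pi_one]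
    · have m := Subgroup.mul_mem _ (self_mem_QG D x) hq
      rw [← H.pi_x_mul hq, H.eq_one_of_rad m (fun e he => (H.A_eq_zero_iff he.1 m).mp
        (by rw [H.pi_x_mul hq]; exact h e he)) ?_, H.pi_one]
      rw [← commute_cj_swap sy, hT.braid H.hx H.hy H.hxy, commute_cj_swap H.sx,
        cj_eq_conj H.sx] at t
      convert t using 1; group
  have k2 : ∀ q ∈ QG D x, (∀ e ∈ Dx D x ∩ Dx D y, H.A e (π q) = 0) → π q ≠ 0 → q * q = x := by
    intro q hq h h0
    obtain ⟨c1, c2⟩ := k1 q hq h h0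
    refine ((H.ker _ (Subgroup.mul_mem _ hq hq)).mp (by rw [H.map_mul q hq q hq, H.two])).resolve_left
      fun t => h0 ?_
    have mu := hT.conj q y H.hy
    have e : q * (q * y * q⁻¹) * q⁻¹ = y := by
      calc q * (q * y * q⁻¹) * q⁻¹ = (q * q) * y * (q * q)⁻¹ := by group
        _ = y := by rw [t]; group
    rw [H.pol.eq_one_of_mem_QG H.hZ H.hx (hT.cj_mem mu H.hy) c2 hq
      (by rw [conj_cj, e, hT.braid H.hy mu c1]), H.pi_one]
  obtain ⟨q, hq, rfl⟩ := H.surj v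
  by_contra h0
  obtain ⟨c1, c2⟩ := k1 q hq hv h0
  have mu := hT.conj q y H.hy
  obtain ⟨p, hp, ep⟩ := H.pol.QG_trans H.hx H.hy (hT.cj_mem mu H.hy) H.hxy c2
  have hp' : ∀ e ∈ Dx D x ∩ Dx D y, H.A e (π p) = 0 := fun e he => by
    rw [H.A_eq_zero_iff he.1 hp]
    refine H.fis.eq_of_commute_PL H.hx he.1 (H.conj_PL hp he.1) (right_mem_PL x he.1.1)
      (hT.cj_mem mu H.hy) ?_ (commute_cj ?_ he.2.2.2.symm).symm (left_mem_PL H.hx e)
      fun t => c2 t.symm
    · rw [← ep, conj_commute_iff]; exact he.2.2.2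
    · rw [← (H.A_eq_zero_iff he.1 hq).mp (hv e he), conj_commute_iff]; exact he.2.2.2.symm
  have n1 : π p ≠ 0 := fun t => by
    rcases (H.ker p hp).mp t with rfl | rfl
    · rw [one_mul, inv_one, mul_one] at ep
      have := cj_cj (a := q * y * q⁻¹) sy
      rw [← ep, cj_self sy] at this
      exact c1 (this ▸ Commute.refl y)
    · rw [← cj_eq_conj H.sx, ← hT.braid H.hx H.hy H.hxy] at ep
      exact H.not_commute_conj hq (cj_inj ep ▸ Commute.refl p)
  have n2 : π (q * p) ≠ 0 := fun t => by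
    rw [H.map_mul q hq p hp, ← add_right_cancel_iff (a := π q), zero_add, add_right_comm, H.two,
      zero_add] at t
    rcases (H.pi_eq_iff hp hq).mp t with rfl | rfl
    · exact hT.cj_ne H.hy (fun t => c1 t.symm) ep.symm
    · have e : x * q * y * (x * q)⁻¹ = cj (q * y * q⁻¹) x := by rw [cj_eq_conj H.sx]; group
      rw [e] at ep
      exact H.hxy (hT.cj_cancel mu H.hx H.hy (fun t => H.not_commute_conj hq t.symm) ep ▸
        Commute.refl _)
  have c3 : Commute p q := by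
    rw [← H.b_pi hp hq]
    refine H.span (fun w => H.b w (π q) = 0) ?_ (fun e he u w h => ?_) _
    · rw [← H.pi_one, H.b_pi (Subgroup.one_mem _) hq]; exact Commute.one_left q
    · rw [H.b_add, h, add_zero, H.b_zero he.1]; exact Or.inr (Or.inl (hv e he))
  have s3 := k2 _ (Subgroup.mul_mem _ hq hp) (fun e he => by
    rw [H.map_mul q hq p hp, map_add, hv e he, hp' e he, add_zero]) n2
  rw [← pow_two, c3.symm.mul_pow, pow_two, pow_two, k2 q hq hv h0, k2 p hp hp' n1, H.sx] at s3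
  exact H.fis.ne_one H.hx s3.symm

theorem tl : TL D (Dx D x ∩ Dx D y) H.A H.b where
  tt := H.tt
  sub := fun _ h => h.1.1
  cj_mem := fun _ he _ ht => ⟨H.tt.cj_mem_Dx he.1 ht.1, H.tt.cj_mem_Dx he.2 ht.2⟩
  common := fun _ he _ hf _ => H.common he hf
  two := H.two
  A_comm := fun _ ht _ he => H.A_comm ht.1 he.1
  A_braid := fun _ ht _ he => H.A_braid ht.1 he.1
  A_cj := fun _ ht _ he => H.A_cj ht.1 he.1
  b_add := H.b_add
  b_symm := H.b_symm
  b_zero := fun _ he => H.b_zero he.1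
  span := H.span
  nondeg := H.nondeg
  thick := fun _ he => H.thick he

end HS

end CL.Fischer
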