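import Cfsg.Agent.Base
import Cfsg.Agent.Fischer.Orient

/-!
# The field with four elements; the Hermitian form attached to a complex structure
-/

set_option autoImplicit false

namespace CL.Fischer

/-- The field with four elements: `re + im * ω`. -/
@[ext] structure K4 : Type where
  re : ZMod 2
  im : ZMod 2
  deriving DecidableEq

namespace K4

instance instFintypeK4 : Fintype K4 :=
  ⟨{⟨0, 0⟩, ⟨1, 0⟩, ⟨0, 1⟩, ⟨1, 1⟩}, by rintro ⟨a, b⟩; revert a b; decide⟩

instance instAddK4 : Add K4 := ⟨fun a b => ⟨a.re + b.re, a.im + b.im⟩⟩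
instance instMulK4 : Mul K4 :=
  ⟨fun a b => ⟨a.re * b.re + a.im * b.im, a.re * b.im + a.im * b.re + a.im * b.im⟩⟩
instance instNegK4 : Neg K4 := ⟨fun a => a⟩
instance instInvK4 : Inv K4 := ⟨fun a => ⟨a.re + a.im, a.im⟩⟩
instance instZeroK4 : Zero K4 := ⟨⟨0, 0⟩⟩
instance instOneK4 : One K4 := ⟨⟨1, 0⟩⟩

instance instFieldK4 : Field K4 :=
  Field.ofMinimalAxioms K4 (by decide) (by decide) (by decide) (by decide) (by decide) (by decide)
    (by decide) (by decide) (by decide) ⟨0, 1, by decide⟩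

theorem card : Fintype.card K4 = 4 := by decide

@[simp] theorem add_re (a b : K4) : (a + b).re = a.re + b.re := rfl
@[simp] theorem add_im (a b : K4) : (a + b).im = a.im + b.im := rfl
theorem zero_def : (0 : K4) = ⟨0, 0⟩ := rfl
theorem one_def : (1 : K4) = ⟨1, 0⟩ := rfl
theorem add_self : ∀ a : K4, a + a = 0 := by decide
theorem cases : ∀ a : K4, a = 0 ∨ a = 1 ∨ a = ⟨0, 1⟩ ∨ a = ⟨1, 1⟩ := by decide
theorem sq_sq : ∀ a : K4, (a ^ 2) ^ 2 = a := by decide
theorem sq_add : ∀ a b : K4, (a + b) ^ 2 = a ^ 2 + b ^ 2 := by decide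
theorem of_im_eq_zero : ∀ a : K4, a.im = 0 → a = 0 ∨ a = 1 := by decide
theorem add_sq_eq_zero : ∀ a : K4, a + a ^ 2 = 0 → a = 0 ∨ a = 1 := by decide
theorem add_eq_zero : ∀ a b : K4, a + b = 0 ↔ a = b := by decide
theorem sq_or : ∀ a : K4, (a.im = 0 ∧ a = a ^ 2) ∨ (a.im ≠ 0 ∧ a = a ^ 2 + 1) := by decide
theorem three : ∀ a b c : K4, a.im ≠ 0 → b.im ≠ 0 → c.im ≠ 0 →
    a = c ∨ b = c ^ 2 ∨ a ^ 2 = b := by decide
theorem split : ∀ a : K4, a.im ≠ 0 → a ^ 2 * a = 1 ∧ a + a ^ 2 = 1 := by decide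
theorem trace_eq : ∀ a b : K4, a + a ^ 2 = b + b ^ 2 → a = b ∨ a = b + 1 := by decide

end K4

variable {V : Type*} [AddCommGroup V]

/-- Scalar multiplication defined by a complex structure `z`. -/
def smZ (z : V →+ V) (c : K4) (v : V) : V := c.re.val • v + c.im.val • z v

/-- The Hermitian form defined by `b` and `z`. -/
def hZ (b : V → V → ZMod 2) (z : V →+ V) (v w : V) : K4 := ⟨b v w + b (z v) w, b v w⟩

theorem smZ_zero (z : V →+ V) (v : V) : smZ z 0 v = 0 := by simp [smZ, K4.zero_def]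
theorem smZ_one (z : V →+ V) (v : V) : smZ z 1 v = v := by simp [smZ, K4.one_def, ZMod.val_one]
theorem smZ_w (z : V →+ V) (v : V) : smZ z ⟨0, 1⟩ v = z v := by simp [smZ, ZMod.val_one]
theorem smZ_w2 (z : V →+ V) (v : V) : smZ z ⟨1, 1⟩ v = v + z v := by simp [smZ, ZMod.val_one]

/-- A complex structure compatible with an alternating form. -/
structure CX (b : V → V → ZMod 2) (z : V →+ V) : Prop where
  two : ∀ v : V, v + v = 0
  b_add : ∀ u v w, b (u + v) w = b u w + b v w
  b_symm : ∀ u v, b u v = b v u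
  b_self : ∀ v, b v v = 0
  zz : ∀ v, z (z v) = z v + v
  b_z : ∀ v w, b (z v) (z w) = b v w

namespace CX

variable {b : V → V → ZMod 2} {z : V →+ V} (C : CX b z)
include C

theorem add_smZ (c d : K4) (v : V) : smZ z (c + d) v = smZ z c v + smZ z d v := by
  have sm : ∀ (c c' : ZMod 2) (w : V), (c + c').val • w = c.val • w + c'.val • w := by
    intro c c' w
    fin_cases c <;> fin_cases c'
    · exact (add_smul 0 0 w)
    · exact (add_smul 0 1 w)
    · exact (add_smul 1 0 w)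
    · show (0 : ℕ) • w = (1 : ℕ) • w + (1 : ℕ) • w
      rw [zero_smul, C.two]
  simp only [smZ, K4.add_re, K4.add_im, sm]
  abel

omit C in
theorem smZ_add (c : K4) (u v : V) : smZ z c (u + v) = smZ z c u + smZ z c v := by
  simp only [smZ, map_add, smul_add]
  abel

theorem z_smZ (c : K4) (v : V) : z (smZ z c v) = smZ z (⟨0, 1⟩ * c) v := by
  rcases K4.cases c with rfl | rfl | rfl | rfl
  · rw [mul_zero, smZ_zero, map_zero]
  · rw [mul_one, smZ_one, smZ_w]
  · rw [show (⟨0, 1⟩ * ⟨0, 1⟩ : K4) = ⟨1, 1⟩ by decide, smZ_w, smZ_w2, C.zz, add_comm]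
  · rw [show (⟨0, 1⟩ * ⟨1, 1⟩ : K4) = 1 by decide, smZ_w2, smZ_one, map_add, C.zz, ← add_assoc,
      C.two, zero_add]

theorem mul_smZ (c d : K4) (v : V) : smZ z (c * d) v = smZ z c (smZ z d v) := by
  rcases K4.cases c with rfl | rfl | rfl | rfl
  · rw [zero_mul, smZ_zero, smZ_zero]
  · rw [one_mul, smZ_one]
  · rw [smZ_w, C.z_smZ]
  · rw [smZ_w2, C.z_smZ, ← C.add_smZ, show (⟨1, 1⟩ : K4) = 1 + ⟨0, 1⟩ by decide, add_mul, one_mul]

/-- The vector space structure over the field with four elements. -/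
@[reducible] def module : Module K4 V where
  smul := smZ z
  one_smul := smZ_one z
  mul_smul := C.mul_smZ
  smul_zero := fun c => by
    show smZ z c 0 = 0
    simp [smZ]
  smul_add := smZ_add
  add_smul := C.add_smZ
  zero_smul := smZ_zero z

theorem b_add' (u v w : V) : b u (v + w) = b u v + b u w := by
  rw [C.b_symm, C.b_add, C.b_symm v, C.b_symm w]

theorem b_zero (v : V) : b 0 v = 0 := by
  have := C.b_add 0 0 v
  rw [add_zero] at this
  exact left_eq_add.mp this

theorem h_add (u v w : V) : hZ b z (u + v) w = hZ b z u w + hZ b z v w := by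
  ext
  · simp only [hZ, map_add, C.b_add, K4.add_re]; ring
  · simp only [hZ, C.b_add, K4.add_im]

theorem h_zero (v : V) : hZ b z 0 v = 0 := by
  simp only [hZ, map_zero, C.b_zero, add_zero]; rfl

theorem h_symm (u v : V) : hZ b z v u = hZ b z u v ^ 2 := by
  have e : b (z v) u = b u v + b (z u) v := by
    rw [← C.b_z, C.zz, C.b_add, C.b_z, C.b_symm v, C.b_symm v]
  simp only [hZ, e, C.b_symm v u]
  generalize b u v = p
  generalize b (z u) v = q
  revert p q; decide

theorem h_add' (u v w : V) : hZ b z u (v + w) = hZ b z u v + hZ b z u w := by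
  rw [C.h_symm, C.h_add, K4.sq_add, ← C.h_symm, ← C.h_symm]

theorem h_zero' (v : V) : hZ b z v 0 = 0 := by
  rw [C.h_symm, C.h_zero]; decide

theorem h_z (u v : V) : hZ b z (z u) v = ⟨0, 1⟩ * hZ b z u v := by
  simp only [hZ, C.zz, C.b_add]
  generalize b u v = p
  generalize b (z u) v = q
  revert p q; decide

theorem h_smZ (c : K4) (u v : V) : hZ b z (smZ z c u) v = c * hZ b z u v := by
  rcases K4.cases c with rfl | rfl | rfl | rfl
  · rw [zero_mul, smZ_zero, C.h_zero]
  · rw [one_mul, smZ_one]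
  · rw [smZ_w, C.h_z]
  · rw [smZ_w2, C.h_add, C.h_z, show (⟨1, 1⟩ : K4) = 1 + ⟨0, 1⟩ by decide, add_mul, one_mul]

theorem h_smZ' (c : K4) (u v : V) : hZ b z u (smZ z c v) = c ^ 2 * hZ b z u v := by
  rw [C.h_symm, C.h_smZ, mul_pow, ← C.h_symm]

theorem z_ne_zero {v : V} (h : v ≠ 0) : z v ≠ 0 := fun t => h (by
  have := C.zz v
  rwa [t, map_zero, zero_add, eq_comm] at this)

theorem z_ne {v : V} (h : v ≠ 0) : z v ≠ v := fun t => h (by
  have := C.zz v
  rwa [t, t, C.two] at this)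

omit C in
theorem h_eq_zero_iff (u v : V) : hZ b z u v = 0 ↔ b u v = 0 ∧ b (z u) v = 0 := by
  simp only [hZ]
  generalize b u v = p
  generalize b (z u) v = q
  revert p q; decide

omit C in
theorem h_eq_one_iff (u v : V) : hZ b z u v = 1 ↔ b u v = 0 ∧ b (z u) v ≠ 0 := by
  simp only [hZ]
  generalize b u v = p
  generalize b (z u) v = q
  revert p q; decide

end CX

end CL.Fischer
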