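import Cfsg.Agent.Base
import Cfsg.Agent.Fischer.HeisMod
import Cfsg.Agent.Fischer.K4

/-!
# Hermitian coordinates for the polar space with lines of size five
-/

set_option autoImplicit false
set_option linter.unusedSectionVars false

namespace CL.Fischer

open CL.Kei

variable {G : Type*} [Group G] {V : Type*} [AddCommGroup V]

/-- Elements of `Q` moving `y` to a point commuting with `y`. -/
def IsE (D : Set G) (x y q : G) : Prop := q ∈ QG D x ∧ Commute y (q * y * q⁻¹)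

/-- Elements of `Q` attached to the line through `x` and `e`. -/
def InU (D : Set G) (x e q : G) : Prop := q = 1 ∨ ∃ a ∈ PL D x e, a ≠ x ∧ a ≠ e ∧ q = x * (e * a)

namespace HS

variable {D : Set G} {x y : G} {π : G → V} (H : HS D x y π)
include H

omit H in
theorem inU_mem {e q : G} (he : e ∈ Dx D x) (h : InU D x e q) : q ∈ QG D x := by
  rcases h with rfl | ⟨a, ha, hax, -, rfl⟩
  · exact Subgroup.one_mem _
  · exact Subgroup.mul_mem _ (self_mem_QG D x) (mul_mem_QG he ha hax)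

theorem inU_sq {e q : G} (he : e ∈ Dx D x) (h : InU D x e q) : q * q = 1 := by
  rcases h with rfl | ⟨a, ha, hax, -, rfl⟩
  · exact one_mul 1
  · rw [← pow_two, (H.cx (mul_mem_QG he ha hax)).symm.mul_pow, pow_two, pow_two, H.sx,
      H.tt.mul_sq he.1 ha.1 (commute_of_mem_PL H.hx he (right_mem_PL x he.1) ha), one_mul]

theorem isE_one : IsE D x y 1 := ⟨Subgroup.one_mem _, by simp⟩

theorem isE_conj {t q : G} (ht : t ∈ Dx D x ∩ Dx D y) (h : IsE D x y q) :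
    IsE D x y (t * q * t⁻¹) := by
  refine ⟨H.tt.conj_mem_QG H.hx ht.1.2.2.symm q h.1, ?_⟩
  have := (conj_commute_iff t).mpr h.2
  have e : t * q * t⁻¹ * y * (t * q * t⁻¹)⁻¹ = t * (q * (t⁻¹ * y * t⁻¹⁻¹) * q⁻¹) * t⁻¹ := by group
  rw [conj_eq_of_commute ht.2.2.2.symm] at this
  rwa [e, conj_eq_of_commute ht.2.2.2.symm.inv_left]

theorem isE_inj {q q' : G} (h : IsE D x y q) (h' : IsE D x y q') (e : π q = π q') : q = q' := by
  rcases (H.pi_eq_iff h.1 h'.1).mp e with e | e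
  · exact e
  · exfalso
    have hT := H.tt
    have mu := hT.conj q' y H.hy
    have h1 := h.2
    have e1 : q * y * q⁻¹ = cj (q' * y * q'⁻¹) x := by rw [e, cj_eq_conj H.sx]; group
    rw [e1] at h1
    exact H.hxy (hT.commute_of_cj mu H.hx (fun t => H.not_commute_conj h'.1 t.symm) h'.2 h1).symm

variable [Finite G]

theorem inU_pi {e q : G} (he : e ∈ Dx D x ∩ Dx D y) (h : InU D x e q) : ∃ u, π q = H.A e u := by
  rcases h with rfl | ⟨a, ha, hax, -, rfl⟩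
  · exact ⟨0, by rw [H.pi_one, map_zero]⟩
  · obtain ⟨u, hu⟩ := H.exists_A_eq he ha hax
    exact ⟨u, by rw [H.pi_x_mul (mul_mem_QG he.1 ha hax), hu]⟩

theorem exists_inU {e : G} (he : e ∈ Dx D x) (u : V) : ∃ q, InU D x e q ∧ π q = H.A e u := by
  obtain ⟨a, ha, hax, e1⟩ := H.exists_line he u
  by_cases h : a = e
  · exact ⟨1, Or.inl rfl, by rw [e1, (H.pi_line_eq_zero he ha hax).mpr h, H.pi_one]⟩
  · exact ⟨_, Or.inr ⟨a, ha, hax, h, rfl⟩, by rw [H.pi_x_mul (mul_mem_QG he ha hax), e1]⟩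

theorem conj_inU {e q y' : G} (he : e ∈ Dx D x) (h : InU D x e q) (hy' : y' ∈ D)
    (hxy' : ¬ Commute x y') (hye : Commute y' e) : q * y' * q⁻¹ ∈ PL D y' e := by
  rcases h with rfl | ⟨a, ha, hax, hae, rfl⟩
  · simpa using left_mem_PL hy' e
  · have hT := H.tt
    have hya : ¬ Commute y' a := fun t => hae (H.fis.eq_of_commute_PL H.hx he ha
      (right_mem_PL x he.1) hy' t hye (left_mem_PL H.hx e) fun c => hxy' c.symm)
    have m := hT.cj_mem_PL H.sx (H.fis.cj_mem_PL_cj H.hx hy' hxy' hye ha hya)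
    rw [cj_cj H.sx, cj_of_commute H.sx he.2.2.symm, cj_cj_eq_conj y' (hT.sq a ha.1) H.sx] at m
    have e1 : x * (e * a) * y' * (x * (e * a))⁻¹ = x * a * (e * y' * e⁻¹) * (x * a)⁻¹ := by
      rw [(commute_of_mem_PL H.hx he (right_mem_PL x he.1) ha).eq]; group
    rwa [e1, conj_eq_of_commute hye.symm]

theorem isE_mul_of_commute {e t q q' : G} (he : e ∈ Dx D x ∩ Dx D y) (ht : t ∈ Dx D x ∩ Dx D y)
    (het : Commute e t) (h : InU D x e q) (h' : InU D x t q') : IsE D x y (q * q') := by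
  have m := inU_mem he.1 h
  have m' := inU_mem ht.1 h'
  refine ⟨Subgroup.mul_mem _ m m', ?_⟩
  have p1 := H.conj_inU ht.1 h' H.hy H.hxy ht.2.2.2
  have p2 := H.conj_inU he.1 h p1.1 (H.not_commute_conj m')
    (p1.2 e he.1.1 he.2.2.2.symm het).symm
  have e1 : q * q' * y * (q * q')⁻¹ = q * (q' * y * q'⁻¹) * q⁻¹ := by group
  rw [e1]
  exact p2.2 y H.hy (p1.2 y H.hy (Commute.refl y) ht.2.2.2) he.2.2.2

theorem isE_of_inU {e q : G} (he : e ∈ Dx D x ∩ Dx D y) (h : InU D x e q) : IsE D x y q := by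
  simpa using H.isE_mul_of_commute he he (Commute.refl e) h (Or.inl rfl)

theorem E_nonempty : (Dx D x ∩ Dx D y).Nonempty := H.fis.inter_Dx_nonempty H.hx H.hy H.hxy

theorem inU_of_isE {q : G} (h : IsE D x y q) : ∃ e ∈ Dx D x ∩ Dx D y, InU D x e q := by
  have hT := H.tt
  by_cases h1 : q * y * q⁻¹ = y
  · obtain ⟨e, he⟩ := H.E_nonempty
    exact ⟨e, he, Or.inl (H.pol.eq_one_of_mem_QG H.hZ H.hx H.hy H.hxy h.1 h1)⟩
  have mu := hT.conj q y H.hy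
  have sy := hT.sq y H.hy
  have d : q * y * q⁻¹ ∈ Dx D y := ⟨mu, h1, h.2⟩
  have nx := H.not_commute_conj h.1
  obtain ⟨e, he, hxe⟩ := H.pol.exists_commute H.hy d H.hx
  have hye := commute_left_of_mem_PL H.hy d he
  have hey : e ≠ y := fun t => H.hxy (t ▸ hxe)
  have hE : e ∈ Dx D x ∩ Dx D y := ⟨⟨he.1, fun t => H.hxy (t ▸ hye.symm), hxe⟩, he.1, hey, hye⟩
  have m1 : q * y * q⁻¹ ∈ PL D y e := by
    rw [H.fis.PL_eq_left H.hy d he hey]; exact right_mem_PL y mu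
  have m2 := hT.cj_mem_PL sy (hT.cj_mem_PL H.sx m1)
  rw [cj_of_commute H.sx hxe.symm, cj_of_commute sy hye.symm,
    cj_cj_of_braid sy (hT.braid H.hy H.hx fun t => H.hxy t.symm)] at m2
  have n1 : ¬ Commute y (cj (q * y * q⁻¹) x) := fun t =>
    H.hxy (hT.commute_of_cj mu H.hx (fun c => nx c.symm) h.2 t).symm
  have n2 : ¬ Commute y (cj (cj (q * y * q⁻¹) x) y) := hT.not_commute_cj_right H.hy
    fun t => n1 t.symm
  have hax : cj (cj (q * y * q⁻¹) x) y ≠ x := fun t => h1 (by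
    have := cj_cj (a := cj (q * y * q⁻¹) x) sy
    rw [t, hT.braid H.hx H.hy H.hxy] at this
    exact (cj_inj this).symm)
  refine ⟨e, hE, Or.inr ⟨_, m2, hax, fun t => n2 (t ▸ hye), ?_⟩⟩
  refine H.pol.eq_of_conj_eq H.hZ H.hx H.hy H.hxy h.1
    (Subgroup.mul_mem _ (self_mem_QG D x) (mul_mem_QG hE.1 m2 hax)) ?_
  have mw := hT.cj_mem mu H.hx
  set a := cj (cj (q * y * q⁻¹) x) y with ha
  have e1 : x * (e * a) * y * (x * (e * a))⁻¹ = x * a * (e * y * e⁻¹) * (x * a)⁻¹ := by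
    rw [(commute_of_mem_PL H.hx hE.1 (right_mem_PL x he.1) m2).eq]; group
  rw [e1, conj_eq_of_commute hye.symm, ← cj_cj_eq_conj y (hT.sq a m2.1) H.sx, ha,
    ← hT.braid H.hy mw n1, cj_left_of_braid sy (hT.sq _ mw) (hT.braid H.hy mw n1), cj_cj H.sx]

theorem isE_sq {q : G} (h : IsE D x y q) : q * q = 1 := by
  obtain ⟨e, he, h'⟩ := H.inU_of_isE h
  exact H.inU_sq he.1 h'

end HS

/-- The set-up together with a complex structure. -/
structure HZ (D : Set G) (x y : G) (π : G → V) (z : V →+ V) : Prop extends HS D x y π where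
  cx : CX toHS.b z
  range : ∀ e ∈ Dx D x ∩ Dx D y, ∀ v, ∃ w, z (toHS.A e v) = toHS.A e w

theorem HS.exists_hz [Finite G] {D : Set G} {x y : G} {π : G → V} (H : HS D x y π) :
    ∃ z, HZ D x y π z := by
  obtain ⟨z, h1, h2, h3⟩ := H.tl.exists_complex H.E_nonempty
  refine ⟨z, H, ⟨H.two, H.b_add, H.b_symm, fun v => ?_, h1, h2⟩, h3⟩
  obtain ⟨q, hq, rfl⟩ := H.surj v
  exact (H.b_pi hq hq).mpr (Commute.refl q)

namespace HZ

variable [Finite G] {D : Set G} {x y : G} {π : G → V} {z : V →+ V} (H : HZ D x y π z)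
include H

/-- The Hermitian form on `Q / ⟨x⟩`. -/
noncomputable abbrev h (v w : V) : K4 := hZ H.toHS.b z v w

theorem h_U_zero {e : G} (he : e ∈ Dx D x ∩ Dx D y) (u v : V) :
    H.h (H.toHS.A e u) v = 0 ↔ H.toHS.A e u = 0 ∨ H.toHS.A e v = 0 := by
  obtain ⟨w, hw⟩ := H.range e he u
  rw [CX.h_eq_zero_iff, hw, H.toHS.b_zero he.1, H.toHS.b_zero he.1, ← hw]
  by_cases h0 : H.toHS.A e u = 0
  · simp [h0]
  · have h1 := H.cx.z_ne_zero h0
    have h2 := H.cx.z_ne h0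
    constructor
    · rintro ⟨t | t | t, t' | t' | t'⟩ <;> first | tauto | exact absurd (t'.trans t.symm) h2
    · tauto

theorem h_U_one {e : G} (he : e ∈ Dx D x ∩ Dx D y) {u : V} (h0 : H.toHS.A e u ≠ 0) (v : V) :
    H.h (H.toHS.A e u) v = 1 ↔ H.toHS.A e u = H.toHS.A e v := by
  obtain ⟨w, hw⟩ := H.range e he u
  rw [CX.h_eq_one_iff, hw, Ne, H.toHS.b_zero he.1, H.toHS.b_zero he.1, ← hw]
  have h1 := H.cx.z_ne_zero h0
  have h2 := H.cx.z_ne h0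
  constructor
  · tauto
  · intro t
    rw [← t]; tauto

theorem smZ_range {e : G} (he : e ∈ Dx D x ∩ Dx D y) (c : K4) (u : V) :
    ∃ w, smZ z c (H.toHS.A e u) = H.toHS.A e w := by
  obtain ⟨w, hw⟩ := H.range e he u
  exact ⟨c.re.val • u + c.im.val • w, by rw [smZ, hw, map_add, map_nsmul, map_nsmul]⟩

theorem h_self_of_isE {q : G} (h : IsE D x y q) : H.h (π q) (π q) = 0 := by
  obtain ⟨e, he, h'⟩ := H.toHS.inU_of_isE h
  obtain ⟨u, hu⟩ := H.toHS.inU_pi he h'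
  rw [hu, H.h_U_zero he]
  exact Or.inr (H.toHS.tl.AA he u)

theorem pair {p q : G} (hp : IsE D x y p) (hq : IsE D x y q) (hb : (H.h (π p) (π q)).im = 0) :
    ∃ r, IsE D x y r ∧ ((H.h (π p) (π q) = 0 ∧ p * q = r) ∨ (H.h (π p) (π q) = 1 ∧ p * q = x * r)) := by
  have S := H.toHS
  obtain ⟨e, he, hp'⟩ := S.inU_of_isE hp
  obtain ⟨t, ht, hq'⟩ := S.inU_of_isE hq
  obtain ⟨u, hu⟩ := S.inU_pi he hp'
  obtain ⟨v, hv⟩ := S.inU_pi ht hq'
  by_cases het : Commute e t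
  · refine ⟨_, S.isE_mul_of_commute he ht het hp' hq', Or.inl ⟨?_, rfl⟩⟩
    rw [hu, hv, H.h_U_zero he]
    exact Or.inr (S.A_comm he.1 ht.1 het v)
  by_cases h1 : π p = 0
  · refine ⟨q, hq, Or.inl ⟨by rw [h1]; exact H.cx.h_zero _, ?_⟩⟩
    rw [S.isE_inj hp S.isE_one (by rw [h1, S.pi_one]), one_mul]
  by_cases h2 : π q = 0
  · refine ⟨p, hp, Or.inl ⟨by rw [h2]; exact H.cx.h_zero' _, ?_⟩⟩
    rw [S.isE_inj hq S.isE_one (by rw [h2, S.pi_one]), mul_one]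
  have h3 : S.A e (π q) ≠ 0 := fun c => h2 (by
    rw [hv, ← S.A_braid ht.1 he.1 (fun c => het c.symm) v, ← hv, c, map_zero])
  have hb' : S.b (π p) (π q) = 0 := hb
  rw [hu] at hb' h1
  have h4 : S.A e u = S.A e (π q) := by
    rcases (S.b_zero he.1 u _).mp hb' with c | c | c
    exacts [absurd c h1, absurd c h3, c]
  refine ⟨_, S.isE_conj he hq, Or.inr ⟨by rw [hu]; exact (H.h_U_one he h1 _).mpr h4, ?_⟩⟩
  rcases hp' with rfl | ⟨a, ha, hax, -, rfl⟩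
  · exact absurd (hu.symm.trans S.pi_one) h1
  · rw [S.pi_x_mul (mul_mem_QG he.1 ha hax), h4, S.A_pi' he.1 hq.1] at hu
    rw [S.pi_line_inj he.1 ha hax (S.conj_PL hq.1 he.1) (S.conj_ne hq.1 he.1) hu,
      S.tt.inv_eq he.1.1]
    group

/-- The relation defining the last coordinate. -/
def R (q : G) (c : K4) : Prop := ∃ p₁ p₂, IsE D x y p₁ ∧ IsE D x y p₂ ∧
  ((q = p₁ * p₂ ∧ c = H.h (π p₁) (π p₂)) ∨ (q = x * (p₁ * p₂) ∧ c = H.h (π p₁) (π p₂) + 1))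

theorem R_x {q : G} {c : K4} (h : H.R q c) : H.R (x * q) (c + 1) := by
  obtain ⟨p₁, p₂, h1, h2, ⟨rfl, rfl⟩ | ⟨rfl, rfl⟩⟩ := h
  · exact ⟨p₁, p₂, h1, h2, Or.inr ⟨rfl, rfl⟩⟩
  · exact ⟨p₁, p₂, h1, h2, Or.inl ⟨by rw [← mul_assoc, H.toHS.sx, one_mul],
      by rw [add_assoc, K4.add_self, add_zero]⟩⟩

theorem swap {p q : G} (hp : p ∈ QG D x) (hq : q ∈ QG D x) :
    (p * q = q * p ∧ H.h (π p) (π q) = H.h (π q) (π p)) ∨
      (p * q = x * (q * p) ∧ H.h (π p) (π q) = H.h (π q) (π p) + 1) := by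
  have S := H.toHS
  have e : H.h (π q) (π p) = H.h (π p) (π q) ^ 2 := H.cx.h_symm _ _
  rw [e]
  rcases K4.sq_or (H.h (π p) (π q)) with ⟨h1, h2⟩ | ⟨h1, h2⟩
  · exact Or.inl ⟨((S.b_pi hp hq).mp h1).eq, h2⟩
  · refine Or.inr ⟨?_, h2⟩
    rw [← mul_assoc, ← S.conj_of_not_commute hp hq fun t => h1 ((S.b_pi hp hq).mpr t)]
    group

/-- The statement to be proved for three factors. -/
def T3 (p q r : G) : Prop :=
  H.R (p * q * r) (H.h (π p) (π q) + H.h (π p) (π r) + H.h (π q) (π r))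

theorem T3_swap12 {p q r : G} (hp : p ∈ QG D x) (hq : q ∈ QG D x) (h : H.T3 q p r) :
    H.T3 p q r := by
  unfold T3 at *
  rcases H.swap hp hq with ⟨e1, e2⟩ | ⟨e1, e2⟩ <;> rw [e1, e2]
  · convert h using 1; ring
  · convert H.R_x h using 1
    · group
    · ring

theorem T3_swap23 {p q r : G} (hp : p ∈ QG D x) (hq : q ∈ QG D x) (hr : r ∈ QG D x)
    (h : H.T3 p r q) : H.T3 p q r := by
  unfold T3 at *
  rcases H.swap hq hr with ⟨e1, e2⟩ | ⟨e1, e2⟩ <;> rw [mul_assoc, e1, e2]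
  · convert h using 1
    · group
    · ring
  · convert H.R_x h using 1
    · rw [← mul_assoc, (H.toHS.cx hp).eq]; group
    · ring

theorem T3_of_im {p q r : G} (hp : IsE D x y p) (hq : IsE D x y q) (hr : IsE D x y r)
    (hb : (H.h (π p) (π q)).im = 0) : H.T3 p q r := by
  have S := H.toHS
  obtain ⟨s, hs, ⟨e1, e2⟩ | ⟨e1, e2⟩⟩ := H.pair hp hq hb
  · refine ⟨s, r, hs, hr, Or.inl ⟨by rw [e2], ?_⟩⟩
    rw [e1, ← e2, S.map_mul p hp.1 q hq.1, zero_add]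
    exact (H.cx.h_add _ _ _).symm
  · refine ⟨s, r, hs, hr, Or.inr ⟨by rw [e2, mul_assoc], ?_⟩⟩
    rw [e1, ← S.pi_x_mul hs.1, ← e2, S.map_mul p hp.1 q hq.1]
    unfold h
    rw [H.cx.h_add]
    ring

theorem T3_of_eq {p q r : G} (hp : IsE D x y p) (hq : IsE D x y q) (hr : IsE D x y r)
    (hb : (H.h (π p) (π q)).im ≠ 0) (he : H.h (π p) (π q) = H.h (π q) (π r)) : H.T3 p q r := by
  have S := H.toHS
  have C := H.cx
  obtain ⟨e, hE, hq'⟩ := S.inU_of_isE hq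
  obtain ⟨u, hu⟩ := S.inU_pi hE hq'
  set η := H.h (π p) (π q) with hη
  obtain ⟨k1, k2⟩ := K4.split η hb
  obtain ⟨w₁, hw₁⟩ := H.smZ_range hE η u
  obtain ⟨w₂, hw₂⟩ := H.smZ_range hE (η ^ 2) u
  obtain ⟨q₁, i₁, e₁⟩ := S.exists_inU hE.1 w₁
  obtain ⟨q₂, i₂, e₂⟩ := S.exists_inU hE.1 w₂
  rw [← hw₁, ← hu] at e₁
  rw [← hw₂, ← hu] at e₂
  have j₁ := S.isE_of_inU hE i₁
  have j₂ := S.isE_of_inU hE i₂
  have eq : q = q₁ * q₂ := S.isE_inj hq (S.isE_mul_of_commute hE hE (Commute.refl e) i₁ i₂) (by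
    rw [S.map_mul _ j₁.1 _ j₂.1, e₁, e₂, ← C.add_smZ, k2, smZ_one])
  have a1 : H.h (π p) (π q₁) = 1 := by
    unfold h at *
    rw [e₁, C.h_smZ', ← hη, k1]
  have a2 : H.h (π q₂) (π r) = 1 := by
    unfold h at *
    rw [e₂, C.h_smZ, ← he, k1]
  obtain ⟨s₁, hs₁, ⟨c, -⟩ | ⟨-, f₁⟩⟩ := H.pair hp j₁ (by rw [a1]; rfl)
  · rw [a1] at c; exact absurd c one_ne_zero
  obtain ⟨s₂, hs₂, ⟨c, -⟩ | ⟨-, f₂⟩⟩ := H.pair j₂ hr (by rw [a2]; rfl)
  · rw [a2] at c; exact absurd c one_ne_zero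
  refine ⟨s₁, s₂, hs₁, hs₂, Or.inl ⟨?_, ?_⟩⟩
  · calc p * q * r = (p * q₁) * (q₂ * r) := by rw [eq]; group
      _ = x * (s₁ * x) * s₂ := by rw [f₁, f₂]; group
      _ = s₁ * s₂ := by rw [(S.cx hs₁.1).eq, ← mul_assoc, S.sx, one_mul]
  · have z0 := H.h_self_of_isE hq
    rw [← S.pi_x_mul hs₁.1, ← S.pi_x_mul hs₂.1, ← f₁, ← f₂, S.map_mul _ hp.1 _ j₁.1,
      S.map_mul _ j₂.1 _ hr.1, e₁, e₂]
    unfold h at *
    rw [C.h_add, C.h_add', C.h_add', C.h_smZ', C.h_smZ', C.h_smZ, C.h_smZ, z0, ← he, ← hη, K4.sq_sq]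
    linear_combination K4.add_self η - K4.add_self (η * η)

theorem T3_all {p q r : G} (hp : IsE D x y p) (hq : IsE D x y q) (hr : IsE D x y r) :
    H.T3 p q r := by
  have C := H.cx
  have im : ∀ a : K4, a.im ≠ 0 → (a ^ 2).im ≠ 0 := by decide
  by_cases h1 : (H.h (π p) (π q)).im = 0
  · exact H.T3_of_im hp hq hr h1
  by_cases h2 : (H.h (π p) (π r)).im = 0
  · exact H.T3_swap23 hp.1 hq.1 hr.1 (H.T3_of_im hp hr hq h2)
  by_cases h3 : (H.h (π q) (π r)).im = 0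
  · exact H.T3_swap12 hp.1 hq.1 (H.T3_swap23 hq.1 hp.1 hr.1 (H.T3_of_im hq hr hp h3))
  rcases K4.three _ _ _ h1 h2 h3 with e | e | e
  · exact H.T3_of_eq hp hq hr h1 e
  · exact H.T3_swap23 hp.1 hq.1 hr.1 (H.T3_of_eq hp hr hq h2 (e.trans (C.h_symm _ _).symm))
  · refine H.T3_swap12 hp.1 hq.1 (H.T3_of_eq hq hp hr ?_ ((C.h_symm _ _).trans e))
    unfold h at *
    rw [C.h_symm]
    exact im _ h1

theorem R_mul {q r : G} {c : K4} (h : H.R q c) (hr : IsE D x y r) :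
    H.R (q * r) (c + H.h (π q) (π r)) := by
  have S := H.toHS
  obtain ⟨p₁, p₂, h1, h2, ⟨rfl, rfl⟩ | ⟨rfl, rfl⟩⟩ := h
  · have := H.T3_all h1 h2 hr
    unfold T3 at this
    convert this using 1
    unfold HZ.h
    rw [S.map_mul _ h1.1 _ h2.1, H.cx.h_add, add_assoc]
  · convert H.R_x (H.T3_all h1 h2 hr) using 1
    · group
    · unfold HZ.h
      rw [S.pi_x_mul (Subgroup.mul_mem _ h1.1 h2.1), S.map_mul _ h1.1 _ h2.1, H.cx.h_add]
      ring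

theorem R_mem {q : G} {c : K4} (h : H.R q c) : q ∈ QG D x := by
  obtain ⟨p₁, p₂, h1, h2, ⟨rfl, -⟩ | ⟨rfl, -⟩⟩ := h
  · exact Subgroup.mul_mem _ h1.1 h2.1
  · exact Subgroup.mul_mem _ (self_mem_QG D x) (Subgroup.mul_mem _ h1.1 h2.1)

theorem R_of_isE {q : G} (h : IsE D x y q) : H.R q 0 :=
  ⟨q, 1, h, H.toHS.isE_one, Or.inl ⟨(mul_one q).symm, by
    rw [H.toHS.pi_one]; exact (H.cx.h_zero' _).symm⟩⟩

theorem R_one {c : K4} (h : H.R 1 c) : c = 0 := by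
  have S := H.toHS
  have key : ∀ p₁ p₂, IsE D x y p₁ → IsE D x y p₂ → π (p₁ * p₂) = 0 → p₁ = p₂ := by
    intro p₁ p₂ h1 h2 e
    rw [S.map_mul _ h1.1 _ h2.1, S.tl.add_eq_zero] at e
    exact S.isE_inj h1 h2 e
  obtain ⟨p₁, p₂, h1, h2, ⟨e, rfl⟩ | ⟨e, rfl⟩⟩ := h
  · rw [← key p₁ p₂ h1 h2 (by rw [← e, S.pi_one])]
    exact H.h_self_of_isE h1
  · have := key p₁ p₂ h1 h2 (by rw [← S.pi_x_mul (Subgroup.mul_mem _ h1.1 h2.1), ← e, S.pi_one])
    rw [← this, S.isE_sq h1, mul_one] at e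
    exact absurd e.symm (S.fis.ne_one S.hx)

theorem R_unique {q : G} {c c' : K4} (h : H.R q c) (h' : H.R q c') : c = c' := by
  have S := H.toHS
  have key : ∀ p₁ p₂ c, IsE D x y p₁ → IsE D x y p₂ → H.R (p₁ * p₂) c → c = H.h (π p₁) (π p₂) := by
    intro p₁ p₂ c h1 h2 h
    have t := H.R_mul (H.R_mul h h2) h1
    rw [mul_assoc p₁, S.isE_sq h2, mul_one, S.isE_sq h1, H.h_self_of_isE h1, add_zero,
      S.map_mul _ h1.1 _ h2.1] at t
    have t' := H.R_one t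
    have z2 := H.h_self_of_isE h2
    unfold HZ.h at *
    rwa [H.cx.h_add, z2, add_zero, K4.add_eq_zero] at t'
  obtain ⟨p₁, p₂, h1, h2, ⟨rfl, rfl⟩ | ⟨rfl, rfl⟩⟩ := h'
  · exact key p₁ p₂ c h1 h2 h
  · have t := H.R_x h
    rw [← mul_assoc, S.sx, one_mul] at t
    rw [← key p₁ p₂ _ h1 h2 t, add_assoc, K4.add_self, add_zero]

theorem R_exists : ∀ q ∈ QG D x, ∃ c, H.R q c := by
  have S := H.toHS
  have left : ∀ p q, IsE D x y p → (∃ c, H.R q c) → ∃ c, H.R (p * q) c := by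
    rintro p q hp ⟨c, p₁, p₂, h1, h2, ⟨rfl, -⟩ | ⟨rfl, -⟩⟩
    · exact ⟨_, by rw [← mul_assoc]; exact H.T3_all hp h1 h2⟩
    · have := H.R_x (H.T3_all hp h1 h2)
      have e : p * (x * (p₁ * p₂)) = x * (p * p₁ * p₂) := by
        rw [← mul_assoc p x, (S.cx hp.1).eq]; group
      exact ⟨_, e ▸ this⟩
  have line : ∀ e ∈ Dx D x ∩ Dx D y, ∀ a ∈ PL D x e, a ≠ x → ∀ q, (∃ c, H.R q c) →
      ∃ c, H.R (e * a * q) c := by
    intro e he a ha hax q hq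
    by_cases h : a = e
    · rwa [h, S.tt.sq e he.1.1, one_mul]
    · obtain ⟨c, hc⟩ := left _ q (S.isE_of_inU he (Or.inr ⟨a, ha, hax, h, rfl⟩)) hq
      refine ⟨c + 1, ?_⟩
      have := H.R_x hc
      rwa [← mul_assoc, ← mul_assoc, S.sx, one_mul] at this
  refine S.tt.QG_induction S.hx ⟨0, H.R_of_isE S.isE_one⟩ (fun q _ ⟨c, h⟩ => ⟨_, H.R_x h⟩)
    fun s hs t ht hne q _ h => ?_
  obtain ⟨e, he, m1, m2⟩ := S.exists_E hs
  have ht' : t ∈ PL D x e := by rwa [S.fis.PL_eq_left S.hx hs m1 he.1.2.1]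
  have e1 : s * t * q = (e * s) * (e * t * q) := by
    rw [(commute_of_mem_PL S.hx hs m1 (right_mem_PL x hs.1)).eq, mul_assoc s e, ← mul_assoc e,
      ← mul_assoc e e, S.tt.sq e he.1.1, one_mul, mul_assoc]
  rw [e1]
  exact line e he s m2 hs.2.1 _ (line e he t ht' hne q h)

theorem R_cocycle {q q' : G} {c c' : K4} (h : H.R q c) (h' : H.R q' c') :
    H.R (q * q') (c + c' + H.h (π q) (π q')) := by
  have S := H.toHS
  have m := H.R_mem h
  have key : ∀ p₁ p₂, IsE D x y p₁ → IsE D x y p₂ →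
      H.R (q * (p₁ * p₂)) (c + H.h (π p₁) (π p₂) + H.h (π q) (π (p₁ * p₂))) := by
    intro p₁ p₂ h1 h2
    convert H.R_mul (H.R_mul h h1) h2 using 1
    · group
    · unfold HZ.h
      rw [S.map_mul _ h1.1 _ h2.1, S.map_mul _ m _ h1.1, H.cx.h_add, H.cx.h_add']
      ring
  obtain ⟨p₁, p₂, h1, h2, ⟨rfl, rfl⟩ | ⟨rfl, rfl⟩⟩ := h'
  · exact key p₁ p₂ h1 h2
  · convert H.R_x (key p₁ p₂ h1 h2) using 1
    · rw [← mul_assoc q x, (S.cx m).eq]; group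
    · rw [S.pi_x_mul (Subgroup.mul_mem _ h1.1 h2.1)]; ring

theorem R_trace {q : G} {c : K4} (h : H.R q c) : c + c ^ 2 = H.h (π q) (π q) := by
  have S := H.toHS
  have key : ∀ p₁ p₂, IsE D x y p₁ → IsE D x y p₂ → H.h (π p₁) (π p₂) + H.h (π p₁) (π p₂) ^ 2 =
      H.h (π (p₁ * p₂)) (π (p₁ * p₂)) := by
    intro p₁ p₂ h1 h2
    have z1 := H.h_self_of_isE h1
    have z2 := H.h_self_of_isE h2
    unfold HZ.h at *
    rw [S.map_mul _ h1.1 _ h2.1, H.cx.h_add, H.cx.h_add', H.cx.h_add', z1, z2, ← H.cx.h_symm]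
    ring
  obtain ⟨p₁, p₂, h1, h2, ⟨rfl, rfl⟩ | ⟨rfl, rfl⟩⟩ := h
  · exact key p₁ p₂ h1 h2
  · rw [S.pi_x_mul (Subgroup.mul_mem _ h1.1 h2.1), ← key p₁ p₂ h1 h2, K4.sq_add]
    linear_combination K4.add_self 1

theorem isE_of_R {q : G} (h : H.R q 0) : IsE D x y q := by
  have S := H.toHS
  obtain ⟨p₁, p₂, h1, h2, ⟨rfl, e⟩ | ⟨rfl, e⟩⟩ := h
  · obtain ⟨r, hr, ⟨-, f⟩ | ⟨c, -⟩⟩ := H.pair h1 h2 (by rw [← e]; rfl)
    · rwa [f]
    · rw [c] at e; exact absurd e zero_ne_one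
  · have e' : H.h (π p₁) (π p₂) = 1 := (K4.add_eq_zero _ _).mp e.symm
    obtain ⟨r, hr, ⟨c, -⟩ | ⟨-, f⟩⟩ := H.pair h1 h2 (by rw [e']; rfl)
    · rw [c] at e'; exact absurd e' zero_ne_one
    · rwa [f, ← mul_assoc, S.sx, one_mul]

theorem commute_iff_of_R {q q' : G} {c c' : K4} (h : H.R q c) (h' : H.R q' c') :
    Commute (q * y * q⁻¹) (q' * y * q'⁻¹) ↔ c ^ 2 + c' + H.h (π q) (π q') = 0 := by
  have S := H.toHS
  have m := H.R_mem h
  have m' := H.R_mem h'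
  obtain ⟨d, hd⟩ := H.R_exists _ (Subgroup.inv_mem _ m)
  have t1 := H.R_cocycle hd h
  rw [inv_mul_cancel, S.pi_inv m, ← H.R_trace h] at t1
  have e1 : d = c ^ 2 := by
    linear_combination H.R_one t1 - K4.add_self c - K4.add_self (c ^ 2)
  have t2 := H.R_cocycle hd h'
  rw [S.pi_inv m, e1] at t2
  have e2 : Commute (q * y * q⁻¹) (q' * y * q'⁻¹) ↔
      Commute y (q⁻¹ * q' * y * (q⁻¹ * q')⁻¹) := by
    rw [← conj_commute_iff q (a := y)]
    congr! 1; group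
  rw [e2]
  exact ⟨fun t => H.R_unique t2 (H.R_of_isE ⟨H.R_mem t2, t⟩), fun t => (H.isE_of_R (t ▸ t2)).2⟩

/-- The Hermitian form on the whole space. -/
noncomputable def form (w w' : K4 × V × K4) : K4 :=
  w.1 * w'.2.2 ^ 2 + w.2.2 * w'.1 ^ 2 + H.h w.2.1 w'.2.1

theorem form_symm (w w' : K4 × V × K4) : H.form w' w = H.form w w' ^ 2 := by
  unfold form HZ.h
  rw [H.cx.h_symm, K4.sq_add, K4.sq_add, mul_pow, mul_pow, K4.sq_sq, K4.sq_sq]
  ring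

/-- Vectors representing a point. -/
def Rep (a : G) (w : K4 × V × K4) : Prop :=
  (a = x ∧ w = (1, 0, 0)) ∨
  (∃ q c, H.R q c ∧ a = q * y * q⁻¹ ∧ w = (c ^ 2, π q, 1)) ∨
  (∃ e ∈ Dx D x ∩ Dx D y, a ∈ PL D x e ∧ a ≠ x ∧ ∃ u, H.toHS.A e u ≠ 0 ∧
    ((a = e ∧ w = (0, H.toHS.A e u, 0)) ∨ (H.toHS.A e u = π (e * a) ∧ w = (1, H.toHS.A e u, 0))))

theorem exists_rep {a : G} (ha : a ∈ D) : ∃ w, H.Rep a w := by
  have S := H.toHS
  by_cases h1 : Commute x a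
  · by_cases h2 : a = x
    · exact ⟨_, Or.inl ⟨h2, rfl⟩⟩
    obtain ⟨e, he, -, m⟩ := S.exists_E ⟨ha, h2, h1⟩
    by_cases h3 : a = e
    · obtain ⟨u, -, hu, -⟩ := S.thick he
      exact ⟨_, Or.inr (Or.inr ⟨e, he, m, h2, u, hu, Or.inl ⟨h3, rfl⟩⟩)⟩
    · obtain ⟨u, hu⟩ := S.exists_A_eq he m h2
      exact ⟨_, Or.inr (Or.inr ⟨e, he, m, h2, u,
        by rw [hu, Ne, S.pi_line_eq_zero he.1 m h2]; exact h3, Or.inr ⟨hu, rfl⟩⟩)⟩
  · obtain ⟨q, hq, e⟩ := S.pol.QG_trans S.hx S.hy ha S.hxy h1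
    obtain ⟨c, hc⟩ := H.R_exists q hq
    exact ⟨_, Or.inr (Or.inl ⟨q, c, hc, e.symm, rfl⟩)⟩

theorem rep_ne_zero {a : G} {w : K4 × V × K4} (h : H.Rep a w) : w ≠ 0 := by
  rcases h with ⟨-, rfl⟩ | ⟨q, c, -, -, rfl⟩ | ⟨e, -, -, -, u, hu, ⟨-, rfl⟩ | ⟨-, rfl⟩⟩
  · exact fun t => one_ne_zero (congrArg Prod.fst t)
  · exact fun t => one_ne_zero (congrArg (fun w => w.2.2) t)
  · exact fun t => hu (congrArg (fun w => w.2.1) t)
  · exact fun t => hu (congrArg (fun w => w.2.1) t)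

theorem commute_line_iff {a e q : G} (he : e ∈ Dx D x ∩ Dx D y) (ha : a ∈ PL D x e) (hax : a ≠ x)
    (hq : q ∈ QG D x) : Commute a (q * y * q⁻¹) ↔ π (e * a) = H.toHS.A e (π q) := by
  have S := H.toHS
  rw [S.A_pi' he.1 hq]
  have c1 : Commute (q * y * q⁻¹) (q * e * q⁻¹) := (conj_commute_iff q).mpr he.2.2.2
  constructor
  · intro t
    rw [S.fis.eq_of_commute_PL S.hx he.1 ha (S.conj_PL hq he.1) (S.tt.conj q y S.hy) t.symm c1
      (left_mem_PL S.hx e) fun c => S.not_commute_conj hq c.symm]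
  · intro t
    rw [S.pi_line_inj he.1 ha hax (S.conj_PL hq he.1) (S.conj_ne hq he.1) t]
    exact c1.symm

theorem commute_line_line {a a' e e' : G} (he : e ∈ Dx D x ∩ Dx D y) (ha : a ∈ PL D x e)
    (hax : a ≠ x) (he' : e' ∈ Dx D x ∩ Dx D y) (ha' : a' ∈ PL D x e') (hax' : a' ≠ x) {u u' : V}
    (hu : H.toHS.A e u ≠ 0) (hu' : H.toHS.A e' u' ≠ 0) :
    Commute a a' ↔ H.h (H.toHS.A e u) (H.toHS.A e' u') = 0 := by
  have S := H.toHS
  have c1 := commute_left_of_mem_PL S.hx he.1 ha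
  have key : Commute a a' ↔ Commute e e' := by
    constructor
    · intro t
      have t1 := S.fis.commute_of_mem_PL_of_ne S.hx he'.1 ha' hax' ha.1 c1.symm t
      exact (S.fis.commute_of_mem_PL_of_ne S.hx he.1 ha hax he'.1.1 he'.1.2.2.symm t1.symm).symm
    · intro t
      exact ha'.2 a ha.1 c1.symm (ha.2 e' he'.1.1 he'.1.2.2.symm t.symm).symm
  rw [key, H.h_U_zero he]
  constructor
  · intro t
    exact Or.inr (S.A_comm he.1 he'.1 t u')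
  · intro t
    by_contra c
    refine hu' ?_
    rw [← S.A_braid he'.1 he.1 (fun d => c d.symm) u', t.resolve_left hu, map_zero]

theorem commute_iff_of_rep {a a' : G} {w w' : K4 × V × K4} (h : H.Rep a w) (h' : H.Rep a' w') :
    Commute a a' ↔ H.form w w' = 0 := by
  have S := H.toHS
  have C := H.cx
  have sy : ∀ {a a' : G} {w w' : K4 × V × K4}, (Commute a a' ↔ H.form w w' = 0) →
      (Commute a' a ↔ H.form w' w = 0) := fun t => by
    rw [Commute.symm_iff, t, H.form_symm, pow_eq_zero_iff two_ne_zero]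
  have c12 : ∀ q (c : K4), q ∈ QG D x →
      (Commute x (q * y * q⁻¹) ↔ H.form (1, 0, 0) (c, π q, 1) = 0) := fun q c hq =>
    iff_of_false (S.not_commute_conj hq) (by simp [form, HZ.h, C.h_zero])
  have c13 : ∀ a, ∀ e ∈ Dx D x ∩ Dx D y, a ∈ PL D x e → ∀ (c : K4) (v : V),
      (Commute x a ↔ H.form (1, 0, 0) (c, v, 0) = 0) := fun a e he ha c v =>
    iff_of_true (commute_left_of_mem_PL S.hx he.1 ha) (by simp [form, HZ.h, C.h_zero])
  have c32 : ∀ a, ∀ e ∈ Dx D x ∩ Dx D y, a ∈ PL D x e → a ≠ x → ∀ u, S.A e u ≠ 0 → ∀ w,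
      ((a = e ∧ w = (0, S.A e u, 0)) ∨ (S.A e u = π (e * a) ∧ w = (1, S.A e u, 0))) →
      ∀ q (c : K4), q ∈ QG D x →
      (Commute a (q * y * q⁻¹) ↔ H.form w (c, π q, 1) = 0) := by
    intro a e he ha hax u hu w hw q c hq
    rw [H.commute_line_iff he ha hax hq]
    rcases hw with ⟨rfl, rfl⟩ | ⟨e1, rfl⟩
    · simp only [form, zero_mul, zero_add]
      rw [H.h_U_zero he, S.tt.sq a ha.1, S.pi_one, eq_comm]
      tauto
    · simp only [form, zero_mul, add_zero, one_pow, mul_one]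
      rw [← e1, K4.add_eq_zero, eq_comm (a := 1), H.h_U_one he hu]
  rcases h with ⟨rfl, rfl⟩ | ⟨q, c, hc, rfl, rfl⟩ | ⟨e, he, ha, hax, u, hu, hw⟩
  · rcases h' with ⟨rfl, rfl⟩ | ⟨q', c', hc', rfl, rfl⟩ | ⟨e', he', ha', hax', u', hu', hw'⟩
    · exact iff_of_true (Commute.refl _) (by simp [form, HZ.h, C.h_zero])
    · exact c12 q' _ (H.R_mem hc')
    · rcases hw' with ⟨-, rfl⟩ | ⟨-, rfl⟩ <;> exact c13 _ e' he' ha' _ _
  · rcases h' with ⟨rfl, rfl⟩ | ⟨q', c', hc', rfl, rfl⟩ | ⟨e', he', ha', hax', u', hu', hw'⟩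
    · exact sy (c12 q _ (H.R_mem hc))
    · rw [H.commute_iff_of_R hc hc']
      simp only [form, one_pow, mul_one, one_mul, K4.sq_sq]
    · exact sy (c32 _ e' he' ha' hax' u' hu' _ hw' q _ (H.R_mem hc))
  · rcases h' with ⟨rfl, rfl⟩ | ⟨q', c', hc', rfl, rfl⟩ | ⟨e', he', ha', hax', u', hu', hw'⟩
    · rcases hw with ⟨-, rfl⟩ | ⟨-, rfl⟩ <;> exact sy (c13 _ e he ha _ _)
    · exact c32 _ e he ha hax u hu _ hw q' _ (H.R_mem hc')
    · rw [H.commute_line_line he ha hax he' ha' hax' hu hu']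
      rcases hw with ⟨-, rfl⟩ | ⟨-, rfl⟩ <;> rcases hw' with ⟨-, rfl⟩ | ⟨-, rfl⟩ <;>
        simp [form]

theorem exists_smZ {e : G} (he : e ∈ Dx D x ∩ Dx D y) {u : V} (hu : H.toHS.A e u ≠ 0) (u' : V) :
    ∃ c, H.toHS.A e u' = smZ z c (H.toHS.A e u) := by
  obtain ⟨w, hw⟩ := H.range e he u
  rcases H.toHS.tl.four he hu (hw ▸ H.cx.z_ne_zero hu) (hw ▸ (H.cx.z_ne hu).symm) u' with
    t | t | t | t
  · exact ⟨0, by rw [t, smZ_zero]⟩
  · exact ⟨1, by rw [t, smZ_one]⟩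
  · exact ⟨⟨0, 1⟩, by rw [t, smZ_w, hw]⟩
  · exact ⟨⟨1, 1⟩, by rw [t, smZ_w2, hw]⟩

theorem rep_unique {a : G} {w w' : K4 × V × K4} (h : H.Rep a w) (h' : H.Rep a w') :
    ∃ c : K4, w' = (c * w.1, smZ z c w.2.1, c * w.2.2) := by
  have S := H.toHS
  have one : ∀ w : K4 × V × K4, ∃ c : K4, w = (c * w.1, smZ z c w.2.1, c * w.2.2) :=
    fun w => ⟨1, by rw [one_mul, one_mul, smZ_one]⟩
  rcases h with ⟨rfl, rfl⟩ | ⟨q, c, hc, rfl, rfl⟩ | ⟨e, he, ha, hax, u, hu, hw⟩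
  · rcases h' with ⟨-, rfl⟩ | ⟨q', c', hc', e, rfl⟩ | ⟨e', he', ha', hax', u', hu', hw'⟩
    · exact one _
    · exact absurd (e ▸ Commute.refl _) (S.not_commute_conj (H.R_mem hc'))
    · exact absurd rfl hax'
  · rcases h' with ⟨e, rfl⟩ | ⟨q', c', hc', e, rfl⟩ | ⟨e', he', ha', hax', u', hu', hw'⟩
    · exact absurd (by rw [e]) (S.not_commute_conj (H.R_mem hc))
    · have := S.pol.eq_of_conj_eq S.hZ S.hx S.hy S.hxy (H.R_mem hc) (H.R_mem hc') e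
      subst this
      rw [H.R_unique hc hc']
      exact one _
    · exact absurd (commute_left_of_mem_PL S.hx he'.1 ha') (S.not_commute_conj (H.R_mem hc))
  · rcases h' with ⟨e, rfl⟩ | ⟨q', c', hc', e, rfl⟩ | ⟨e', he', ha', hax', u', hu', hw'⟩
    · exact absurd e hax
    · exact absurd (e ▸ commute_left_of_mem_PL S.hx he.1 ha) (S.not_commute_conj (H.R_mem hc'))
    · have : e' = e := S.fis.eq_of_commute_PL S.hx he.1
        (by rw [← S.fis.PL_eq_left S.hx he.1 ha hax, S.fis.PL_eq_left S.hx he'.1 ha' hax']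
            exact right_mem_PL x he'.1.1) (right_mem_PL x he.1.1) S.hy he'.2.2.2 he.2.2.2
        (left_mem_PL S.hx e) fun t => S.hxy t.symm
      subst this
      have z0 : a = e' → π (e' * a) = 0 := (S.pi_line_eq_zero he.1 ha hax).mpr
      rcases hw with ⟨e1, rfl⟩ | ⟨e1, rfl⟩ <;> rcases hw' with ⟨e2, rfl⟩ | ⟨e2, rfl⟩
      · obtain ⟨c, hc⟩ := H.exists_smZ he hu u'
        exact ⟨c, by rw [hc, mul_zero]⟩
      · exact absurd (e2.trans (z0 e1)) hu'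
      · exact absurd (e1.trans (z0 e2)) hu
      · rw [e2, ← e1]
        exact one _

theorem exists_rep_of_isotropic {w : K4 × V × K4} (h0 : w ≠ 0) (hw : H.form w w = 0) :
    ∃ a ∈ D, ∃ w', H.Rep a w' ∧ ∃ c : K4, w = (c * w'.1, smZ z c w'.2.1, c * w'.2.2) := by
  have S := H.toHS
  have C := H.cx
  obtain ⟨α, v, β⟩ := w
  simp only [form] at hw
  have sc : ∀ c : K4, c ≠ 0 → smZ z c (smZ z c⁻¹ v) = v := fun c hc => by
    rw [← C.mul_smZ, mul_inv_cancel₀ hc, smZ_one]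
  have lift : ∀ (v : V) (γ : K4), γ + γ ^ 2 = H.h v v → ∃ q, H.R q γ ∧ π q = v := by
    intro v γ hγ
    obtain ⟨q, hq, rfl⟩ := S.surj v
    obtain ⟨c, hc⟩ := H.R_exists q hq
    rcases K4.trace_eq γ c (hγ.trans (H.R_trace hc).symm) with rfl | rfl
    · exact ⟨q, hc, rfl⟩
    · exact ⟨x * q, H.R_x hc, S.pi_x_mul hq⟩
  by_cases hβ : β = 0
  · subst hβ
    have hv : H.h v v = 0 := by simpa using hw
    by_cases hv0 : v = 0
    · subst hv0
      exact ⟨x, S.hx, _, Or.inl ⟨rfl, rfl⟩, α, by simp [smZ]⟩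
    obtain ⟨q, hq, rfl⟩ := lift v 0 (by rw [hv]; simp)
    obtain ⟨e, he, hq'⟩ := S.inU_of_isE (H.isE_of_R hq)
    obtain ⟨u, hu⟩ := S.inU_pi he hq'
    by_cases hα : α = 0
    · exact ⟨e, he.1.1, _, Or.inr (Or.inr ⟨e, he, right_mem_PL x he.1.1, he.1.2.1, u, hu ▸ hv0,
        Or.inl ⟨rfl, rfl⟩⟩), 1, by rw [hα, hu, smZ_one, mul_zero]⟩
    · obtain ⟨u', hu'⟩ := H.smZ_range he α⁻¹ u
      obtain ⟨a, ha, hax, e1⟩ := S.exists_line he.1 u'
      refine ⟨a, ha.1, _, Or.inr (Or.inr ⟨e, he, ha, hax, u', fun t => hv0 ?_, Or.inr ⟨e1, rfl⟩⟩),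
        α, ?_⟩
      · rw [← sc α hα, hu, hu', t]; simp [smZ]
      · simp only [mul_one, mul_zero]
        rw [← hu', ← hu, sc α hα]
  · obtain ⟨q, hq, e⟩ := lift (smZ z β⁻¹ v) ((β⁻¹ * α) ^ 2) (by
      unfold HZ.h at *
      rw [C.h_smZ, C.h_smZ', ← (K4.add_eq_zero _ _).mp hw]
      revert hβ
      generalize α = α
      generalize β = β
      revert α β
      decide)
    refine ⟨_, S.tt.conj q y S.hy, _, Or.inr (Or.inl ⟨q, _, hq, rfl, rfl⟩), β, ?_⟩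
    simp only [K4.sq_sq, mul_one]
    rw [e, sc β hβ, mul_inv_cancel_left₀ hβ]

theorem form_nondeg {w : K4 × V × K4} (hw : ∀ w', H.form w w' = 0) : w = 0 := by
  have C := H.cx
  obtain ⟨α, v, β⟩ := w
  have h1 := hw (0, 0, 1)
  have h2 := hw (1, 0, 0)
  simp only [form, HZ.h, C.h_zero', one_pow, mul_one, add_zero, ne_eq, OfNat.ofNat_ne_zero,
    not_false_eq_true, zero_pow, mul_zero, zero_add] at h1 h2
  have h3 : v = 0 := H.toHS.tl.eq_zero_of_b fun e _ u => by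
    have := hw (0, H.toHS.A e u, 0)
    simp only [form, ne_eq, OfNat.ofNat_ne_zero, not_false_eq_true, zero_pow, mul_zero,
      zero_add] at this
    rw [C.b_symm]
    exact ((CX.h_eq_zero_iff _ _).mp this).1
  rw [h1, h2, h3]; rfl

end HZ

/-- Hermitian coordinates in the case of lines with more than three points. -/
theorem Pol.exists_herm.{u} {G : Type u} [Group G] [Finite G] {D : Set G} (hD : Pol D)
    (hZ : Subgroup.center G = ⊥)
    (four : ∀ a ∈ D, ∀ b ∈ Dx D a, ∃ c ∈ PL D a b, ∃ d ∈ PL D a b,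
      c ≠ a ∧ c ≠ b ∧ d ≠ a ∧ d ≠ b ∧ c ≠ d) :
    ∃ (W : Type u) (_ : AddCommGroup W) (_ : Module K4 W) (_ : Finite W) (h : W → W → K4)
      (φ : G → W), (∀ u v w, h (u + v) w = h u w + h v w) ∧
      (∀ (c : K4) u v, h (c • u) v = c * h u v) ∧ (∀ u v, h v u = h u v ^ 2) ∧
      (∀ u, (∀ v, h u v = 0) → u = 0) ∧ (∀ a ∈ D, φ a ≠ 0) ∧
      (∀ a ∈ D, ∀ b ∈ D, Commute a b ↔ h (φ a) (φ b) = 0) ∧
      (∀ v, v ≠ 0 → h v v = 0 → ∃ a ∈ D, ∃ c : K4, v = c • φ a) := by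
  obtain ⟨x, hx, -⟩ := hD.toFis.nontriv
  obtain ⟨y, hy, hxy⟩ := hD.toFis.exists_not_commute hx
  obtain ⟨V, _, _, π, h1, h2, h3⟩ := hD.exists_quot hZ hx
  obtain ⟨z, H⟩ := HS.exists_hz ⟨hD, hZ, hx, hy, hxy, four, h1, h2, h3⟩
  have C := H.cx
  let _ : Module K4 V := C.module
  have sm : ∀ (c : K4) (w : K4 × V × K4), c • w = (c * w.1, smZ z c w.2.1, c * w.2.2) :=
    fun _ _ => rfl
  choose! φ hφ using fun a (ha : a ∈ D) => H.exists_rep ha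
  refine ⟨K4 × V × K4, inferInstance, inferInstance, inferInstance, H.form, φ, ?_, ?_,
    H.form_symm, fun _ => H.form_nondeg, fun a ha => H.rep_ne_zero (hφ a ha),
    fun a ha b hb => H.commute_iff_of_rep (hφ a ha) (hφ b hb), fun v h0 hv => ?_⟩
  · intro u v w
    simp only [HZ.form, HZ.h, Prod.fst_add, Prod.snd_add, C.h_add]
    ring
  · intro c u v
    simp only [sm, HZ.form, HZ.h, C.h_smZ]
    ring
  · obtain ⟨a, ha, w', hw', c, e⟩ := H.exists_rep_of_isotropic h0 hv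
    obtain ⟨c', e'⟩ := H.rep_unique (hφ a ha) hw'
    exact ⟨a, ha, c * c', by rw [mul_smul, sm c', ← e', sm c, ← e]⟩

end CL.Fischer
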