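import Cfsg.Agent.Base
import Cfsg.Agent.Fischer.Basic

/-!
# From the group-theoretic hypotheses to `Fis D`
-/

set_option autoImplicit false

namespace CL.Fischer

open CL.Kei
open scoped commutatorElement

variable {G : Type*} [Group G]

theorem isPGroup_closure_pair_of_invol {x y : G} (hx : x * x = 1) (hy : y * y = 1) {k : ℕ}
    (h : (x * y) ^ 2 ^ k = 1) : IsPGroup 2 (Subgroup.closure ({x, y} : Set G)) := by
  rintro ⟨d, hd⟩
  obtain ⟨m, rfl | rfl⟩ := (CL.Invol.mem_closure_pair_iff hx hy d).mp hd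
  · refine ⟨k, Subtype.ext ?_⟩
    show ((x * y) ^ m) ^ 2 ^ k = 1
    rw [← zpow_natCast, ← zpow_mul, mul_comm, zpow_mul, zpow_natCast, h, one_zpow]
  · refine ⟨1, Subtype.ext ?_⟩
    show (x * (x * y) ^ m) ^ 2 ^ 1 = 1
    rw [pow_one, pow_two]
    exact CL.Invol.mul_zpow_mul_self_of_inverts hx (CL.Invol.left_conj_mul hx hy) m

theorem isPGroup_closure_pair_of_commute {p : ℕ} {x y : G} (hx : x ^ p = 1) (hy : y ^ p = 1)
    (h : Commute x y) : IsPGroup p (Subgroup.closure ({x, y} : Set G)) := by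
  have key : ∀ d ∈ Subgroup.closure ({x, y} : Set G), (Commute d x ∧ Commute d y) ∧ d ^ p = 1 := by
    intro d hd
    induction hd using Subgroup.closure_induction_left with
    | one => simp
    | mul_left a ha d _ ih =>
      have ha' : (Commute a x ∧ Commute a y) ∧ a ^ p = 1 ∧ Commute a d := by
        rcases ha with rfl | rfl
        · exact ⟨⟨Commute.refl _, h⟩, hx, ih.1.1.symm⟩
        · exact ⟨⟨h.symm, Commute.refl _⟩, hy, ih.1.2.symm⟩
      exact ⟨⟨ha'.1.1.mul_left ih.1.1, ha'.1.2.mul_left ih.1.2⟩,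
        by rw [ha'.2.2.mul_pow, ha'.2.1, ih.2, one_mul]⟩
    | inv_mul_cancel a ha d _ ih =>
      have ha' : (Commute a x ∧ Commute a y) ∧ a ^ p = 1 ∧ Commute a d := by
        rcases ha with rfl | rfl
        · exact ⟨⟨Commute.refl _, h⟩, hx, ih.1.1.symm⟩
        · exact ⟨⟨h.symm, Commute.refl _⟩, hy, ih.1.2.symm⟩
      exact ⟨⟨ha'.1.1.inv_left.mul_left ih.1.1, ha'.1.2.inv_left.mul_left ih.1.2⟩,
        by rw [ha'.2.2.inv_left.mul_pow, inv_pow, ha'.2.1, ih.2, inv_one, one_mul]⟩
  rintro ⟨d, hd⟩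
  exact ⟨1, Subtype.ext (by simpa using (key d hd).2)⟩

theorem mul_mem_commutator {a b g : G} (ha : a * a = 1) (h : g * a * g⁻¹ = b) :
    a * b ∈ commutator G := by
  have : a * b = ⁅a, g⁆ := by
    rw [commutatorElement_def, ← h, inv_eq_of_mul_eq_one_right ha]; group
  rw [this]
  exact Subgroup.commutator_mem_commutator (Subgroup.mem_top _) (Subgroup.mem_top _)

theorem eq_bot_of_perfect_of_solvable {H : Subgroup G} (h : ⁅H, H⁆ = H)
    (hs : Group.IsSolvable H) : H = ⊥ := by
  by_contra hne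
  have : Nontrivial H := (Subgroup.nontrivial_iff_ne_bot H).mpr hne
  have h1 := Group.IsSolvable.commutator_lt_top_of_nontrivial H
  have h2 : (commutator H).map H.subtype = (⊤ : Subgroup H).map H.subtype := by
    rw [commutator, Subgroup.map_commutator, ← MonoidHom.range_eq_map, H.range_subtype, h]
  exact h1.ne (Subgroup.map_injective H.subtype_injective h2)

/-- The products of two members of `D`. -/
def prods (D : Set G) : Set G := {x : G | ∃ a ∈ D, ∃ b ∈ D, x = a * b}

theorem normal_closure_of_conj {S : Set G} (h : ∀ g : G, ∀ s ∈ S, g * s * g⁻¹ ∈ S) :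
    (Subgroup.closure S).Normal := by
  rw [← Subgroup.normalizer_eq_top_iff, eq_top_iff, Subgroup.le_normalizer_closure_iff]
  intro g _ x hx
  exact Subgroup.subset_closure (h g x hx)

theorem commutator_le_closure_prods {D : Set G} (hD : TT D) (hgen : Subgroup.closure D = ⊤) :
    commutator G ≤ Subgroup.closure (prods D) := by
  have hn : (Subgroup.closure (prods D)).Normal := normal_closure_of_conj (by
    rintro g _ ⟨a, ha, b, hb, rfl⟩
    exact ⟨_, hD.conj g a ha, _, hD.conj g b hb, by group⟩)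
  rw [← Subgroup.Normal.quotient_commutative_iff_commutator_le]
  set f := QuotientGroup.mk' (Subgroup.closure (prods D)) with hf
  have h1 : ∀ a ∈ D, ∀ b ∈ D, f a = f b := fun a ha b hb => by
    rw [hf, QuotientGroup.mk'_apply, QuotientGroup.mk'_apply, QuotientGroup.eq, hD.inv_eq ha]
    exact Subgroup.subset_closure ⟨a, ha, b, hb, rfl⟩
  have h2 : ∀ a ∈ D, ∀ g : G, Commute (f a) (f g) := fun a ha g => by
    have hg : g ∈ Subgroup.closure D := by rw [hgen]; trivial
    induction hg using Subgroup.closure_induction with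
    | mem x hx => rw [h1 a ha x hx]
    | one => simp
    | mul x y _ _ hx hy => rw [map_mul]; exact hx.mul_right hy
    | inv x _ hx => rw [map_inv]; exact hx.inv_right
  have h3 : ∀ g h : G, Commute (f g) (f h) := fun g h => by
    have hg : g ∈ Subgroup.closure D := by rw [hgen]; trivial
    induction hg using Subgroup.closure_induction with
    | mem x hx => exact h2 x hx h
    | one => simp
    | mul x y _ _ hx hy => rw [map_mul]; exact hx.mul_left hy
    | inv x _ hx => rw [map_inv]; exact hx.inv_left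
  refine ⟨⟨fun x y => ?_⟩⟩
  obtain ⟨x, rfl⟩ := QuotientGroup.mk'_surjective _ x
  obtain ⟨y, rfl⟩ := QuotientGroup.mk'_surjective _ y
  exact h3 x y

namespace TT

variable {D : Set G} (hD : TT D)
include hD

/-- The products of two members of `D` with the same commutant generate a normal `2`-subgroup. -/
theorem tau_closure [Finite G] :
    (Subgroup.closure {x : G | ∃ a ∈ D, ∃ b ∈ D,
      (∀ c ∈ D, Commute a c ↔ Commute b c) ∧ x = a * b}).Normal ∧
    IsPGroup 2 (Subgroup.closure {x : G | ∃ a ∈ D, ∃ b ∈ D,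
      (∀ c ∈ D, Commute a c ↔ Commute b c) ∧ x = a * b}) := by
  refine CL.Invol.baerSuzuki_closure ?_ ?_
  · rintro g _ ⟨a, ha, b, hb, h, rfl⟩
    refine ⟨_, hD.conj g a ha, _, hD.conj g b hb, fun c hc => ?_, by group⟩
    have := h _ (hD.conj g⁻¹ c hc)
    rw [← conj_commute_iff g, ← conj_commute_iff g (a := b)] at this
    convert this using 2 <;> group
  · rintro _ ⟨a, ha, b, hb, h, rfl⟩ _ ⟨c, hc, d, hd, h', rfl⟩
    have hab : Commute a b := ((h a ha).mp (Commute.refl a)).symm
    have hcd : Commute c d := ((h' c hc).mp (Commute.refl c)).symm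
    refine isPGroup_closure_pair_of_invol (hD.mul_sq ha hb hab) (hD.mul_sq hc hd hcd) (k := 2) ?_
    have hc' := hD.cj_mem (hD.cj_mem hc ha) hb
    have hd' := hD.cj_mem (hD.cj_mem hd ha) hb
    have e1 : Commute (cj (cj c a) b) c :=
      hD.commute_cj_cj ha hb hc hab ⟨fun t => ((h c hc).mp t.symm).symm, fun t => ((h c hc).mpr t.symm).symm⟩
    have e2 : Commute (cj (cj d a) b) d :=
      hD.commute_cj_cj ha hb hd hab ⟨fun t => ((h d hd).mp t.symm).symm, fun t => ((h d hd).mpr t.symm).symm⟩
    have e3 : Commute (cj (cj c a) b) d := ((h' _ hc').mp e1.symm).symm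
    have e4 : Commute (cj (cj d a) b) c := ((h' _ hd').mpr e2.symm).symm
    have e5 : Commute (cj (cj c a) b) (cj (cj d a) b) := by
      rw [cj_commute_iff (hD.sq b hb), cj_commute_iff (hD.sq a ha)]; exact hcd
    have e6 : (a * b * (c * d)) ^ 2 = (cj (cj c a) b * cj (cj d a) b) * (c * d) := by
      have sa := hD.sq a ha
      have sb := hD.sq b hb
      calc (a * b * (c * d)) ^ 2 = (a * b) * c * (a * (b * b) * a) * d * (a * b) * (c * d) := by
            rw [sb, mul_one, sa, pow_two]; group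
        _ = (b * a) * c * (a * (b * b) * a) * d * (a * b) * (c * d) := by rw [hab.eq]
        _ = _ := by simp only [cj, mul_assoc]
    have e7 : Commute (cj (cj c a) b * cj (cj d a) b) (c * d) :=
      (e1.mul_right e3).mul_left (e4.mul_right e2)
    calc (a * b * (c * d)) ^ 2 ^ 2 = ((a * b * (c * d)) ^ 2) ^ 2 := by rw [← pow_mul]; rfl
      _ = 1 := by
        rw [e6, e7.mul_pow, pow_two, pow_two, hD.mul_sq hc' hd' e5, hD.mul_sq hc hd hcd, one_mul]

omit hD in
theorem theta_mem {a b c : G} (hc : c ∈ D) (ha : a ∈ D) (hb : b ∈ D) (h : Dx D a = Dx D b) :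
    a ∈ Dx D c ↔ b ∈ Dx D c :=
  ⟨fun t => Dx_symm hb (h ▸ Dx_symm hc t), fun t => Dx_symm ha (h ▸ Dx_symm hc t)⟩

theorem theta_braid {a b : G} (ha : a ∈ D) (hb : b ∈ D) (h : Dx D a = Dx D b) :
    cj a b = cj b a := by
  rw [hD.braid_iff ha hb, h]
  exact fun t => t.2.1 rfl

theorem theta_cj {u v p q : G} (hv : v ∈ D) (hp : p ∈ D) (hq : q ∈ D)
    (h1 : Dx D u = Dx D p) (h2 : Dx D v = Dx D q) (hpq : q ∉ Dx D p) :
    Dx D (cj u v) = Dx D (cj p q) := by
  have e1 : Dx D (cj u v) = Dx D (cj p v) := by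
    rw [cj_eq_conj (hD.sq v hv), cj_eq_conj (hD.sq v hv)]
    exact hD.Dx_conj_congr v h1
  have e2 : Dx D (cj v p) = Dx D (cj q p) := by
    rw [cj_eq_conj (hD.sq p hp), cj_eq_conj (hD.sq p hp)]
    exact hD.Dx_conj_congr p h2
  rw [e1, (hD.braid_iff hp hq).mpr hpq, ← e2, (hD.braid_iff hp hv).mpr]
  rwa [theta_mem hp hv hq h2]

/-- The products of two members of `D` with the same `D_x` generate a normal `3`-subgroup. -/
theorem theta_closure [Finite G] :
    (Subgroup.closure {x : G | ∃ a ∈ D, ∃ b ∈ D, Dx D a = Dx D b ∧ x = a * b}).Normal ∧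
    IsPGroup 3 (Subgroup.closure {x : G | ∃ a ∈ D, ∃ b ∈ D, Dx D a = Dx D b ∧ x = a * b}) := by
  have : Fact (Nat.Prime 3) := ⟨Nat.prime_three⟩
  refine CL.Invol.baerSuzuki_closure ?_ ?_
  · rintro g _ ⟨a, ha, b, hb, h, rfl⟩
    exact ⟨_, hD.conj g a ha, _, hD.conj g b hb, hD.Dx_conj_congr g h, by group⟩
  · rintro _ ⟨a, ha, b, hb, h, rfl⟩ _ ⟨c, hc, d, hd, h', rfl⟩
    by_cases hac : c ∈ Dx D a
    · have hbc : c ∈ Dx D b := h ▸ hac
      have had : d ∈ Dx D a := (theta_mem ha hc hd h').mp hac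
      have hbd : d ∈ Dx D b := h ▸ had
      refine isPGroup_closure_pair_of_commute
        (cube_of_braid (hD.sq a ha) (hD.sq b hb) (hD.theta_braid ha hb h))
        (cube_of_braid (hD.sq c hc) (hD.sq d hd) (hD.theta_braid hc hd h')) ?_
      exact (hac.2.2.mul_right had.2.2).mul_left (hbc.2.2.mul_right hbd.2.2)
    · have hbr := (hD.braid_iff ha hc).mpr hac
      have sa := hD.sq a ha
      have sc := hD.sq c hc
      have he := hD.cj_mem ha hc
      set L : Set G := {a, c, cj a c} with hL
      have hLD : ∀ p ∈ L, p ∈ D := by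
        rintro p (rfl | rfl | rfl) <;> assumption
      have t1 : cj a (cj a c) = c := cj_left_of_braid sa sc hbr
      have t2 : cj (cj a c) a = c := cj_cj_of_braid sa hbr
      have t3 : cj c (cj a c) = a := by rw [hbr]; exact cj_left_of_braid sc sa hbr.symm
      have t4 : cj (cj a c) c = a := cj_cj sc
      have hLb : ∀ p ∈ L, ∀ q ∈ L, cj p q = cj q p ∧ cj p q ∈ L := by
        rintro p (rfl | rfl | rfl) q (rfl | rfl | rfl) <;>
          simp only [hL, t1, t2, t3, t4, ← hbr, cj_self sa, cj_self sc, cj_self (hD.sq _ he),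
            Set.mem_insert_iff, Set.mem_singleton_iff, true_or, or_true, and_self]
      refine hall_four (W := {w | w ∈ D ∧ ∃ p ∈ L, Dx D w = Dx D p}) ?_ (fun w hw => hD.sq w hw.1)
        ?_ ⟨ha, a, by simp [hL], rfl⟩ ⟨hb, a, by simp [hL], h.symm⟩ ⟨hc, c, by simp [hL], rfl⟩
        ⟨hd, c, by simp [hL], h'.symm⟩
      · rintro u ⟨hu, p, hp, e1⟩ v ⟨hv, q, hq, e2⟩
        exact ⟨hD.cj_mem hu hv, cj p q, (hLb p hp q hq).2, hD.theta_cj hv (hLD p hp) (hLD q hq)
          e1 e2 ((hD.braid_iff (hLD p hp) (hLD q hq)).mp (hLb p hp q hq).1)⟩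
      · rintro u ⟨hu, p, hp, e1⟩ v ⟨hv, q, hq, e2⟩
        rw [hD.braid_iff hu hv, e1, theta_mem (hLD p hp) hv (hLD q hq) e2]
        exact (hD.braid_iff (hLD p hp) (hLD q hq)).mp (hLb p hp q hq).1

theorem commRel_conj (g : G) {a b : G} (h : Relation.ReflTransGen (CommRel D) a b) :
    Relation.ReflTransGen (CommRel D) (g * a * g⁻¹) (g * b * g⁻¹) := by
  induction h with
  | refl => exact Relation.ReflTransGen.refl
  | tail _ t ih =>
    exact ih.tail ⟨hD.conj g _ t.1, hD.conj g _ t.2.1, (conj_commute_iff g).mpr t.2.2⟩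

omit hD in
theorem commRel_symm {a b : G} (h : Relation.ReflTransGen (CommRel D) a b) :
    Relation.ReflTransGen (CommRel D) b a := by
  induction h with
  | refl => exact Relation.ReflTransGen.refl
  | tail _ t ih => exact ih.head ⟨t.2.1, t.1, t.2.2.symm⟩

/-- The kernel of the action on the components of the commuting graph. -/
def compKer : Subgroup G where
  carrier := {g | ∀ a ∈ D, Relation.ReflTransGen (CommRel D) a (g * a * g⁻¹)}
  one_mem' := fun a _ => by simpa using Relation.ReflTransGen.refl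
  mul_mem' := fun {g h} hg hh a ha => by
    have := (hg _ ha).trans (hD.commRel_conj g (hh a ha))
    convert this using 1; group
  inv_mem' := fun {g} hg a ha => by
    have := commRel_symm (hg _ (hD.conj g⁻¹ a ha))
    convert this using 1; group

theorem compKer_normal : hD.compKer.Normal := ⟨fun n hn g a ha => by
  have := hD.commRel_conj g (hn _ (hD.conj g⁻¹ a ha))
  convert this using 1 <;> group⟩

theorem mul_mem_compKer {a b : G} (ha : a ∈ D) (hb : b ∈ D) (hab : Commute a b) :
    b * a ∈ hD.compKer := by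
  intro c hc
  have sa := hD.sq a ha
  have sb := hD.sq b hb
  have hc' := hD.cj_mem (hD.cj_mem hc ha) hb
  rw [← cj_cj_eq_conj c sa sb]
  by_cases h1 : Commute c a
  · refine (Relation.ReflTransGen.single ⟨hc, ha, h1⟩).tail ⟨ha, hc', ?_⟩
    exact commute_cj (commute_cj h1.symm (Commute.refl a)) hab
  · by_cases h2 : Commute c b
    · refine (Relation.ReflTransGen.single ⟨hc, hb, h2⟩).tail ⟨hb, hc', ?_⟩
      exact commute_cj (commute_cj h2.symm hab.symm) (Commute.refl b)
    · exact Relation.ReflTransGen.single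
        ⟨hc, hc', (hD.commute_cj_cj ha hb hc hab (iff_of_false h1 h2)).symm⟩

/-- If the commutator subgroup is perfect, the commuting graph of a generating class is
connected. -/
theorem conn_of_perfect [Finite G] (hgen : Subgroup.closure D = ⊤)
    (htr : ∀ a ∈ D, ∀ b ∈ D, ∃ g : G, g * a * g⁻¹ = b)
    (hperf : ⁅commutator G, commutator G⁆ = commutator G) :
    ∀ a ∈ D, ∀ b ∈ D, Relation.ReflTransGen (CommRel D) a b := by
  have : Fact (Nat.Prime 3) := ⟨Nat.prime_three⟩
  have hn := hD.compKer_normal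
  set f := QuotientGroup.mk' hD.compKer with hf
  have hf' : Function.Surjective f := QuotientGroup.mk'_surjective _
  have hD' := hD.image f hf'
  have h3 := hall hD'.conj hD'.sq (by
    rintro _ ⟨a, ha, rfl⟩ _ ⟨b, hb, rfl⟩
    rcases hD.dich a ha b hb with h | h
    · have : f a = f b := by
        rw [hf, QuotientGroup.mk'_apply, QuotientGroup.mk'_apply, QuotientGroup.eq, hD.inv_eq ha]
        exact hD.mul_mem_compKer hb ha h.symm
      rw [this]
    · have := congrArg f h
      simpa [cj] using this)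
  have h4 : (commutator G).map f ≤ Subgroup.closure {x | ∃ a ∈ f '' D, ∃ b ∈ f '' D, x = a * b} := by
    refine (Subgroup.map_mono (commutator_le_closure_prods hD hgen)).trans ?_
    rw [MonoidHom.map_closure]
    refine Subgroup.closure_mono ?_
    rintro _ ⟨_, ⟨a, ha, b, hb, rfl⟩, rfl⟩
    exact ⟨_, ⟨a, ha, rfl⟩, _, ⟨b, hb, rfl⟩, map_mul f a b⟩
  have h5 : IsPGroup 3 ((commutator G).map f) := h3.to_le h4
  have h6 : ⁅(commutator G).map f, (commutator G).map f⁆ = (commutator G).map f := by
    rw [← Subgroup.map_commutator, hperf]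
  have h7 : (commutator G).map f = ⊥ := by
    have := h5.isNilpotent
    exact eq_bot_of_perfect_of_solvable h6 inferInstance
  rw [Subgroup.map_eq_bot_iff, hf, QuotientGroup.ker_mk'] at h7
  intro a ha b hb
  by_cases hab : Commute a b
  · exact Relation.ReflTransGen.single ⟨ha, hb, hab⟩
  · obtain ⟨g, hg⟩ := htr a ha b hb
    have := h7 (mul_mem_commutator (hD.sq a ha) hg) a ha
    rwa [hD.mul_conj ha hb hab] at this

end TT

theorem isSolvable_of_isPGroup [Finite G] {p : ℕ} [Fact p.Prime] {H : Subgroup G}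
    (h : IsPGroup p H) : Group.IsSolvable H := by
  have := h.isNilpotent
  infer_instance

/-- The group-theoretic hypotheses imply the graph-theoretic ones. -/
theorem fis_of_hyp [Finite G] {D : Set G} (hD : Cfsg.IsThreeTranspositionClass D)
    (hsol : ∀ N : Subgroup G, N.Normal → N ≤ commutator G → Group.IsSolvable N → N = ⊥)
    (hperf : ⁅commutator G, commutator G⁆ = commutator G) (hne : commutator G ≠ ⊥) : Fis D := by
  have : Fact (Nat.Prime 3) := ⟨Nat.prime_three⟩
  have hT := tt_of_class hD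
  have htr := trans_of_class hD
  have key : ∀ (R : G → G → Prop) (p : ℕ) [Fact p.Prime],
      (Subgroup.closure {x : G | ∃ a ∈ D, ∃ b ∈ D, R a b ∧ x = a * b}).Normal ∧
      IsPGroup p (Subgroup.closure {x : G | ∃ a ∈ D, ∃ b ∈ D, R a b ∧ x = a * b}) →
      ∀ a ∈ D, ∀ b ∈ D, R a b → a = b := by
    intro R p _ h a ha b hb hab
    have h1 := hsol _ h.1 (by
      rw [Subgroup.closure_le]
      rintro _ ⟨a, ha, b, hb, -, rfl⟩
      obtain ⟨g, hg⟩ := htr a ha b hb
      exact mul_mem_commutator (hT.sq a ha) hg) (isSolvable_of_isPGroup h.2)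
    have h2 : a * b ∈ (⊥ : Subgroup G) := by
      rw [← h1]; exact Subgroup.subset_closure ⟨a, ha, b, hb, hab, rfl⟩
    rw [Subgroup.mem_bot, ← hT.sq a ha] at h2
    exact (mul_left_cancel h2).symm
  refine ⟨hT, hD.2.2, htr, key _ 2 hT.tau_closure, key _ 3 hT.theta_closure,
    hT.conn_of_perfect hD.2.2 htr hperf, ?_⟩
  by_contra h
  push Not at h
  refine hne (le_bot_iff.mp ((commutator_le_closure_prods hT hD.2.2).trans ?_))
  rw [Subgroup.closure_le]
  rintro _ ⟨a, ha, b, hb, rfl⟩
  rw [h b hb a ha, hT.sq a ha]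
  exact Subgroup.one_mem _

/-- The hypotheses of Fischer's theorems. -/
theorem fis_of_sol [Finite G] {D : Set G} (hD : Cfsg.IsThreeTranspositionClass D)
    (hsol : ∀ N : Subgroup G, N.Normal → Group.IsSolvable N → N = ⊥)
    (hperf : ⁅commutator G, commutator G⁆ = commutator G) : Fis D := by
  refine fis_of_hyp hD (fun N h _ => hsol N h) hperf fun h => ?_
  have hs : Group.IsSolvable G := ⟨⟨1, by rw [derivedSeries_one, h]⟩⟩
  have h1 := hsol ⊤ inferInstance inferInstance
  obtain ⟨d, hd, -⟩ := hD.2.1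
  have h2 : d ∈ (⊥ : Subgroup G) := by rw [← h1]; trivial
  exact CL.Invol.ne_one_of_orderOf_two (hD.1.1 d hd) (Subgroup.mem_bot.mp h2)

/-- The hypotheses of the rank three theorem. -/
theorem fis_of_simple [Finite G] {D : Set G} (hD : Cfsg.IsThreeTranspositionClass D)
    (hsimple : IsSimpleGroup (commutator G)) (hnonab : ∃ x y : commutator G, x * y ≠ y * x) :
    Fis D := by
  obtain ⟨x, y, hxy⟩ := hnonab
  have hns : ¬ Group.IsSolvable (commutator G) := fun h =>
    hxy ((IsSimpleGroup.comm_iff_isSolvable.mpr h) x y)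
  refine fis_of_hyp hD (fun N hN hle hs => ?_) ?_ fun h => ?_
  · rcases (hN.subgroupOf (commutator G)).eq_bot_or_eq_top with h | h
    · rwa [Subgroup.subgroupOf_eq_bot, disjoint_iff, inf_eq_left.mpr hle] at h
    · rw [Subgroup.subgroupOf_eq_top] at h
      rw [le_antisymm hle h] at hs
      exact absurd hs hns
  · rcases (inferInstance : (commutator (commutator G)).Normal).eq_bot_or_eq_top with h | h
    · exact absurd ⟨⟨1, by rw [derivedSeries_one, h]⟩⟩ hns
    · have := congrArg (Subgroup.map (commutator G).subtype) h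
      rwa [commutator_def (commutator G), Subgroup.map_commutator, ← MonoidHom.range_eq_map,
        Subgroup.range_subtype] at this
  · apply hns
    rw [h]
    infer_instance

end CL.Fischer
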