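import Cfsg.Agent.Base

/-!
# A certificate checker for identities between conjugates of involutions

`cj a b = b * a * b` is the conjugate of `a` by the involution `b`.  A certificate is a numbered
list of facts `cj (v a) (v b) = v c` about points `v 0, v 1, …` (the generators, followed by
points defined as conjugates of earlier points), each with a justification.
-/

set_option autoImplicit false

namespace CL.Kei

variable {G : Type*} [Group G]

/-- Conjugate of `a` by the involution `b`. -/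
def cj (a b : G) : G := b * a * b

theorem cj_def (a b : G) : cj a b = b * a * b := rfl

theorem cj_self {a : G} (ha : a * a = 1) : cj a a = a := by
  rw [cj, ha, one_mul]

theorem cj_cj {a b : G} (hb : b * b = 1) : cj (cj a b) b = a := by
  calc cj (cj a b) b = (b * b) * a * (b * b) := by simp only [cj, mul_assoc]
    _ = a := by rw [hb, one_mul, mul_one]

theorem cj_dist {a b c : G} (hc : c * c = 1) : cj (cj a b) c = cj (cj a c) (cj b c) := by
  calc cj (cj a b) c = c * b * 1 * a * 1 * b * c := by simp only [cj, mul_assoc, one_mul]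
    _ = cj (cj a c) (cj b c) := by rw [← hc]; simp only [cj, mul_assoc]

theorem cj_sq {a b : G} (ha : a * a = 1) (hb : b * b = 1) : cj a b * cj a b = 1 := by
  calc cj a b * cj a b = b * (a * (b * b) * a) * b := by simp only [cj, mul_assoc]
    _ = 1 := by rw [hb, mul_one, ha, mul_one, hb]

theorem cj_eq_iff_commute {a b : G} (hb : b * b = 1) : cj a b = a ↔ Commute a b := by
  constructor
  · intro h
    have h1 : b * a * b = a := h
    calc a * b = (b * a * b) * b := by rw [h1]
      _ = b * a * (b * b) := by simp only [mul_assoc]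
      _ = b * a := by rw [hb, mul_one]
  · intro h
    calc cj a b = b * (a * b) := by simp only [cj, mul_assoc]
      _ = b * (b * a) := by rw [h.eq]
      _ = a := by rw [← mul_assoc, hb, one_mul]

theorem cj_csym {a b : G} (ha : a * a = 1) (hb : b * b = 1) (h : cj a b = a) : cj b a = b :=
  (cj_eq_iff_commute ha).mpr ((cj_eq_iff_commute hb).mp h).symm

theorem cj_eq_conj {a b : G} (hb : b * b = 1) : cj a b = b * a * b⁻¹ := by
  rw [inv_eq_of_mul_eq_one_right hb, cj]

/-- Terms: iterated conjugates of generators. -/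
inductive Tm
  | g (i : ℕ)
  | c (s t : Tm)

/-- Value of a term. -/
def Tm.eval (gen : ℕ → G) : Tm → G
  | .g i => gen i
  | .c s t => cj (s.eval gen) (t.eval gen)

/-- The condition under which point `i` is a defined point. -/
def isDef (ng : ℕ) (Df : ℕ → ℕ) (i : ℕ) : Bool :=
  Nat.ble ng i && (Nat.blt (Nat.mod (Df i) 65536) i && Nat.blt (Nat.div (Df i) 65536) i)

/-- The table of values of the first `n` points. -/
noncomputable def valAux (gen : ℕ → G) (ng : ℕ) (Df : ℕ → ℕ) : ℕ → ℕ → G
  | 0 => gen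
  | n + 1 => fun i =>
      if i = n ∧ isDef ng Df n = true then
        cj (valAux gen ng Df n (Df n % 65536)) (valAux gen ng Df n (Df n / 65536))
      else valAux gen ng Df n i

/-- The value of point `i`. -/
noncomputable def val (gen : ℕ → G) (ng : ℕ) (Df : ℕ → ℕ) (i : ℕ) : G :=
  valAux gen ng Df (i + 1) i

theorem valAux_succ (gen : ℕ → G) (ng : ℕ) (Df : ℕ → ℕ) (n i : ℕ) :
    valAux gen ng Df (n + 1) i = if i = n ∧ isDef ng Df n = true then
        cj (valAux gen ng Df n (Df n % 65536)) (valAux gen ng Df n (Df n / 65536))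
      else valAux gen ng Df n i := rfl

theorem valAux_eq (gen : ℕ → G) (ng : ℕ) (Df : ℕ → ℕ) {i n : ℕ} (h : i < n) :
    valAux gen ng Df n i = val gen ng Df i := by
  induction n, h using Nat.le_induction with
  | base => rfl
  | succ n hn ih => rw [valAux_succ, if_neg (fun h => by omega), ih]

theorem valAux_of_le (gen : ℕ → G) (ng : ℕ) (Df : ℕ → ℕ) {i : ℕ} :
    ∀ n, n ≤ i → valAux gen ng Df n i = gen i
  | 0, _ => rfl
  | n + 1, h => by rw [valAux_succ, if_neg (fun h => by omega), valAux_of_le gen ng Df n (by omega)]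

theorem isDef_iff {ng : ℕ} {Df : ℕ → ℕ} {i : ℕ} :
    isDef ng Df i = true ↔ ng ≤ i ∧ Df i % 65536 < i ∧ Df i / 65536 < i := by
  simp only [isDef, Bool.and_eq_true, Nat.ble_eq, Nat.blt_eq]
  rfl

theorem val_of_isDef (gen : ℕ → G) {ng : ℕ} {Df : ℕ → ℕ} {i : ℕ} (h : isDef ng Df i = true) :
    val gen ng Df i = cj (val gen ng Df (Df i % 65536)) (val gen ng Df (Df i / 65536)) := by
  have h' := isDef_iff.mp h
  rw [val, valAux_succ, if_pos ⟨rfl, h⟩, valAux_eq _ _ _ h'.2.1, valAux_eq _ _ _ h'.2.2]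

theorem val_of_not (gen : ℕ → G) {ng : ℕ} {Df : ℕ → ℕ} {i : ℕ} (h : ¬ isDef ng Df i = true) :
    val gen ng Df i = gen i := by
  rw [val, valAux_succ, if_neg (fun h' => h h'.2), valAux_of_le _ _ _ _ le_rfl]

theorem val_prop {P : G → Prop} (hP : ∀ a b, P a → P b → P (cj a b)) {gen : ℕ → G}
    (hgen : ∀ i, P (gen i)) (ng : ℕ) (Df : ℕ → ℕ) (i : ℕ) : P (val gen ng Df i) := by
  induction i using Nat.strong_induction_on with
  | _ i ih =>
    by_cases h : isDef ng Df i = true
    · have h' := isDef_iff.mp h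
      rw [val_of_isDef gen h]
      exact hP _ _ (ih _ h'.2.1) (ih _ h'.2.2)
    · rw [val_of_not gen h]; exact hgen i

/-- The term `s` is the definition of point `i`. -/
def Tm.isPt (ng : ℕ) (Df : ℕ → ℕ) : Tm → ℕ → Bool
  | .g j, i => Nat.beq i j && Nat.blt j ng
  | .c s t, i => isDef ng Df i &&
      (s.isPt ng Df (Nat.mod (Df i) 65536) && t.isPt ng Df (Nat.div (Df i) 65536))

theorem Tm.isPt_sound (gen : ℕ → G) {ng : ℕ} {Df : ℕ → ℕ} :
    ∀ (s : Tm) (i : ℕ), s.isPt ng Df i = true → val gen ng Df i = s.eval gen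
  | .g j, i, h => by
    simp only [Tm.isPt, Bool.and_eq_true, Nat.beq_eq, Nat.blt_eq] at h
    obtain ⟨rfl, h2⟩ := h
    exact val_of_not gen (fun h' => by have := (isDef_iff.mp h').1; omega)
  | .c s t, i, h => by
    simp only [Tm.isPt, Bool.and_eq_true] at h
    rw [val_of_isDef gen h.1]
    show _ = cj (s.eval gen) (t.eval gen)
    rw [← Tm.isPt_sound gen s _ h.2.1, ← Tm.isPt_sound gen t _ h.2.2]
    rfl

/-- All members of a list satisfy a predicate (unfolds to a conjunction). -/
def All {α : Type*} (P : α → Prop) : List α → Prop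
  | [] => True
  | x :: xs => P x ∧ All P xs

theorem all_iff {α : Type*} {P : α → Prop} : ∀ {l : List α}, All P l ↔ ∀ x ∈ l, P x
  | [] => by simp [All]
  | x :: xs => by rw [List.forall_mem_cons, ← all_iff]; rfl

/-- A triple of terms read as the equation `cj s t = u`. -/
def Holds (gen : ℕ → G) (h : Tm × Tm × Tm) : Prop :=
  cj (h.1.eval gen) (h.2.1.eval gen) = h.2.2.eval gen

/-- First field of a fact. -/
def fA (x : ℕ) : ℕ := Nat.mod x 65536
/-- Second field of a fact. -/
def fB (x : ℕ) : ℕ := Nat.mod (Nat.div x 65536) 65536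
/-- Third field of a fact. -/
def fC (x : ℕ) : ℕ := Nat.div x 4294967296

/-- The fact with code `x` is the triple of terms `h`. -/
def isFact (ng : ℕ) (Df : ℕ → ℕ) (h : Tm × Tm × Tm) (x : ℕ) : Bool :=
  h.1.isPt ng Df (fA x) && (h.2.1.isPt ng Df (fB x) && h.2.2.isPt ng Df (fC x))

/-- Check one rule: `x` is the fact to be justified, `p q r s` the premises. -/
def rule (mouf : Bool) (ng : ℕ) (Df : ℕ → ℕ) (hyps : List (Tm × Tm × Tm)) (k h x p q r s : ℕ) :
    Bool :=
  bif Nat.beq k 5 then
    Nat.beq (fA p) (fA q) && (Nat.beq (fB p) (fA r) && (Nat.beq (fC p) (fA s) &&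
      (Nat.beq (fB q) (fB r) && (Nat.beq (fB q) (fB s) && (Nat.beq (fC q) (fA x) &&
        (Nat.beq (fC r) (fB x) && Nat.beq (fC s) (fC x)))))))
  else bif Nat.beq k 6 then
    Nat.beq (fA p) (fA q) && (Nat.beq (fB p) (fA r) && (Nat.beq (fC p) (fA x) &&
      (Nat.beq (fB q) (fB x) && (Nat.beq (fB r) (fB x) && (Nat.beq (fC q) (fA s) &&
        (Nat.beq (fC r) (fB s) && Nat.beq (fC s) (fC x)))))))
  else bif Nat.beq k 3 then
    Nat.beq (fA p) (fC x) && (Nat.beq (fB p) (fB x) && Nat.beq (fC p) (fA x))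
  else bif Nat.beq k 11 then
    mouf && (Nat.beq (fA p) (fB x) && (Nat.beq (fB p) (fA x) && Nat.beq (fC p) (fC x)))
  else bif Nat.beq k 4 then
    Nat.beq (fA p) (fB x) && (Nat.beq (fB p) (fA x) && (Nat.beq (fC p) (fB x) &&
      Nat.beq (fC x) (fA x)))
  else bif Nat.beq k 0 then
    isDef ng Df (fC x) && (Nat.beq (Nat.mod (Df (fC x)) 65536) (fA x) &&
      Nat.beq (Nat.div (Df (fC x)) 65536) (fB x))
  else bif Nat.beq k 2 then
    Nat.beq (fA x) (fB x) && Nat.beq (fB x) (fC x)
  else bif Nat.beq k 7 then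
    Nat.beq (fA p) (fA q) && (Nat.beq (fB p) (fB q) && (Nat.beq (fC p) (fA x) &&
      (Nat.beq (fA x) (fB x) && Nat.beq (fC q) (fC x))))
  else bif Nat.beq k 8 then
    Nat.beq (fA p) (fA q) && (Nat.beq (fA q) (fB q) && (Nat.beq (fC q) (fA x) &&
      (Nat.beq (fB p) (fB x) && Nat.beq (fC p) (fC x))))
  else bif Nat.beq k 9 then
    Nat.beq (fB p) (fA q) && (Nat.beq (fA q) (fB q) && (Nat.beq (fC q) (fB x) &&
      (Nat.beq (fA p) (fA x) && Nat.beq (fC p) (fC x))))
  else bif Nat.beq k 10 then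
    Nat.beq (fC p) (fA q) && (Nat.beq (fA q) (fB q) && (Nat.beq (fC q) (fC x) &&
      (Nat.beq (fA p) (fA x) && Nat.beq (fB p) (fB x))))
  else
    match hyps[h]? with
    | some t => isFact ng Df t x
    | none => false

section Sound

variable {P : G → Prop} (hsq : ∀ a, P a → a * a = 1) {mouf : Bool}
  (hm : mouf = true → ∀ a b, P a → P b → cj a b = cj b a)
  {gen : ℕ → G} {ng : ℕ} {Df : ℕ → ℕ} (hv : ∀ i, P (val gen ng Df i))
  {hyps : List (Tm × Tm × Tm)} (hh : All (Holds gen) hyps)

/-- The meaning of the fact with code `x`. -/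
def Sem (gen : ℕ → G) (ng : ℕ) (Df : ℕ → ℕ) (x : ℕ) : Prop :=
  cj (val gen ng Df (fA x)) (val gen ng Df (fB x)) = val gen ng Df (fC x)

theorem isFact_iff {h : Tm × Tm × Tm} {x : ℕ} (hx : isFact ng Df h x = true) :
    Sem gen ng Df x ↔ Holds gen h := by
  simp only [isFact, Bool.and_eq_true] at hx
  rw [Sem, Holds, Tm.isPt_sound gen _ _ hx.1, Tm.isPt_sound gen _ _ hx.2.1,
    Tm.isPt_sound gen _ _ hx.2.2]

include hsq hm hv hh in
theorem rule_sound {k h x p q r s : ℕ} (hr : rule mouf ng Df hyps k h x p q r s = true)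
    (hp : k ≠ 0 → k ≠ 2 → k ≠ 1 → Sem gen ng Df p)
    (hq : 5 ≤ k → k ≤ 10 → Sem gen ng Df q)
    (hr' : k = 5 ∨ k = 6 → Sem gen ng Df r) (hs : k = 5 ∨ k = 6 → Sem gen ng Df s) :
    Sem gen ng Df x := by
  have sq : ∀ i, val gen ng Df i * val gen ng Df i = 1 := fun i => hsq _ (hv i)
  unfold rule at hr
  simp only [Bool.cond_eq_ite, Nat.beq_eq] at hr
  by_cases h5 : k = 5
  · rw [if_pos h5] at hr
    simp only [Bool.and_eq_true, Nat.beq_eq] at hr
    obtain ⟨e1, e2, e3, e4, e5, e6, e7, e8⟩ := hr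
    have a1 := hp (by omega) (by omega) (by omega)
    have a2 := hq (by omega) (by omega)
    have a3 := hr' (by omega)
    have a4 := hs (by omega)
    unfold Sem at *
    rw [← e6, ← e7, ← e8, ← a2, ← a3, ← a4, ← e1, ← e2, ← e3, ← e4, ← e5, ← a1, ← cj_dist (sq _)]
  rw [if_neg h5] at hr
  by_cases h6 : k = 6
  · rw [if_pos h6] at hr
    simp only [Bool.and_eq_true, Nat.beq_eq] at hr
    obtain ⟨e1, e2, e3, e4, e5, e6, e7, e8⟩ := hr
    have a1 := hp (by omega) (by omega) (by omega)
    have a2 := hq (by omega) (by omega)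
    have a3 := hr' (by omega)
    have a4 := hs (by omega)
    unfold Sem at *
    rw [← e8, ← a4, ← e6, ← e7, ← a2, ← a3, ← e1, ← e2, ← e3, e4, e5, ← a1, ← cj_dist (sq _)]
  rw [if_neg h6] at hr
  by_cases h3 : k = 3
  · rw [if_pos h3] at hr
    simp only [Bool.and_eq_true, Nat.beq_eq] at hr
    obtain ⟨e1, e2, e3⟩ := hr
    have a1 := hp (by omega) (by omega) (by omega)
    unfold Sem at *
    rw [← e1, ← e2, ← e3, ← a1, cj_cj (sq _)]
  rw [if_neg h3] at hr
  by_cases h11 : k = 11
  · rw [if_pos h11] at hr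
    simp only [Bool.and_eq_true, Nat.beq_eq] at hr
    obtain ⟨e0, e1, e2, e3⟩ := hr
    have a1 := hp (by omega) (by omega) (by omega)
    unfold Sem at *
    rw [← e1, ← e2, ← e3, ← a1, hm e0 _ _ (hv _) (hv _)]
  rw [if_neg h11] at hr
  by_cases h4 : k = 4
  · rw [if_pos h4] at hr
    simp only [Bool.and_eq_true, Nat.beq_eq] at hr
    obtain ⟨e1, e2, e3, e4⟩ := hr
    have a1 := hp (by omega) (by omega) (by omega)
    unfold Sem at *
    rw [e1, e2, e3] at a1
    rw [e4]
    exact cj_csym (sq _) (sq _) a1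
  rw [if_neg h4] at hr
  by_cases h0 : k = 0
  · rw [if_pos h0] at hr
    simp only [Bool.and_eq_true, Nat.beq_eq] at hr
    obtain ⟨e1, e2, e3⟩ := hr
    unfold Sem
    rw [val_of_isDef gen e1, ← e2, ← e3]
    rfl
  rw [if_neg h0] at hr
  by_cases h2 : k = 2
  · rw [if_pos h2] at hr
    simp only [Bool.and_eq_true, Nat.beq_eq] at hr
    obtain ⟨e1, e2⟩ := hr
    unfold Sem
    rw [← e2, ← e1, cj_self (sq _)]
  rw [if_neg h2] at hr
  by_cases h7 : k = 7
  · rw [if_pos h7] at hr
    simp only [Bool.and_eq_true, Nat.beq_eq] at hr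
    obtain ⟨e1, e2, e3, e4, e5⟩ := hr
    have a1 := hp (by omega) (by omega) (by omega)
    have a2 := hq (by omega) (by omega)
    unfold Sem at *
    rw [← e4, cj_self (sq _), ← e3, ← e5, ← a1, ← a2, e1, e2]
  rw [if_neg h7] at hr
  by_cases h8 : k = 8
  · rw [if_pos h8] at hr
    simp only [Bool.and_eq_true, Nat.beq_eq] at hr
    obtain ⟨e1, e2, e3, e4, e5⟩ := hr
    have a1 := hp (by omega) (by omega) (by omega)
    have a2 := hq (by omega) (by omega)
    unfold Sem at *
    rw [← e2, cj_self (sq _)] at a2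
    rw [← e3, ← e4, ← e5, ← a2, ← e1, a1]
  rw [if_neg h8] at hr
  by_cases h9 : k = 9
  · rw [if_pos h9] at hr
    simp only [Bool.and_eq_true, Nat.beq_eq] at hr
    obtain ⟨e1, e2, e3, e4, e5⟩ := hr
    have a1 := hp (by omega) (by omega) (by omega)
    have a2 := hq (by omega) (by omega)
    unfold Sem at *
    rw [← e2, cj_self (sq _)] at a2
    rw [← e3, ← e4, ← e5, ← a2, ← e1, a1]
  rw [if_neg h9] at hr
  by_cases h10 : k = 10
  · rw [if_pos h10] at hr
    simp only [Bool.and_eq_true, Nat.beq_eq] at hr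
    obtain ⟨e1, e2, e3, e4, e5⟩ := hr
    have a1 := hp (by omega) (by omega) (by omega)
    have a2 := hq (by omega) (by omega)
    unfold Sem at *
    rw [← e2, cj_self (sq _)] at a2
    rw [← e3, ← e4, ← e5, ← a2, ← e1, a1]
  rw [if_neg h10] at hr
  split at hr
  · rename_i t ht
    exact (isFact_iff hr).mpr (all_iff.mp hh t (List.mem_of_getElem? ht))
  · exact absurd hr (by simp)

end Sound

/-- Check step `n`: `F` lists the facts, `J` the justifications (rule and four references,
16 bits each). -/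
def step (mouf : Bool) (ng : ℕ) (Df : ℕ → ℕ) (hyps : List (Tm × Tm × Tm)) (F : ℕ → ℕ)
    (n j : ℕ) : Bool :=
  (Nat.ble (Nat.mod j 65536) 2 ||
    (Nat.blt (Nat.mod (Nat.div j 65536) 65536) n &&
    (Nat.blt (Nat.mod (Nat.div j 4294967296) 65536) n &&
    (Nat.blt (Nat.mod (Nat.div j 281474976710656) 65536) n &&
      Nat.blt (Nat.div j 18446744073709551616) n)))) &&
  rule mouf ng Df hyps (Nat.mod j 65536) (Nat.div j 65536) (F n)
    (F (Nat.mod (Nat.div j 65536) 65536)) (F (Nat.mod (Nat.div j 4294967296) 65536))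
    (F (Nat.mod (Nat.div j 281474976710656) 65536)) (F (Nat.div j 18446744073709551616))

/-- `f` holds at `lo, …, lo + 2 ^ d - 1`, as far as these are below `M`. -/
def allTree (f : ℕ → Bool) (M : ℕ) : ℕ → ℕ → Bool
  | 0, lo => bif Nat.blt lo M then f lo else true
  | d + 1, lo => bif Nat.blt lo M then
      allTree f M d lo && allTree f M d (Nat.add lo (Nat.pow 2 d)) else true

theorem allTree_sound {f : ℕ → Bool} {M : ℕ} :
    ∀ (d lo : ℕ), allTree f M d lo = true → ∀ n, lo ≤ n → n < lo + 2 ^ d → n < M → f n = true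
  | 0, lo, h, n, h1, h2, h3 => by
    have : n = lo := by omega
    subst this
    simp only [allTree, Bool.cond_eq_ite, Nat.blt_eq] at h
    rwa [if_pos h3] at h
  | d + 1, lo, h, n, h1, h2, h3 => by
    simp only [allTree, Bool.cond_eq_ite, Nat.blt_eq] at h
    rw [if_pos (by omega), Bool.and_eq_true] at h
    by_cases hn : n < lo + 2 ^ d
    · exact allTree_sound d lo h.1 n h1 hn h3
    · refine allTree_sound d _ h.2 n (by show lo + 2 ^ d ≤ n; omega) ?_ h3
      show n < lo + 2 ^ d + 2 ^ d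
      rw [pow_succ] at h2
      omega

/-- Entry `i` of width `w` bits of the packed array `T`. -/
def get (T w i : ℕ) : ℕ := Nat.mod (Nat.shiftRight T (Nat.mul w i)) (Nat.pow 2 w)

/-- Entry `i` of an array packed into a list of chunks of `m` entries. -/
def getL (T : List ℕ) (m w i : ℕ) : ℕ := get (T.getD (Nat.div i m) 0) w (Nat.mod i m)

theorem facts_sound {P : G → Prop} (hP : ∀ a b, P a → P b → P (cj a b))
    (hsq : ∀ a, P a → a * a = 1) {mouf : Bool}
    (hm : mouf = true → ∀ a b, P a → P b → cj a b = cj b a)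
    {gen : ℕ → G} (hgen : ∀ i, P (gen i)) {ng : ℕ} {Df : ℕ → ℕ}
    {hyps : List (Tm × Tm × Tm)} (hh : All (Holds gen) hyps) {F J : ℕ → ℕ} {M : ℕ}
    (hc : ∀ n, n < M → step mouf ng Df hyps F n (J n) = true) :
    ∀ n, n < M → Sem gen ng Df (F n) := by
  intro n
  induction n using Nat.strong_induction_on with
  | _ n ih =>
    intro hn
    have h := hc n hn
    simp only [step, Bool.and_eq_true, Bool.or_eq_true, Nat.ble_eq, Nat.blt_eq] at h
    obtain ⟨h1, h2⟩ := h
    refine rule_sound hsq hm (val_prop hP hgen ng Df) hh h2 ?_ ?_ ?_ ?_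
    · intro a b c
      rcases h1 with h1 | h1
      · omega
      · exact ih _ h1.1 (h1.1.trans hn)
    · intro a b
      rcases h1 with h1 | h1
      · omega
      · exact ih _ h1.2.1 (h1.2.1.trans hn)
    · intro a
      rcases h1 with h1 | h1
      · omega
      · exact ih _ h1.2.2.1 (h1.2.2.1.trans hn)
    · intro a
      rcases h1 with h1 | h1
      · omega
      · exact ih _ h1.2.2.2 (h1.2.2.2.trans hn)

/-- Check a whole certificate: all `M ≤ 65536` steps, and that the goals are among the facts. -/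
def check (mouf : Bool) (ng : ℕ) (Df : ℕ → ℕ) (hyps : List (Tm × Tm × Tm)) (F J : ℕ → ℕ) (M : ℕ)
    (goals : List ((Tm × Tm × Tm) × ℕ)) : Bool :=
  Nat.ble M 65536 && (allTree (fun n => step mouf ng Df hyps F n (J n)) M 16 0 &&
    goals.all fun t => Nat.blt t.2 M && isFact ng Df t.1 (F t.2))

theorem check_sound {P : G → Prop} (hP : ∀ a b, P a → P b → P (cj a b))
    (hsq : ∀ a, P a → a * a = 1) {mouf : Bool}
    (hm : mouf = true → ∀ a b, P a → P b → cj a b = cj b a)
    {gen : ℕ → G} (hgen : ∀ i, P (gen i)) {ng : ℕ} {Df : ℕ → ℕ}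
    {hyps : List (Tm × Tm × Tm)} (hh : All (Holds gen) hyps) {F J : ℕ → ℕ} {M : ℕ}
    {goals : List ((Tm × Tm × Tm) × ℕ)}
    (hc : check mouf ng Df hyps F J M goals = true) :
    All (fun t => Holds gen t.1) goals := by
  simp only [check, Bool.and_eq_true, Nat.ble_eq, List.all_eq_true, Nat.blt_eq] at hc
  obtain ⟨h1, h2, h3⟩ := hc
  rw [all_iff]
  intro t ht
  refine (isFact_iff (h3 t ht).2).mp (facts_sound hP hsq hm hgen hh (M := M) (J := J) ?_ _
    (h3 t ht).1)
  intro n hn
  exact allTree_sound 16 0 h2 n (Nat.zero_le _) (by omega) hn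

/-- Generators given by a non-empty list. -/
def genL (a : G) (l : List G) (i : ℕ) : G := (a :: l).getD i a

omit [Group G] in
theorem genL_prop {P : G → Prop} {a : G} {l : List G} (h : All P (a :: l)) (i : ℕ) :
    P (genL a l i) := by
  rw [all_iff] at h
  unfold genL
  rw [List.getD_eq_getElem?_getD]
  cases hi : (a :: l)[i]? with
  | none => exact h a List.mem_cons_self
  | some b => exact h b (List.mem_of_getElem? hi)

/-- The form used for plain involutions (no symmetry rule). -/
theorem check_sound_inv {a : G} {l : List G} (hgen : All (fun x : G => x * x = 1) (a :: l))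
    {ng : ℕ} {Df : ℕ → ℕ} {hyps : List (Tm × Tm × Tm)} (hh : All (Holds (genL a l)) hyps)
    {F J : ℕ → ℕ} {M : ℕ} {goals : List ((Tm × Tm × Tm) × ℕ)}
    (hc : check false ng Df hyps F J M goals = true) :
    All (fun t => Holds (genL a l) t.1) goals :=
  check_sound (P := fun x : G => x * x = 1) (fun _ _ => cj_sq) (fun _ h => h)
    (fun h => absurd h (by simp)) (genL_prop hgen) hh hc

end CL.Kei
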